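import Groth.Agent.UnrStalkLib.Locus
import Groth.Agent.DepthLib.SmoothBCScheme
import Groth.Agent.FlatLib.FibCharts
import Mathlib.AlgebraicGeometry.Morphisms.Etale

/-!
# Smoothness and etaleness through the fibres
-/

set_option autoImplicit false
set_option linter.style.haveILetI false
universe u
open CategoryTheory CategoryTheory.Limits AlgebraicGeometry TopologicalSpace
open RichLib.UnrLocus

noncomputable section

namespace Unram17Lib

theorem lfp_of_comp_lft {A B C : Scheme.{u}} (f : A ⟶ B) (g : B ⟶ C) [LocallyOfFiniteType g]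
    [LocallyOfFinitePresentation (f ≫ g)] : LocallyOfFinitePresentation f := by
  rw [HasRingHomProperty.iff_exists_appLE (P := @LocallyOfFinitePresentation)
    ((RingHom.finitePresentation_stableUnderComposition.stableUnderCompositionWithLocalizationAway
      RingHom.finitePresentation_holdsForLocalizationAway).1)]
  intro x
  obtain ⟨W, hW, hxW, -⟩ := exists_isAffineOpen_mem_and_subset (U := ⊤) (x := g (f x)) trivial
  obtain ⟨V, hV, hxV, hVW⟩ := exists_isAffineOpen_mem_and_subset (U := g ⁻¹ᵁ W) (x := f x) hxW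
  obtain ⟨U, hU, hxU, hUV⟩ := exists_isAffineOpen_mem_and_subset (U := f ⁻¹ᵁ V) (x := x) hxV
  refine ⟨⟨V, hV⟩, ⟨U, hU⟩, hxU, hUV, ?_⟩
  have h1 := HasRingHomProperty.appLE (P := @LocallyOfFinitePresentation) (f ≫ g) ‹_› ⟨W, hW⟩ ⟨U, hU⟩
    (fun _ hy => hVW (hUV hy))
  rw [← Scheme.Hom.appLE_comp_appLE f g W V U hVW hUV, CommRingCat.hom_comp] at h1
  exact RingHom.FinitePresentation.of_comp_finiteType _ h1
    (HasRingHomProperty.appLE (P := @LocallyOfFiniteType) g ‹_› ⟨W, hW⟩ ⟨V, hV⟩ hVW)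

open AlgebraicGeometry CategoryTheory in
/-- Let f : X → Y and g : Y → S be morphisms of schemes. If the composite X → S is locally of finite
presentation and g is locally of finite type, then f is locally of finite presentation. -/

theorem smoothLocus_iff_exists {X S : Scheme.{u}} (f : X ⟶ S) [LocallyOfFinitePresentation f] (x : X) :
    x ∈ f.smoothLocus ↔ ∃ U : X.Opens, x ∈ U ∧ Smooth (U.ι ≫ f) := by
  constructor
  · intro hs
    refine ⟨f.smoothLocus, hs, Scheme.Hom.smoothLocus_eq_top_iff.mp ?_⟩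
    rw [← Scheme.Hom.preimage_smoothLocus_eq, eq_top_iff]
    rintro ⟨z, hz⟩ -
    exact hz
  · rintro ⟨U, hxU, hU⟩
    have h : (⟨x, hxU⟩ : (U : Scheme.{u})) ∈ U.ι ⁻¹ᵁ f.smoothLocus := by
      rw [Scheme.Hom.preimage_smoothLocus_eq, Scheme.Hom.smoothLocus_eq_top]
      trivial
    exact h

theorem flat_stalkMap_of_exists {X S : Scheme.{u}} (f : X ⟶ S) {x : X}
    (hx : ∃ U : X.Opens, x ∈ U ∧ Flat (U.ι ≫ f)) : (f.stalkMap x).hom.Flat := by
  obtain ⟨U, hxU, hU⟩ := hx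
  have h := Flat.stalkMap (U.ι ≫ f) ⟨x, hxU⟩
  rw [Scheme.Hom.stalkMap_comp] at h
  exact (RingHom.Flat.respectsIso.cancel_right_isIso (f.stalkMap (U.ι ⟨x, hxU⟩)) (U.ι.stalkMap ⟨x, hxU⟩)).mp h

variable {X Y S : Scheme.{u}} (g : Y ⟶ S) (h : X ⟶ S) [LocallyOfFinitePresentation g] [LocallyOfFinitePresentation h]
  (f : X ⟶ Y) (w : f ≫ g = h)

theorem smoothLocus_fibreMap [LocallyOfFinitePresentation f] (x : X) (hflat : (h.stalkMap x).hom.Flat)
    (x' : ↥(h.fiber (h x))) (hx' : (h.fiberι (h x)) x' = x)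
    [LocallyOfFinitePresentation (CohIII.fiberMapOver f h g w (h x))] :
    x ∈ f.smoothLocus ↔ x' ∈ (CohIII.fiberMapOver f h g w (h x)).smoothLocus := by
  subst w
  let s := (f ≫ g) x
  let F := CohIII.fiberMapOver f (f ≫ g) g rfl s
  have hFM : F = MoreMor.fiberMap f g s := pullback.hom_ext
    ((pullback.lift_fst _ _ _).trans (pullback.lift_fst _ _ _).symm)
    (((pullback.lift_snd _ _ _).trans (Category.comp_id _)).trans (pullback.lift_snd _ _ _).symm)
  have hO : (x ∈ f.smoothLocus ∨ x' ∈ F.smoothLocus) → ∃ O : X.Opens, x ∈ O ∧ Flat (O.ι ≫ f) := by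
    rintro (hs | hs)
    · obtain ⟨U, hxU, hU⟩ := (smoothLocus_iff_exists f x).mp hs
      exact ⟨U, hxU, inferInstance⟩
    · obtain ⟨U, hxU, hU⟩ := (smoothLocus_iff_exists F x').mp hs
      have hF : (F.stalkMap x').hom.Flat := flat_stalkMap_of_exists F ⟨U, hxU, inferInstance⟩
      have hx'' : x' = (f ≫ g).asFiber x :=
        ((f ≫ g).fiberι s).isEmbedding.injective (hx'.trans ((f ≫ g).fiberι_asFiber x).symm)
      rw [hFM, hx''] at hF
      obtain ⟨O, hO, hxO, hOf⟩ := (FlatLib.fibre_criterion_near f g x).2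
        ((FlatLib.fibre_criterion_near f g x).1.mp ⟨hflat, hF⟩)
      refine ⟨⟨O, hO⟩, hxO, Flat.of_stalkMap _ fun z => ?_⟩
      rw [Scheme.Hom.stalkMap_comp]
      exact (RingHom.Flat.respectsIso.cancel_right_isIso (f.stalkMap _) _).mpr (hOf _ z.2).2
  have key : ∀ O : X.Opens, x ∈ O → Flat (O.ι ≫ f) → (x ∈ f.smoothLocus ↔ x' ∈ F.smoothLocus) := by
    intro O hxO hflatO
    let O' := (f ≫ g).fiberι s ⁻¹ᵁ O
    have hsq : IsPullback ((f ≫ g).fiberι s ∣_ O) (O'.ι ≫ F) (O.ι ≫ f) (g.fiberι s) :=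
      IsPullback.paste_vert (isPullback_morphismRestrict ((f ≫ g).fiberι s) O)
        (UnrStalkLib.isPullback_fiberMapOver f g (f ≫ g) rfl s)
    let z : (O' : Scheme.{u}) := ⟨x', show (f ≫ g).fiberι s x' ∈ O from hx' ▸ hxO⟩
    have h1 := DepthLib.mem_smoothLocus_baseChange_scheme (O.ι ≫ f) (g.fiberι s) (O'.ι ≫ F)
      ((f ≫ g).fiberι s ∣_ O) hsq (Or.inl hflatO) z
    rw [← Scheme.Hom.preimage_smoothLocus_eq, ← Scheme.Hom.preimage_smoothLocus_eq] at h1
    have hz : O.ι (((f ≫ g).fiberι s ∣_ O) z) = x := by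
      rw [← Scheme.Hom.comp_apply, morphismRestrict_ι, Scheme.Hom.comp_apply]
      exact hx'
    simp only [Scheme.Hom.mem_preimage, hz] at h1
    exact h1.symm
  constructor <;> intro hs
  · obtain ⟨O, hxO, hf⟩ := hO (Or.inl hs)
    exact (key O hxO hf).mp hs
  · obtain ⟨O, hxO, hf⟩ := hO (Or.inr hs)
    exact (key O hxO hf).mpr hs

/-- Smoothness at a point through the fibre map. -/
theorem smoothAt_fibreMap (x : X) (hflat : (h.stalkMap x).hom.Flat)
    (x' : ↥(h.fiber (h x))) (hx' : (h.fiberι (h x)) x' = x) :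
    (∃ U : X.Opens, x ∈ U ∧ Smooth (U.ι ≫ f)) ↔
      ∃ V : (h.fiber (h x)).Opens, x' ∈ V ∧ Smooth (V.ι ≫ CohIII.fiberMapOver f h g w (h x)) := by
  haveI : LocallyOfFinitePresentation (f ≫ g) := w ▸ inferInstance
  haveI : LocallyOfFinitePresentation f :=
    lfp_of_comp_lft f g
  haveI : LocallyOfFinitePresentation (CohIII.fiberMapOver f h g w (h x)) :=
    MorphismProperty.of_isPullback (UnrStalkLib.isPullback_fiberMapOver f g h w (h x)) inferInstance
  rw [← smoothLocus_iff_exists, ← smoothLocus_iff_exists]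
  exact smoothLocus_fibreMap g h f w x hflat x' hx'

/-- Etaleness at a point through the fibre map. -/
theorem etaleAt_fibreMap (x : X) (hflat : (h.stalkMap x).hom.Flat)
    (x' : ↥(h.fiber (h x))) (hx' : (h.fiberι (h x)) x' = x) :
    (∃ U : X.Opens, x ∈ U ∧ Etale (U.ι ≫ f)) ↔
      ∃ V : (h.fiber (h x)).Opens, x' ∈ V ∧ Etale (V.ι ≫ CohIII.fiberMapOver f h g w (h x)) := by
  haveI : LocallyOfFinitePresentation (f ≫ g) := w ▸ inferInstance
  haveI : LocallyOfFiniteType f := locallyOfFiniteType_of_comp f g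
  have hu := UnrStalkLib.mem_locus_fiberMapOver_iff f g h w (h x) x'
  rw [hx'] at hu
  have key : ∀ {A B : Scheme.{u}} (φ : A ⟶ B) (a : A), (∃ U : A.Opens, a ∈ U ∧ Etale (U.ι ≫ φ)) ↔
      (∃ U : A.Opens, a ∈ U ∧ Smooth (U.ι ≫ φ)) ∧ a ∈ locus φ := by
    intro A B φ a
    refine ⟨fun ⟨U, ha, hU⟩ => ⟨⟨U, ha, inferInstance⟩, ⟨U, ha, inferInstance⟩⟩, fun ⟨⟨U, ha, hU⟩, ⟨V, ha', hV⟩⟩ => ?_⟩
    refine ⟨U ⊓ V, ⟨ha, ha'⟩, ?_⟩
    have e1 : (U ⊓ V).ι ≫ φ = A.homOfLE inf_le_left ≫ U.ι ≫ φ := by rw [← Category.assoc, A.homOfLE_ι]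
    have e2 : (U ⊓ V).ι ≫ φ = A.homOfLE inf_le_right ≫ V.ι ≫ φ := by rw [← Category.assoc, A.homOfLE_ι]
    haveI : Smooth ((U ⊓ V).ι ≫ φ) := e1 ▸ inferInstance
    haveI : FormallyUnramified ((U ⊓ V).ι ≫ φ) := e2 ▸ MorphismProperty.comp_mem _ _ _ inferInstance hV
    exact Etale.of_formallyUnramified_of_flat _
  rw [key, key, smoothAt_fibreMap g h f w x hflat x' hx', hu]

end Unram17Lib

end
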