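import Groth.Agent.Unram17Lib.EtaleChart

/-!
# The subscheme cut out by coordinates of an etale chart
-/

set_option autoImplicit false
set_option linter.style.haveILetI false
universe u
open CategoryTheory CategoryTheory.Limits AlgebraicGeometry

noncomputable section

namespace Unram17Lib

theorem morphismRestrict_appTop_topIso {X Y : Scheme.{u}} (i : Y ⟶ X) (V : X.Opens) (c : Γ(X, V)) :
    (i ∣_ V).appTop (V.topIso.inv c) = (i ⁻¹ᵁ V).topIso.inv (i.app V c) := by
  have h : (i.resLE V (i ⁻¹ᵁ V) le_rfl).appTop = V.topIso.hom ≫ i.appLE V (i ⁻¹ᵁ V) le_rfl ≫ (i ⁻¹ᵁ V).topIso.inv :=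
    Scheme.Hom.resLE_app_top ..
  rw [Scheme.Hom.resLE_eq_morphismRestrict, ← Scheme.Hom.app_eq_appLE] at h
  rw [h, CommRingCat.comp_apply, CommRingCat.comp_apply, Iso.inv_hom_id_apply]

/-- A morphism to an affine open factors through a closed subscheme when it kills its ideal. -/
theorem exists_lift_morphismRestrict {X Y : Scheme.{u}} (i : Y ⟶ X) {V : X.Opens} (hV : IsAffineOpen V)
    (hiV : IsAffineOpen (i ⁻¹ᵁ V)) (hsurj : Function.Surjective (i.app V)) {T : Scheme.{u}}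
    (b : T ⟶ V.toScheme) (hb : RingHom.ker (i.app V).hom ≤ RingHom.ker (V.topIso.inv ≫ b.appTop).hom) :
    ∃ l : T ⟶ (i ⁻¹ᵁ V).toScheme, l ≫ (i ∣_ V) = b := by
  haveI : IsAffine V.toScheme := hV
  haveI : IsAffine (i ⁻¹ᵁ V).toScheme := hiV
  let φ := CommRingCat.ofHom ((RingHom.liftOfSurjective (i.app V).hom hsurj) ⟨(V.topIso.inv ≫ b.appTop).hom, hb⟩)
  refine ⟨T.toSpecΓ ≫ Spec.map ((i ⁻¹ᵁ V).topIso.hom ≫ φ) ≫ (i ⁻¹ᵁ V).toScheme.isoSpec.inv, ext_of_isAffine ?_⟩
  have hl : (T.toSpecΓ ≫ Spec.map ((i ⁻¹ᵁ V).topIso.hom ≫ φ) ≫ (i ⁻¹ᵁ V).toScheme.isoSpec.inv).appTop =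
      (i ⁻¹ᵁ V).topIso.hom ≫ φ := by
    simp [Scheme.isoSpec]
    exact Category.id_comp _
  ext c
  obtain ⟨c, rfl⟩ := V.topIso.commRingCatIsoToRingEquiv.symm.surjective c
  rw [Scheme.Hom.comp_appTop, CommRingCat.comp_apply, hl]
  show ((i ⁻¹ᵁ V).topIso.hom ≫ φ) ((i ∣_ V).appTop (V.topIso.inv c)) = b.appTop (V.topIso.inv c)
  rw [morphismRestrict_appTop_topIso, CommRingCat.comp_apply, Iso.inv_hom_id_apply]
  exact RingHom.liftOfRightInverse_comp_apply _ _ _ _ c

theorem isPullback_zero_coordinates {X Y S : Scheme.{u}} (pX : X ⟶ S) (pY : Y ⟶ S) (i : Y ⟶ X) (w : i ≫ pX = pY)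
    {V : X.Opens} (hV : IsAffineOpen V) (hiV : IsAffineOpen (i ⁻¹ᵁ V)) (hsurj : Function.Surjective (i.app V))
    [Mono i] (m n : ℕ) (v : Fin m ⊕ Fin n → Γ(X, V)) (hz : ∀ j, i.app V (v (Sum.inr j)) = 0)
    (hker : RingHom.ker (i.app V).hom ≤ Ideal.span (Set.range fun j => v (Sum.inr j))) :
    IsPullback
      (AffineSpace.homOfVector ((i ⁻¹ᵁ V).ι ≫ pY) (fun a : ULift.{u} (Fin m) =>
        (i ⁻¹ᵁ V).topIso.inv (i.app V (v (Sum.inl a.down)))))
      (i ∣_ V)
      (AffineSpace.homOfVector (𝔸(ULift.{u} (Fin m); S) ↘ S)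
          (fun j : ULift.{u} (Fin m ⊕ Fin n) => Sum.elim (fun a => AffineSpace.coord S (ULift.up a)) (fun _ => 0) j.down))
      (AffineSpace.homOfVector (V.ι ≫ pX) (fun j : ULift.{u} (Fin m ⊕ Fin n) => V.topIso.inv (v j.down))) := by
  let z := AffineSpace.homOfVector (𝔸(ULift.{u} (Fin m); S) ↘ S)
    (fun j : ULift.{u} (Fin m ⊕ Fin n) => Sum.elim (fun a => AffineSpace.coord S (ULift.up a)) (fun _ => 0) j.down)
  let π := AffineSpace.homOfVector (V.ι ≫ pX) (fun j : ULift.{u} (Fin m ⊕ Fin n) => V.topIso.inv (v j.down))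
  let ρ := AffineSpace.homOfVector ((i ⁻¹ᵁ V).ι ≫ pY) (fun a : ULift.{u} (Fin m) =>
    (i ⁻¹ᵁ V).topIso.inv (i.app V (v (Sum.inl a.down))))
  let back := AffineSpace.homOfVector (𝔸(ULift.{u} (Fin m ⊕ Fin n); S) ↘ S)
    (fun a : ULift.{u} (Fin m) => AffineSpace.coord S (ULift.up (Sum.inl a.down)))
  have hzb : z ≫ back = 𝟙 _ := by
    ext1
    · simp [z, back]
    · simp [z, back]
  haveI : IsSplitMono z := IsSplitMono.mk' ⟨back, hzb⟩
  haveI : Mono (i ∣_ V) := by
    refine ⟨fun a b h => ?_⟩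
    have h' := congrArg (· ≫ V.ι) h
    simp only [Category.assoc, morphismRestrict_ι] at h'
    exact (cancel_mono (i ⁻¹ᵁ V).ι).mp ((cancel_mono i).mp (by simpa using h'))
  have hsq : ρ ≫ z = (i ∣_ V) ≫ π := by
    ext1
    · simp [ρ, z, π, w]
    · rename_i j
      rw [Scheme.Hom.comp_appTop, Scheme.Hom.comp_appTop, CommRingCat.comp_apply, CommRingCat.comp_apply,
        AffineSpace.homOfVector_appTop_coord, AffineSpace.homOfVector_appTop_coord, morphismRestrict_appTop_topIso]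
      rcases j with ⟨a | b⟩
      · exact AffineSpace.homOfVector_appTop_coord _ _ _
      · simp [hz]
  refine IsPullback.of_isLimit' ⟨hsq⟩ (PullbackCone.isLimitAux' _ fun c => ?_)
  have hc : c.fst ≫ z = c.snd ≫ π := c.condition
  have hkill : RingHom.ker (i.app V).hom ≤ RingHom.ker (V.topIso.inv ≫ c.snd.appTop).hom := by
    refine hker.trans (Ideal.span_le.mpr ?_)
    rintro _ ⟨j, rfl⟩
    have h1 := congr(Scheme.Hom.appTop $hc (AffineSpace.coord S (ULift.up (Sum.inr j))))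
    simp [z, π] at h1
    simpa [Scheme.Hom.appTop] using h1.symm
  have hl := exists_lift_morphismRestrict i hV hiV hsurj c.snd hkill
  refine ⟨hl.choose, (cancel_mono z).mp ?_, hl.choose_spec, fun {m'} _ h2 => ?_⟩
  · simp only [Category.assoc]
    show hl.choose ≫ ρ ≫ z = c.fst ≫ z
    rw [hsq, ← Category.assoc, hl.choose_spec, hc]
  · exact (cancel_mono (i ∣_ V)).mp (h2.trans hl.choose_spec.symm)

end Unram17Lib

namespace Unram17Lib

theorem translate_comp {n : Type u} {S X : Scheme.{u}} (c : n → Γ(S, ⊤)) (g : X ⟶ S) (v : n → Γ(X, ⊤)) :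
    AffineSpace.homOfVector g v ≫
      AffineSpace.homOfVector (𝔸(n; S) ↘ S) (fun j => AffineSpace.coord _ j + (𝔸(n; S) ↘ S).appTop (c j)) =
    AffineSpace.homOfVector g (fun j => v j + g.appTop (c j)) := by
  ext1
  · simp
  · rename_i j
    rw [Scheme.Hom.comp_appTop, CommRingCat.comp_apply, AffineSpace.homOfVector_appTop_coord,
      AffineSpace.homOfVector_appTop_coord, map_add, AffineSpace.homOfVector_appTop_coord,
      ← CommRingCat.comp_apply _ _ (c j), ← Scheme.Hom.comp_appTop, AffineSpace.homOfVector_over]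

/-- Translations of affine space. -/
def translateIso {n : Type u} {S : Scheme.{u}} (c : n → Γ(S, ⊤)) : 𝔸(n; S) ≅ 𝔸(n; S) where
  hom := AffineSpace.homOfVector (𝔸(n; S) ↘ S) (fun j => AffineSpace.coord _ j + (𝔸(n; S) ↘ S).appTop (c j))
  inv := AffineSpace.homOfVector (𝔸(n; S) ↘ S) (fun j => AffineSpace.coord _ j + (𝔸(n; S) ↘ S).appTop (-c j))
  hom_inv_id := by
    rw [translate_comp (fun j => -c j)]
    ext1 <;> simp
  inv_hom_id := by
    rw [translate_comp c]
    ext1 <;> simp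

/-- Coordinates of an etale map to affine space may be translated. -/
theorem etale_homOfVector_translate {n : Type u} {S X : Scheme.{u}} (c : n → Γ(S, ⊤)) (g : X ⟶ S)
    (v : n → Γ(X, ⊤)) [Etale (AffineSpace.homOfVector g v)] :
    Etale (AffineSpace.homOfVector g (fun j => v j + g.appTop (c j))) := by
  rw [← translate_comp c g v]
  exact (MorphismProperty.cancel_right_of_respectsIso @Etale _ (translateIso c).hom).mpr ‹_›

end Unram17Lib

namespace Unram17Lib

set_option backward.isDefEq.respectTransparency.types false in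
theorem smooth_affineSpace_over (n : Type u) [Finite n] (S : Scheme.{u}) : Smooth (𝔸(n; S) ↘ S) :=
  MorphismProperty.pullback_fst _ _ <| by
  have := isIso_of_isTerminal specULiftZIsTerminal.{u} terminalIsTerminal (terminal.from _)
  rw [← terminal.comp_from (Spec.map (CommRingCat.ofHom MvPolynomial.C)),
    MorphismProperty.cancel_right_of_respectsIso (P := @Smooth),
    HasRingHomProperty.Spec_iff (P := @Smooth)]
  have : Algebra.Smooth (ULift.{u} ℤ) (MvPolynomial n (ULift.{u} ℤ)) := ⟨inferInstance, inferInstance⟩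
  rw [← RingHom.smooth_algebraMap] at this
  exact this

end Unram17Lib
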