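import Groth.Agent.UnrStalkLib.Locus
import Groth.Agent.MonoFibLib.Crit

/-!
# Monomorphisms locally of finite type through their fibres
-/

set_option autoImplicit false
universe u
open CategoryTheory CategoryTheory.Limits AlgebraicGeometry TopologicalSpace IsLocalRing
open RichLib.UnrLocus

noncomputable section

namespace Unram17Lib

variable {X Y : Scheme.{u}} (f : X ⟶ Y) [LocallyOfFiniteType f]

theorem mono_iff_unramified_injective : Mono f ↔ FormallyUnramified f ∧ UniversallyInjective f := by
  refine ⟨fun _ => ⟨Groth.Agent.MonoFib.formallyUnramified_of_mono f, inferInstance⟩, fun ⟨_, _⟩ => ?_⟩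
  haveI : Surjective (pullback.diagonal f) := (UniversallyInjective.iff_diagonal f).mp ‹_›
  haveI : IsIso (pullback.diagonal f) := by
    rw [isIso_iff_isOpenImmersion_and_surjective]
    exact ⟨inferInstance, inferInstance⟩
  exact (pullback.isIso_diagonal_iff f).mp inferInstance

theorem residueFieldMap_residue (x : X) (a : Y.presheaf.stalk (f x)) :
    (f.residueFieldMap x).hom (residue _ a) = residue _ ((f.stalkMap x).hom a) := rfl

theorem mono_iff_fibres :
    Mono f ↔ ∀ x : X, (∀ x' : X, f.base x' = f.base x → x' = x) ∧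
      Function.Bijective (Ideal.quotientMap ((maximalIdeal (Y.presheaf.stalk (f.base x))).map (f.stalkMap x).hom)
        (f.stalkMap x).hom Ideal.le_comap_map) := by
  rw [mono_iff_unramified_injective f]
  constructor
  · rintro ⟨hu, hi⟩ x
    refine ⟨fun x' h => f.injective h, ?_⟩
    obtain ⟨hm, -, hsep⟩ := (UnrStalkLib.stalkMap_formallyUnramified_iff f x).mp
      ((UnrStalkLib.mem_locus_iff_stalkMap f x).mp ((locus_eq_univ_iff f).mpr hu ▸ Set.mem_univ x))
    refine ⟨(injective_iff_map_eq_zero _).mpr fun a ha => ?_, fun b => ?_⟩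
    · obtain ⟨a, rfl⟩ := Ideal.Quotient.mk_surjective a
      rw [Ideal.quotientMap_mk, Ideal.Quotient.eq_zero_iff_mem, hm] at ha
      exact Ideal.Quotient.eq_zero_iff_mem.mpr ((map_mem_nonunits_iff (f.stalkMap x).hom a).mp ha)
    · obtain ⟨b, rfl⟩ := Ideal.Quotient.mk_surjective b
      have hp := ((tfae_universallyInjective f).out 0 2).mp hi
      let := (f.residueFieldMap x).hom.toAlgebra
      haveI : IsPurelyInseparable (Y.residueField (f x)) (X.residueField x) := hp.2 x
      haveI := hsep
      obtain ⟨c, hc⟩ := (IsPurelyInseparable.bijective_algebraMap_of_isSeparable (Y.residueField (f x)) (X.residueField x)).2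
        (residue (X.presheaf.stalk x) b)
      obtain ⟨a, rfl⟩ := residue_surjective (R := Y.presheaf.stalk (f x)) c
      refine ⟨Ideal.Quotient.mk _ a, ?_⟩
      rw [Ideal.quotientMap_mk, Ideal.Quotient.eq, hm]
      exact (Ideal.Quotient.eq).mp hc
  · intro h
    have key : ∀ x : X, (maximalIdeal (Y.presheaf.stalk (f x))).map (f.stalkMap x).hom = maximalIdeal (X.presheaf.stalk x) ∧
        Function.Surjective (f.residueFieldMap x).hom := by
      intro x
      obtain ⟨-, hbij⟩ := h x
      have hm : (maximalIdeal (Y.presheaf.stalk (f x))).map (f.stalkMap x).hom = maximalIdeal (X.presheaf.stalk x) := by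
        refine IsLocalRing.eq_maximalIdeal (Ideal.Quotient.maximal_of_isField _ ?_)
        exact MulEquiv.isField ((Ideal.Quotient.maximal_ideal_iff_isField_quotient _).mp (maximalIdeal.isMaximal _))
          (RingEquiv.ofBijective _ hbij).symm.toMulEquiv
      refine ⟨hm, fun z => ?_⟩
      obtain ⟨b, rfl⟩ := residue_surjective (R := X.presheaf.stalk x) z
      obtain ⟨a, ha⟩ := hbij.2 (Ideal.Quotient.mk _ b)
      obtain ⟨a, rfl⟩ := Ideal.Quotient.mk_surjective a
      refine ⟨residue _ a, ?_⟩
      rw [residueFieldMap_residue]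
      rw [Ideal.quotientMap_mk, Ideal.Quotient.eq, hm] at ha
      exact (Ideal.Quotient.eq).mpr ha
    refine ⟨(locus_eq_univ_iff f).mp (Set.eq_univ_iff_forall.mpr fun x => ?_), ?_⟩
    · rw [UnrStalkLib.mem_locus_iff_stalkMap, UnrStalkLib.stalkMap_formallyUnramified_iff]
      refine ⟨(key x).1, ?_⟩
      let := (f.residueFieldMap x).hom.toAlgebra
      haveI : Module.Finite (Y.residueField (f x)) (X.residueField x) :=
        Module.Finite.of_surjective (Algebra.linearMap _ _) (key x).2
      refine ⟨inferInstance, ⟨fun z => ?_⟩⟩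
      obtain ⟨c, rfl⟩ := (key x).2 z
      exact isSeparable_algebraMap c
    · have hp : UniversallyInjective f ↔ Function.Injective f ∧ ∀ x, (f.residueFieldMap x).hom.IsPurelyInseparable :=
        (tfae_universallyInjective f).out 0 2
      refine hp.mpr ⟨fun a b hab => (h b).1 a hab, fun x => ?_⟩
      let := (f.residueFieldMap x).hom.toAlgebra
      show IsPurelyInseparable (Y.residueField (f x)) (X.residueField x)
      exact isPurelyInseparable_iff.mpr fun z => by
        obtain ⟨c, rfl⟩ := (key x).2 z
        exact ⟨isIntegral_algebraMap, fun _ => ⟨c, rfl⟩⟩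

end Unram17Lib

end
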