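import Groth.Agent.SmoothDimLib.Fibre
import Groth.Agent.Unram17Lib.Mono
import Groth.Agent.Unram17Lib.FibreMap

/-!
# Unramified maps between smooth schemes with equal fibre dimensions are etale
-/

set_option autoImplicit false
set_option linter.style.haveILetI false
universe u
open CategoryTheory CategoryTheory.Limits AlgebraicGeometry TopologicalSpace TensorProduct

noncomputable section

namespace Unram17Lib

/-- A surjection between finite projective modules of equal rank is bijective. -/
theorem bijective_of_surjective_of_rankAtStalk_eq {R M N : Type*} [CommRing R] [AddCommGroup M] [AddCommGroup N]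
    [Module R M] [Module R N] [Module.Finite R M] [Module.Projective R M] [Module.Finite R N]
    [Module.Projective R N] (φ : M →ₗ[R] N) (hφ : Function.Surjective φ)
    (h : Module.rankAtStalk (R := R) M = Module.rankAtStalk (R := R) N) : Function.Bijective φ := by
  obtain ⟨s, hs⟩ := Module.projective_lifting_property φ LinearMap.id hφ
  obtain ⟨e, -, -⟩ := (LinearMap.exact_subtype_ker_map φ).splitSurjectiveEquiv (Submodule.injective_subtype _) ⟨s, hs⟩
  haveI : Module.Finite R (LinearMap.ker φ) := Module.Finite.of_surjective ((LinearMap.fst R _ N).comp e.toLinearMap)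
    (Prod.fst_surjective.comp e.surjective)
  haveI : Module.Projective R (LinearMap.ker φ) := Module.Projective.of_split
    (e.symm.toLinearMap.comp (LinearMap.inl R _ N)) ((LinearMap.fst R _ N).comp e.toLinearMap)
    (LinearMap.ext fun a => by simp)
  rw [Module.rankAtStalk_eq_of_equiv e, Module.rankAtStalk_prod, add_eq_right,
    Module.rankAtStalk_eq_zero_iff_subsingleton] at h
  exact ⟨LinearMap.ker_eq_bot.mp ((Submodule.subsingleton_iff_eq_bot).mp h), hφ⟩

/-- Unramified maps between smooth algebras with differentials of equal rank are formally etale. -/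
theorem formallyEtale_of_rank (A C B : Type u) [CommRing A] [CommRing C] [CommRing B] [Algebra A C]
    [Algebra C B] [Algebra A B] [IsScalarTower A C B] [Algebra.Smooth A C] [Algebra.Smooth A B]
    [Algebra.FormallyUnramified C B]
    (h : ∀ Q : PrimeSpectrum B,
      Module.finrank Q.asIdeal.ResidueField (Q.asIdeal.ResidueField ⊗[B] Ω[B⁄A]) =
      Module.finrank (Q.comap (algebraMap C B)).asIdeal.ResidueField
        ((Q.comap (algebraMap C B)).asIdeal.ResidueField ⊗[C] Ω[C⁄A])) :
    Algebra.FormallyEtale C B := by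
  have hsurj : Function.Surjective (KaehlerDifferential.mapBaseChange A C B) := fun x =>
    (KaehlerDifferential.exact_mapBaseChange_map A C B x).mp (Subsingleton.elim _ _)
  have hbij := bijective_of_surjective_of_rankAtStalk_eq _ hsurj (funext fun Q => by
    rw [Module.rankAtStalk_baseChange, Module.rankAtStalk_eq, Module.rankAtStalk_eq]
    exact (h Q).symm)
  refine ⟨inferInstance, ⟨fun a b => ?_⟩⟩
  have hzero : ∀ a : Algebra.H1Cotangent C B, a = 0 := by
    intro a
    have hδ : Algebra.H1Cotangent.δ A C B a = 0 := hbij.1 (by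
      rw [map_zero]
      exact (Algebra.H1Cotangent.exact_δ_mapBaseChange A C B).apply_apply_eq_zero a)
    obtain ⟨c, rfl⟩ := (Algebra.H1Cotangent.exact_map_δ A C B a).mp hδ
    rw [Subsingleton.elim c 0, map_zero]
  rw [hzero a, hzero b]

variable {X Y S : Scheme.{u}}

/-- An unramified map between smooth schemes with equal fibre dimensions is flat. -/
theorem flat_of_fibreDimAt_eq (f : Y ⟶ S) [Smooth f] (g : X ⟶ Y) [Smooth (g ≫ f)] [FormallyUnramified g]
    (h : ∀ x : X, FlatMor.fibreDimAt f (g.base x) = FlatMor.fibreDimAt (g ≫ f) x) : Flat g := by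
  rw [HasRingHomProperty.iff_exists_appLE (P := @Flat)
    (RingHom.Flat.stableUnderComposition.stableUnderCompositionWithLocalizationAway
      RingHom.Flat.holdsForLocalizationAway).1]
  intro x
  obtain ⟨U, hU, hxU, -⟩ := exists_isAffineOpen_mem_and_subset (X := S) (x := f (g x)) (U := ⊤) trivial
  obtain ⟨W, hW, hxW, hWU⟩ := exists_isAffineOpen_mem_and_subset (X := Y) (x := g x) (U := f ⁻¹ᵁ U) hxU
  obtain ⟨V, hV, hxV, hVW⟩ := exists_isAffineOpen_mem_and_subset (X := X) (x := x) (U := g ⁻¹ᵁ W) hxW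
  refine ⟨⟨W, hW⟩, ⟨V, hV⟩, hxV, hVW, ?_⟩
  have e : V ≤ (g ≫ f) ⁻¹ᵁ U := fun z hz => hWU (hVW hz)
  algebraize [(f.appLE U W hWU).hom, (g.appLE W V hVW).hom, ((g ≫ f).appLE U V e).hom]
  haveI : IsScalarTower Γ(S, U) Γ(Y, W) Γ(X, V) := IsScalarTower.of_algebraMap_eq' (by
    show ((g ≫ f).appLE U V e).hom = ((g.appLE W V hVW).hom).comp (f.appLE U W hWU).hom
    rw [← CommRingCat.hom_comp, Scheme.Hom.appLE_comp_appLE])
  haveI : Algebra.Smooth Γ(S, U) Γ(Y, W) := f.smooth_appLE hU hW hWU
  haveI : Algebra.Smooth Γ(S, U) Γ(X, V) := (g ≫ f).smooth_appLE hU hV e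
  haveI : Algebra.FormallyUnramified Γ(Y, W) Γ(X, V) := g.formallyUnramified_appLE hW hV hVW
  haveI : Algebra.FormallyEtale Γ(Y, W) Γ(X, V) := formallyEtale_of_rank Γ(S, U) Γ(Y, W) Γ(X, V) fun Q => by
    have hzV : hV.fromSpec Q ∈ V := by
      have h1 : hV.fromSpec Q ∈ Set.range hV.fromSpec := ⟨Q, rfl⟩
      rwa [hV.range_fromSpec] at h1
    have hQ : hV.primeIdealOf ⟨hV.fromSpec Q, hzV⟩ = Q :=
      hV.fromSpec.isOpenEmbedding.injective (hV.fromSpec_primeIdealOf ⟨_, hzV⟩)
    have hq : Q.comap (algebraMap Γ(Y, W) Γ(X, V)) = hW.primeIdealOf ⟨g (hV.fromSpec Q), hVW hzV⟩ := by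
      conv_lhs => rw [← hQ]
      exact IsAffineOpen.comap_primeIdealOf_appLE W hW V hV hVW hzV
    rw [hq]
    have h1 := (SmoothDimLib.mem_smoothLocus_iff (g ≫ f) hU hV e _ hzV).2
      (by rw [Scheme.Hom.smoothLocus_eq_top]; trivial)
    have h2 := (SmoothDimLib.mem_smoothLocus_iff f hU hW hWU _ (hVW hzV)).2
      (by rw [Scheme.Hom.smoothLocus_eq_top]; trivial)
    have h3 := (h1.symm.trans (h _).symm).trans h2
    rw [hQ] at h3
    exact_mod_cast h3
  haveI : Algebra.FinitePresentation Γ(Y, W) Γ(X, V) :=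
    Algebra.FinitePresentation.of_restrict_scalars_finitePresentation Γ(S, U) _ _
  haveI : Algebra.Etale Γ(Y, W) Γ(X, V) := {}
  exact (inferInstance : Module.Flat Γ(Y, W) Γ(X, V))

theorem isOpenImmersion_iff_mono (f : Y ⟶ S) [Smooth f] (g : X ⟶ Y) [Smooth (g ≫ f)] :
    IsOpenImmersion g ↔ Mono g ∧ ∀ x : X, FlatMor.fibreDimAt f (g.base x) = FlatMor.fibreDimAt (g ≫ f) x := by
  refine ⟨fun _ => ⟨inferInstance, fun x => (FibDimLib.fibreDimAt_comp_isOpenImmersion g f x).symm⟩, fun ⟨_, h⟩ => ?_⟩
  haveI : LocallyOfFiniteType g := locallyOfFiniteType_of_comp g f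
  haveI : LocallyOfFinitePresentation g := lfp_of_comp_lft g f
  haveI : FormallyUnramified g := Groth.Agent.MonoFib.formallyUnramified_of_mono g
  haveI : Flat g := flat_of_fibreDimAt_eq f g h
  exact IsOpenImmersion.of_flat_of_mono g

end Unram17Lib
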