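import Groth.Agent.NorLocLib.SmoothLocal
import Groth.Agent.AlgSpLib.ReducedStalk
import Groth.Agent.SmoothDimLib.Fibre

/-!
# Reduced and normal local rings at smooth points
-/

set_option autoImplicit false
set_option linter.style.haveILetI false
universe u
open CategoryTheory CategoryTheory.Limits AlgebraicGeometry TopologicalSpace TensorProduct

noncomputable section

namespace Unram17Lib

theorem normal_congr {R S : Type u} [CommRing R] [CommRing S] (e : R ≃+* S) :
    (IsDomain R ∧ IsIntegrallyClosed R) ↔ (IsDomain S ∧ IsIntegrallyClosed S) := by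
  constructor
  · rintro ⟨_, _⟩
    exact ⟨e.symm.toMulEquiv.isDomain _, IsIntegrallyClosed.of_equiv e⟩
  · rintro ⟨_, _⟩
    exact ⟨e.toMulEquiv.isDomain _, IsIntegrallyClosed.of_equiv e.symm⟩

theorem isNormalRing_of_domain (R : Type u) [CommRing R] [IsDomain R] [IsIntegrallyClosed R] :
    EGA4.IsNormalRing R := fun p _ =>
  ⟨inferInstance, isIntegrallyClosed_of_isLocalization _ p.primeCompl p.primeCompl_le_nonZeroDivisors⟩

/-- Smooth algebras over normal local domains have normal local rings. -/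
theorem normal_localization_of_smooth (A B : Type u) [CommRing A] [CommRing B] [Algebra A B] [Algebra.Smooth A B]
    (q : Ideal B) [q.IsPrime]
    (h : IsDomain (Localization.AtPrime (q.comap (algebraMap A B))) ∧
      IsIntegrallyClosed (Localization.AtPrime (q.comap (algebraMap A B)))) :
    IsDomain (Localization.AtPrime q) ∧ IsIntegrallyClosed (Localization.AtPrime q) := by
  obtain ⟨_, _⟩ := h
  let M := (q.comap (algebraMap A B)).primeCompl
  let R := Localization M
  let N := Algebra.algebraMapSubmonoid B M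
  let T := Localization N
  haveI : IsScalarTower A R T := inferInstance
  haveI : Algebra.IsPushout A R B T := (Algebra.isPushout_of_isLocalization M R B T).symm
  haveI : Algebra.Smooth R T := Algebra.Smooth.of_equiv (Algebra.IsPushout.equiv A R B T)
  have hT := NorLocLib.isNormalRing_of_smooth_general R T (isNormalRing_of_domain R)
  have hd : Disjoint (N : Set B) (q : Set B) := by
    rw [Set.disjoint_left]
    rintro _ ⟨a, ha, rfl⟩ hq
    exact ha hq
  haveI hQ : (q.map (algebraMap B T)).IsPrime := IsLocalization.isPrime_of_isPrime_disjoint N T q ‹_› hd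
  have hc : (q.map (algebraMap B T)).comap (algebraMap B T) = q :=
    IsLocalization.comap_map_of_isPrime_disjoint N T ‹_› hd
  have h2 := hT (q.map (algebraMap B T))
  rw [← normal_congr (IsLocalization.localizationLocalizationAtPrimeIsoLocalization N
    (q.map (algebraMap B T))).toRingEquiv] at h2
  have : ∀ (q' : Ideal B) [q'.IsPrime], q' = q →
      IsDomain (Localization.AtPrime q') ∧ IsIntegrallyClosed (Localization.AtPrime q') →
      IsDomain (Localization.AtPrime q) ∧ IsIntegrallyClosed (Localization.AtPrime q) := by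
    rintro q' _ rfl h'
    exact h'
  exact this _ hc h2

variable {X Y : Scheme.{u}} (f : X ⟶ Y) [LocallyOfFinitePresentation f] {x : X}

theorem exists_smooth_nhd (hx : x ∈ f.smoothLocus) : ∃ W : X.Opens, x ∈ W ∧ Smooth (W.ι ≫ f) := by
  refine ⟨f.smoothLocus, hx, Scheme.Hom.smoothLocus_eq_top_iff.mp ?_⟩
  rw [← Scheme.Hom.preimage_smoothLocus_eq, eq_top_iff]
  rintro ⟨z, hz⟩ -
  exact hz

theorem isReduced_stalk_iff_of_smooth (hx : x ∈ f.smoothLocus) :
    _root_.IsReduced (X.presheaf.stalk x) ↔ _root_.IsReduced (Y.presheaf.stalk (f.base x)) := by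
  obtain ⟨W, hxW, _⟩ := exists_smooth_nhd f hx
  let e := (W.stalkIso ⟨x, hxW⟩).commRingCatIsoToRingEquiv
  constructor
  · intro h
    haveI : _root_.IsReduced ((W : Scheme.{u}).presheaf.stalk ⟨x, hxW⟩) := isReduced_of_injective e e.injective
    exact AlgSpLib.isReduced_stalk_of_flat (W.ι ≫ f) ⟨x, hxW⟩
  · intro h
    haveI : _root_.IsReduced (Y.presheaf.stalk ((W.ι ≫ f) ⟨x, hxW⟩)) := h
    haveI := AlgSpLib.isReduced_stalk_of_smooth (W.ι ≫ f) ⟨x, hxW⟩
    exact isReduced_of_injective e.symm e.symm.injective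

theorem normal_stalk_iff_of_smooth (hx : x ∈ f.smoothLocus) :
    (IsDomain (X.presheaf.stalk x) ∧ IsIntegrallyClosed (X.presheaf.stalk x)) ↔
      (IsDomain (Y.presheaf.stalk (f.base x)) ∧ IsIntegrallyClosed (Y.presheaf.stalk (f.base x))) := by
  obtain ⟨W, hxW, _⟩ := exists_smooth_nhd f hx
  rw [← normal_congr (W.stalkIso ⟨x, hxW⟩).commRingCatIsoToRingEquiv]
  let g := W.ι ≫ f
  show _ ↔ (IsDomain (Y.presheaf.stalk (g ⟨x, hxW⟩)) ∧ IsIntegrallyClosed (Y.presheaf.stalk (g ⟨x, hxW⟩)))
  constructor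
  · rintro ⟨_, _⟩
    have h := Flat.stalkMap g ⟨x, hxW⟩
    algebraize [(g.stalkMap ⟨x, hxW⟩).hom]
    haveI : Module.FaithfullyFlat (Y.presheaf.stalk (g ⟨x, hxW⟩)) ((W : Scheme.{u}).presheaf.stalk ⟨x, hxW⟩) :=
      @Module.FaithfullyFlat.of_flat_of_isLocalHom _ _ _ _ _ _ _ h (g.toLRSHom.prop ⟨x, hxW⟩)
    exact NorLocLib.isDomain_isIntegrallyClosed_of_faithfullyFlat _ ((W : Scheme.{u}).presheaf.stalk ⟨x, hxW⟩)
  · intro hy
    obtain ⟨U, hU, hxU, -⟩ := exists_isAffineOpen_mem_and_subset (X := Y) (x := g ⟨x, hxW⟩) (U := ⊤) trivial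
    obtain ⟨V, hV, hxV, e⟩ := exists_isAffineOpen_mem_and_subset (x := (⟨x, hxW⟩ : (W : Scheme.{u}))) (U := g ⁻¹ᵁ U) hxU
    algebraize [(g.appLE U V e).hom]
    haveI : Algebra.Smooth Γ(Y, U) Γ(↑W, V) := g.smooth_appLE hU hV e
    letI := Y.presheaf.algebra_section_stalk ⟨_, e hxV⟩
    haveI := hU.isLocalization_stalk ⟨_, e hxV⟩
    letI := (W : Scheme.{u}).presheaf.algebra_section_stalk ⟨_, hxV⟩
    haveI := hV.isLocalization_stalk ⟨_, hxV⟩
    let q := (hV.primeIdealOf ⟨_, hxV⟩).asIdeal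
    have hq : q.comap (algebraMap Γ(Y, U) Γ(↑W, V)) = (hU.primeIdealOf ⟨_, e hxV⟩).asIdeal :=
      congrArg PrimeSpectrum.asIdeal (IsAffineOpen.comap_primeIdealOf_appLE U hU V hV e hxV)
    have hy' : IsDomain (Localization.AtPrime (hU.primeIdealOf ⟨_, e hxV⟩).asIdeal) ∧
        IsIntegrallyClosed (Localization.AtPrime (hU.primeIdealOf ⟨_, e hxV⟩).asIdeal) :=
      (normal_congr (IsLocalization.algEquiv (hU.primeIdealOf ⟨_, e hxV⟩).asIdeal.primeCompl
        (Localization.AtPrime (hU.primeIdealOf ⟨_, e hxV⟩).asIdeal) (Y.presheaf.stalk (g ⟨x, hxW⟩))).toRingEquiv).mpr hy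
    refine (normal_congr (IsLocalization.algEquiv q.primeCompl (Localization.AtPrime q)
      ((W : Scheme.{u}).presheaf.stalk ⟨x, hxW⟩)).toRingEquiv).mp ?_
    have : ∀ (p : Ideal Γ(Y, U)) [p.IsPrime], q.comap (algebraMap Γ(Y, U) Γ(↑W, V)) = p →
        IsDomain (Localization.AtPrime p) ∧ IsIntegrallyClosed (Localization.AtPrime p) →
        IsDomain (Localization.AtPrime q) ∧ IsIntegrallyClosed (Localization.AtPrime q) := by
      rintro p _ rfl h'
      exact normal_localization_of_smooth _ _ q h'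
    exact this _ hq hy'

end Unram17Lib
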