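import Groth.Agent.GeomRedFibLib.LocalPropSerre
import Groth.Agent.GeomRedFibLib.LocalPropLocal
import Groth.Agent.GeomRedFibLib.GeomField
import Groth.Agent.GeomRedFibLib.DepthEq
import Groth.Agent.CohenLib.RegularField
import Mathlib.AlgebraicGeometry.Morphisms.Smooth

/-!
# Local rings along smooth morphisms
-/

set_option autoImplicit false
set_option linter.style.haveILetI false
set_option synthInstance.maxHeartbeats 100000
universe u
open CategoryTheory CategoryTheory.Limits AlgebraicGeometry TopologicalSpace IsLocalRing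

noncomputable section

namespace Unram17Lib

/-- The fibres of a formally smooth map have regular local rings. -/
theorem regLoc_fibLocRing (A B : Type u) [CommRing A] [CommRing B] [IsNoetherianRing B] [Algebra A B]
    [Algebra.FormallySmooth A B] (q : Ideal B) [q.IsPrime] :
    IsRegularLocalRing (EGA4.FibLocRing A B q) := by
  let p := q.comap (algebraMap A B)
  let Ap := Localization.AtPrime p
  let Bq := Localization.AtPrime q
  letI : Algebra Ap Bq := (Localization.localRingHom p q (algebraMap A B) rfl).toAlgebra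
  haveI : IsScalarTower A Ap Bq :=
    IsScalarTower.of_algebraMap_eq fun a => (Localization.localRingHom_to_map p q _ rfl a).symm
  haveI : IsLocalHom (algebraMap Ap Bq) := Localization.isLocalHom_localRingHom p q _ rfl
  haveI : Algebra.FormallySmooth B Bq := Algebra.FormallySmooth.of_isLocalization q.primeCompl
  haveI : Algebra.FormallySmooth A Bq := Algebra.FormallySmooth.comp A B Bq
  haveI : Algebra.FormallySmooth Ap Bq := Algebra.FormallySmooth.localization_base p.primeCompl
  let _ : Field (Ap ⧸ maximalIdeal Ap) := Ideal.Quotient.field _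
  haveI := CohenLib.formallySmooth_quotient Ap Bq (maximalIdeal Ap)
  haveI : Nontrivial (Bq ⧸ (maximalIdeal Ap).map (algebraMap Ap Bq)) := Ideal.Quotient.nontrivial_iff.2 fun h =>
    (maximalIdeal.isMaximal Bq).ne_top (top_le_iff.1 (h ▸ Ideal.map_le_iff_le_comap.2 fun a ha => map_nonunit _ a ha))
  haveI : IsLocalRing (Bq ⧸ (maximalIdeal Ap).map (algebraMap Ap Bq)) :=
    IsLocalRing.of_surjective' _ Ideal.Quotient.mk_surjective
  haveI : IsRegularLocalRing (Bq ⧸ (maximalIdeal Ap).map (algebraMap Ap Bq)) :=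
    CohenLib.isRegularLocalRing_of_formallySmooth (k := Ap ⧸ maximalIdeal Ap)
  refine IsRegularLocalRing.of_ringEquiv (Ideal.quotEquivOfEq (I := (maximalIdeal Ap).map (algebraMap Ap Bq))
    (J := p.map (algebraMap A Bq)) ?_)
  rw [← IsLocalization.AtPrime.map_eq_maximalIdeal p Ap, Ideal.map_map, ← IsScalarTower.algebraMap_eq]

variable {A B : Type u} [CommRing A] [CommRing B] [IsLocalRing A] [IsLocalRing B] [IsNoetherianRing A]
  [IsNoetherianRing B] [Algebra A B] [IsLocalHom (algebraMap A B)] [Module.Flat A B] [Algebra.FormallySmooth A B]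

/-- Properties ascending and descending through regular fibres are shared along a smooth local map. -/
theorem ringP_iff_of_smooth {P : ∀ (R : Type u) [CommRing R], Prop} (hP : GeomRedFibLib.IsGeomProp P) :
    GeomRedFibLib.RingP P B ↔ GeomRedFibLib.RingP P A := by
  haveI : Module.FaithfullyFlat A B := Module.FaithfullyFlat.of_flat_of_isLocalHom
  exact ⟨fun h => GeomRedFibLib.RingP.desc hP.toIsFlatLocalProp A B h,
    fun h q _ => GeomRedFibLib.asc_at hP.toIsFlatLocalProp A B q (h _) (hP.regular _ (regLoc_fibLocRing A B q))⟩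

theorem regularLocalRing_fib : IsRegularLocalRing (B ⧸ (maximalIdeal A).map (algebraMap A B)) := by
  let _ : Field (A ⧸ maximalIdeal A) := Ideal.Quotient.field _
  haveI := CohenLib.formallySmooth_quotient A B (maximalIdeal A)
  haveI : Nontrivial (B ⧸ (maximalIdeal A).map (algebraMap A B)) := Ideal.Quotient.nontrivial_iff.2 fun h =>
    (maximalIdeal.isMaximal B).ne_top (top_le_iff.1 (h ▸ Ideal.map_le_iff_le_comap.2 fun a ha => map_nonunit _ a ha))
  haveI : IsLocalRing (B ⧸ (maximalIdeal A).map (algebraMap A B)) :=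
    IsLocalRing.of_surjective' _ Ideal.Quotient.mk_surjective
  exact CohenLib.isRegularLocalRing_of_formallySmooth (k := A ⧸ maximalIdeal A)

theorem regular_iff_of_smooth : IsRegularLocalRing B ↔ IsRegularLocalRing A := by
  constructor
  · intro h
    exact RegFlatLib.isRegularLocalRing_of_flat A B
  · intro h
    exact CohenLib.isRegularLocalRing_of_formallySmooth_flat A B

theorem codepth_eq_of_smooth :
    ringKrullDim B + ((LocCoh.depth A A : ℕ∞) : WithBot ℕ∞) =
      ringKrullDim A + ((LocCoh.depth B B : ℕ∞) : WithBot ℕ∞) := by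
  haveI := regularLocalRing_fib (A := A) (B := B)
  obtain ⟨b, hb⟩ := CommAlgDim.exists_ringKrullDim_eq (R := GorLib.Fib A B)
  haveI : IsRegularLocalRing (GorLib.Fib A B) := regularLocalRing_fib (A := A) (B := B)
  rw [GeomRedFibLib.depth_eq_add A B (CommAlgDim.isCM_of_isRegularLocalRing _) hb,
    CatLib.ringKrullDim_eq_add_of_flat (A := A) (B := B),
    show ringKrullDim (B ⧸ (maximalIdeal A).map (algebraMap A B)) = _ from hb]
  rw [WithBot.coe_add, add_assoc, add_comm ((b : ℕ) : WithBot ℕ∞)]
  rfl

variable {X Y : Scheme.{u}} (f : X ⟶ Y) [IsLocallyNoetherian Y] [LocallyOfFiniteType f] {x : X}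

/-- The stalk map at a smooth point. -/
theorem stalk_facts (hx : ∃ U : X.Opens, x ∈ U ∧ Smooth (U.ι ≫ f)) :
    letI := (f.stalkMap x).hom.toAlgebra
    IsNoetherianRing (Y.presheaf.stalk (f x)) ∧ IsNoetherianRing (X.presheaf.stalk x) ∧
      Module.Flat (Y.presheaf.stalk (f x)) (X.presheaf.stalk x) ∧
      IsLocalHom (algebraMap (Y.presheaf.stalk (f x)) (X.presheaf.stalk x)) ∧
      Algebra.FormallySmooth (Y.presheaf.stalk (f x)) (X.presheaf.stalk x) := by
  let := (f.stalkMap x).hom.toAlgebra
  haveI : IsLocallyNoetherian X := LocallyOfFiniteType.isLocallyNoetherian f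
  obtain ⟨U, hxU, hU⟩ := hx
  let y : (U : Scheme.{u}) := ⟨x, hxU⟩
  haveI : IsIso (U.ι.stalkMap y) := inferInstance
  have h1 := Scheme.Hom.mem_smoothLocus.mp
    ((Scheme.Hom.smoothLocus_eq_top (U.ι ≫ f)).ge (TopologicalSpace.Opens.mem_top y))
  have h2 := Flat.stalkMap (U.ι ≫ f) y
  rw [Scheme.Hom.stalkMap_comp] at h1 h2
  refine ⟨inferInstance, inferInstance, ?_, inferInstanceAs (IsLocalHom (f.stalkMap x).hom), ?_⟩
  · exact RingHom.flat_algebraMap_iff.mp
      ((RingHom.Flat.respectsIso.cancel_right_isIso (f.stalkMap (U.ι y)) (U.ι.stalkMap y)).mp h2)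
  · exact RingHom.formallySmooth_algebraMap.mp
      ((RingHom.FormallySmooth.respectsIso.cancel_right_isIso (f.stalkMap (U.ι y)) (U.ι.stalkMap y)).mp h1)

end Unram17Lib

end
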