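import Groth.Agent.Unram17Lib.AdaptedCoord
import Mathlib.AlgebraicGeometry.AffineSpace
import Mathlib.AlgebraicGeometry.Morphisms.Etale
import Mathlib.AlgebraicGeometry.Morphisms.ClosedImmersion

/-!
# Etale charts adapted to a smooth closed subscheme
-/

set_option autoImplicit false
set_option linter.style.haveILetI false
universe u
open TensorProduct CategoryTheory CategoryTheory.Limits AlgebraicGeometry

noncomputable section

namespace Unram17Lib

theorem isSmoothAt_comap_algEquiv {A C C' : Type u} [CommRing A] [CommRing C] [CommRing C'] [Algebra A C]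
    [Algebra A C'] (e : C ≃ₐ[A] C') (P : Ideal C') [P.IsPrime] [Algebra.IsSmoothAt A P] :
    Algebra.IsSmoothAt A (P.comap e.toAlgHom.toRingHom) := by
  refine Algebra.FormallySmooth.of_equiv (IsLocalization.algEquivOfAlgEquiv
    (Localization.AtPrime P) (Localization.AtPrime (P.comap e.toAlgHom.toRingHom)) e.symm
    (M := P.primeCompl) (T := (P.comap e.toAlgHom.toRingHom).primeCompl) ?_)
  ext x
  constructor
  · rintro ⟨y, hy, rfl⟩ hmem
    exact hy (by simpa using hmem)
  · intro hx
    exact ⟨e x, hx, by simp⟩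

theorem exists_chart_coordinates {A B C : Type u} [CommRing A] [CommRing B] [CommRing C] [Algebra A B] [Algebra A C]
    [Algebra.FinitePresentation A B] [Algebra.FinitePresentation A C] (ψ : B →ₐ[A] C)
    (hψ : Function.Surjective ψ) (P : Ideal C) [P.IsPrime] [Algebra.IsSmoothAt A P]
    [Algebra.IsSmoothAt A (P.comap ψ.toRingHom)] :
    ∃ (f : B) (_ : ψ f ∉ P) (n m : ℕ) (g : Fin n → B) (g' : Fin m → Localization.Away f),
      (∀ i, ψ (g i) = 0) ∧
      (MvPolynomial.aeval (Sum.elim (fun i => algebraMap B (Localization.Away f) (g i)) g') :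
          MvPolynomial (Fin n ⊕ Fin m) A →ₐ[A] Localization.Away f).toRingHom.Etale ∧
      (RingHom.ker ψ.toRingHom).map (algebraMap B (Localization.Away f)) =
        Ideal.span (Set.range fun i => algebraMap B (Localization.Away f) (g i)) := by
  classical
  let J : Ideal B := RingHom.ker ψ.toRingHom
  have hJ : J.FG := Algebra.FinitePresentation.ker_fG_of_surjective ψ hψ
  let e : (B ⧸ J) ≃ₐ[A] C := Ideal.quotientKerAlgEquivOfSurjective hψ
  let Q : Ideal (B ⧸ J) := P.comap e.toAlgHom.toRingHom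
  haveI : Algebra.IsSmoothAt A Q := isSmoothAt_comap_algEquiv e P
  have hq : Q.comap (Ideal.Quotient.mk J) = P.comap ψ.toRingHom := rfl
  let q : Ideal B := Q.comap (Ideal.Quotient.mk J)
  haveI : Algebra.IsSmoothAt A q := ‹Algebra.IsSmoothAt A (P.comap ψ.toRingHom)›
  haveI : Algebra.FormallySmooth A (Localization.AtPrime q) := ‹Algebra.IsSmoothAt A q›
  haveI : Algebra.EssFiniteType A (Localization.AtPrime q) :=
    haveI : Algebra.EssFiniteType B (Localization.AtPrime q) :=
      Algebra.EssFiniteType.of_isLocalization (Localization.AtPrime q) q.primeCompl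
    Algebra.EssFiniteType.comp A B (Localization.AtPrime q)
  obtain ⟨s, hsJ, hs, hli⟩ := (isSmoothAt_quotient_iff A B J hJ Q).mp ‹_›
  let σ : Fin s.card ≃ ↥s := s.equivFin.symm
  let g : Fin s.card → B := fun i => (σ i).1
  have hrange : (Set.range fun i => algebraMap B (Localization.AtPrime q) (g i)) =
      algebraMap B (Localization.AtPrime q) '' (↑s : Set B) := by
    ext x
    constructor
    · rintro ⟨i, rfl⟩; exact ⟨_, (σ i).2, rfl⟩
    · rintro ⟨b, hb, rfl⟩; exact ⟨σ.symm ⟨b, hb⟩, by simp [g]⟩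
  obtain ⟨f, hf, m, g', het, hspan⟩ := exists_etale_coordinates_of_linearIndependent A B J hJ q s.card g
    (fun i => hsJ (σ i).2) (hs.trans (congrArg Ideal.span hrange.symm)) (hli.comp σ σ.injective)
  exact ⟨f, hf, s.card, m, g, g', fun i => hsJ (σ i).2, het, hspan⟩

/-- An etale map of rings of sections gives an etale map to affine space. -/
theorem etale_homOfVector {X S : Scheme.{u}} (f : X ⟶ S) {W : S.Opens} (hW : IsAffineOpen W) {U : X.Opens}
    (hU : IsAffineOpen U) (e : U ≤ f ⁻¹ᵁ W) {n : Type u} (v : n → Γ(X, U))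
    (h : (MvPolynomial.eval₂Hom (f.appLE W U e).hom v).Etale) :
    Etale (AffineSpace.homOfVector (f.resLE W U e) (fun i => U.topIso.inv (v i))) := by
  haveI : IsAffine W.toScheme := hW
  haveI : IsAffine U.toScheme := hU
  let τ := AffineSpace.homOfVector (f.resLE W U e) (fun i => U.topIso.inv (v i))
  let j := AffineSpace.isoOfIsAffine n W.toScheme
  have hfac : τ ≫ j.hom = U.toScheme.toSpecΓ ≫ Spec.map (CommRingCat.ofHom
      (MvPolynomial.eval₂Hom (f.resLE W U e).appTop.hom (fun i => U.topIso.inv (v i)))) := by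
    rw [AffineSpace.isoOfIsAffine_hom, ← Category.assoc, Scheme.toSpecΓ_naturality, Category.assoc, ← Spec.map_comp]
    congr 2
    ext1
    apply MvPolynomial.ringHom_ext
    · intro a
      simp only [CommRingCat.hom_comp, CommRingCat.hom_ofHom, RingHom.comp_apply, MvPolynomial.eval₂Hom_C]
      rw [← CommRingCat.comp_apply, ← Scheme.Hom.comp_appTop, AffineSpace.homOfVector_over]
      exact (MvPolynomial.eval₂Hom_C _ _ a).symm
    · intro i
      simp only [CommRingCat.hom_comp, CommRingCat.hom_ofHom, RingHom.comp_apply, MvPolynomial.eval₂Hom_X']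
      refine (AffineSpace.homOfVector_appTop_coord _ _ i).trans ?_
      show _ = MvPolynomial.eval₂Hom (f.resLE W U e).appTop.hom (fun i => U.topIso.inv (v i)) (MvPolynomial.X i)
      rw [MvPolynomial.eval₂Hom_X']
  have hring : (MvPolynomial.eval₂Hom (f.resLE W U e).appTop.hom (fun i => U.topIso.inv (v i))).Etale := by
    let a : MvPolynomial n Γ(W.toScheme, ⊤) ≃+* MvPolynomial n Γ(S, W) :=
      MvPolynomial.mapEquiv n W.topIso.commRingCatIsoToRingEquiv
    have := RingHom.Etale.respectsIso.2 _ a (RingHom.Etale.respectsIso.1 _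
      U.topIso.symm.commRingCatIsoToRingEquiv h)
    convert this using 1
    apply MvPolynomial.ringHom_ext
    · intro c
      simp only [MvPolynomial.eval₂Hom_C, RingHom.comp_apply, a]
      simp [Scheme.Hom.appTop, Scheme.Hom.resLE_app_top]
    · intro i
      simp [a]
  have hspec : Etale (τ ≫ j.hom) := by
    rw [hfac, MorphismProperty.cancel_left_of_respectsIso @Etale, HasRingHomProperty.Spec_iff (P := @Etale)]
    exact hring
  exact (MorphismProperty.cancel_right_of_respectsIso @Etale τ j.hom).mp hspec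

instance isOpenImmersion_affineSpace_map {S T : Scheme.{u}} (n : Type u) (f : S ⟶ T) [IsOpenImmersion f] :
    IsOpenImmersion (AffineSpace.map n f) :=
  MorphismProperty.of_isPullback (AffineSpace.isPullback_map f).flip ‹_›

theorem etale_homOfVector_base {X S : Scheme.{u}} (f : X ⟶ S) {W : S.Opens} (hW : IsAffineOpen W) {U : X.Opens}
    (hU : IsAffineOpen U) (e : U ≤ f ⁻¹ᵁ W) {n : Type u} (v : n → Γ(X, U))
    (h : (MvPolynomial.eval₂Hom (f.appLE W U e).hom v).Etale) :
    Etale (AffineSpace.homOfVector (U.ι ≫ f) (fun i => U.topIso.inv (v i))) := by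
  haveI := etale_homOfVector f hW hU e v h
  have : AffineSpace.homOfVector (U.ι ≫ f) (fun i => U.topIso.inv (v i)) =
      AffineSpace.homOfVector (f.resLE W U e) (fun i => U.topIso.inv (v i)) ≫ AffineSpace.map n W.ι := by
    ext1
    · simp
    · simp
  rw [this]
  infer_instance

/-- Etale charts adapted to a smooth subscheme, in terms of sections. -/
theorem exists_chart {X Y S : Scheme.{u}} (f : X ⟶ S) [LocallyOfFinitePresentation f] (i : Y ⟶ X)
    [LocallyOfFinitePresentation (i ≫ f)] (W : S.Opens) (hW : IsAffineOpen W) (U : X.Opens)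
    (hU : IsAffineOpen U) (e : U ≤ f ⁻¹ᵁ W) (hiU : IsAffineOpen (i ⁻¹ᵁ U))
    (hsurj : Function.Surjective (i.app U)) (y : Y) (hy : i y ∈ U) (hs : i y ∈ f.smoothLocus)
    (hs' : y ∈ (i ≫ f).smoothLocus) :
    ∃ (V : X.Opens) (hV : IsAffineOpen V) (_ : i y ∈ V) (hVU : V ≤ U) (n m : ℕ)
      (v : Fin m ⊕ Fin n → Γ(X, V)),
      (MvPolynomial.eval₂Hom (f.appLE W V (hVU.trans e)).hom v).Etale ∧
      (∀ j, i.app V (v (Sum.inr j)) = 0) ∧
      RingHom.ker (i.app V).hom ≤ Ideal.span (Set.range fun j => v (Sum.inr j)) ∧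
      IsAffineOpen (i ⁻¹ᵁ V) ∧ Function.Surjective (i.app V) := by
  let A := Γ(S, W)
  let B := Γ(X, U)
  let C := Γ(Y, i ⁻¹ᵁ U)
  have eC : i ⁻¹ᵁ U ≤ (i ≫ f) ⁻¹ᵁ W := fun z hz => e hz
  letI : Algebra A B := (f.appLE W U e).hom.toAlgebra
  letI : Algebra A C := ((i ≫ f).appLE W (i ⁻¹ᵁ U) eC).hom.toAlgebra
  haveI : Algebra.FinitePresentation A B := f.finitePresentation_appLE hW hU e
  haveI : Algebra.FinitePresentation A C := (i ≫ f).finitePresentation_appLE hW hiU eC
  let ψ : B →ₐ[A] C :=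
    { (i.app U).hom with
      commutes' := fun a => by
        show (i.app U) ((f.appLE W U e) a) = ((i ≫ f).appLE W (i ⁻¹ᵁ U) eC) a
        rw [← CommRingCat.comp_apply, Scheme.Hom.app_eq_appLE, Scheme.Hom.appLE_comp_appLE] }
  let P : Ideal C := (hiU.primeIdealOf ⟨y, hy⟩).asIdeal
  have hcomap : P.comap ψ.toRingHom = (hU.primeIdealOf ⟨i y, hy⟩).asIdeal := by
    have := IsAffineOpen.comap_primeIdealOf_appLE (f := i) (x := y) U hU (i ⁻¹ᵁ U) hiU le_rfl hy
    rw [← Scheme.Hom.app_eq_appLE] at this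
    exact congrArg PrimeSpectrum.asIdeal this
  haveI : Algebra.IsSmoothAt A P := (formallySmooth_stalkMap_iff W hW (i ⁻¹ᵁ U) hiU eC hy).mp hs'
  haveI : Algebra.IsSmoothAt A (P.comap ψ.toRingHom) := by
    have h : Algebra.IsSmoothAt A (hU.primeIdealOf ⟨i y, hy⟩).asIdeal :=
      (formallySmooth_stalkMap_iff W hW U hU e hy).mp hs
    convert h
  obtain ⟨r, hr, n, m, g, g', hg, het, hspan⟩ := exists_chart_coordinates ψ hsurj P
  let V := X.basicOpen r
  let D := Γ(X, V)
  haveI hloc : IsLocalization.Away r D := hU.isLocalization_basicOpen r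
  have hVU : V ≤ U := X.basicOpen_le r
  letI : Algebra A D := (f.appLE W V (hVU.trans e)).hom.toAlgebra
  haveI : IsScalarTower A B D := IsScalarTower.of_algebraMap_eq fun a => by
    show (f.appLE W V (hVU.trans e)) a = (X.presheaf.map (homOfLE hVU).op) ((f.appLE W U e) a)
    rw [← CommRingCat.comp_apply, Scheme.Hom.appLE_map]
  let ε : Localization.Away r ≃ₐ[A] D :=
    (IsLocalization.algEquiv (Submonoid.powers r) (Localization.Away r) D).restrictScalars A
  let v : Fin m ⊕ Fin n → D := Sum.elim (fun j => ε (g' j)) fun j => algebraMap B D (g j)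
  have hεg : ∀ b : B, ε (algebraMap B (Localization.Away r) b) = algebraMap B D b := fun b =>
    AlgEquiv.commutes (IsLocalization.algEquiv (Submonoid.powers r) (Localization.Away r) D) b
  have hiV : i ⁻¹ᵁ V = Y.basicOpen (i.app U r) := i.preimage_basicOpen r
  have hyV : i y ∈ V := by
    rw [← Scheme.Hom.mem_preimage, hiV]
    have hne : i.app U r ∉ P := hr
    have hfr : hiU.fromSpec (hiU.primeIdealOf ⟨y, hy⟩) = y := hiU.fromSpec_primeIdealOf ⟨y, hy⟩
    rw [← hfr, ← Scheme.Hom.mem_preimage, hiU.fromSpec_preimage_basicOpen]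
    exact hne
  have hiVaff : IsAffineOpen (i ⁻¹ᵁ V) := hiV ▸ hiU.basicOpen _
  letI : Algebra C Γ(Y, i ⁻¹ᵁ V) := (Y.presheaf.map (homOfLE (show i ⁻¹ᵁ V ≤ i ⁻¹ᵁ U from fun z hz => hVU hz)).op).hom.toAlgebra
  haveI hlocC : IsLocalization.Away (ψ r) Γ(Y, i ⁻¹ᵁ V) := hiU.isLocalization_of_eq_basicOpen _ _ hiV
  have hnat : ∀ b : B, i.app V (algebraMap B D b) = algebraMap C Γ(Y, i ⁻¹ᵁ V) (ψ b) := fun b => by
    show (X.presheaf.map (homOfLE hVU).op ≫ i.app V) b = _
    rw [i.naturality]
    rfl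
  refine ⟨V, hU.basicOpen r, hyV, hVU, n, m, v, ?_, fun j => ?_, ?_, hiVaff, ?_⟩
  · let sw := (MvPolynomial.renameEquiv A (Equiv.sumComm (Fin m) (Fin n))).toRingEquiv
    have := RingHom.Etale.respectsIso.2 _ sw (RingHom.Etale.respectsIso.1 _ ε.toRingEquiv het)
    convert this using 1
    apply MvPolynomial.ringHom_ext
    · intro a
      simp [sw, RingHom.algebraMap_toAlgebra]
    · rintro (j | j) <;> simp [sw, v, hεg]
  · show i.app V (algebraMap B D (g j)) = 0
    rw [hnat, hg, map_zero]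
  · intro x hx
    obtain ⟨⟨b, ⟨_, k, rfl⟩⟩, hb⟩ := IsLocalization.surj (Submonoid.powers r) x
    have hx' : i.app V x = 0 := hx
    have h0 : algebraMap C Γ(Y, i ⁻¹ᵁ V) (ψ b) = 0 := by rw [← hnat, ← hb, map_mul, hx', zero_mul]
    obtain ⟨⟨_, l, rfl⟩, hl⟩ := (IsLocalization.map_eq_zero_iff (Submonoid.powers (ψ r)) _ _).mp h0
    have hmem : ε (algebraMap B (Localization.Away r) (r ^ l * b)) ∈
        (Ideal.span (Set.range fun j => algebraMap B (Localization.Away r) (g j))).map ε.toRingEquiv.toRingHom := by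
      refine Ideal.mem_map_of_mem _ ?_
      rw [← hspan]
      exact Ideal.mem_map_of_mem _ (show ψ (r ^ l * b) = 0 by rw [map_mul, map_pow]; exact hl)
    rw [Ideal.map_span, ← Set.range_comp] at hmem
    have hmem' : algebraMap B D (r ^ l * b) ∈ Ideal.span (Set.range fun j => v (Sum.inr j)) := by
      rw [← hεg]
      convert hmem using 4 with j
      exact (hεg _).symm
    have hu : IsUnit (algebraMap B D r) := IsLocalization.Away.algebraMap_isUnit r
    rw [map_mul, map_pow, ← hb, map_pow, mul_left_comm, ← pow_add, mul_comm] at hmem'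
    exact (Ideal.unit_mul_mem_iff_mem _ (hu.pow _)).mp hmem'
  · intro z
    obtain ⟨⟨c, ⟨_, k, rfl⟩⟩, hc⟩ := IsLocalization.surj (Submonoid.powers (ψ r)) z
    obtain ⟨b, rfl⟩ := hsurj c
    have hu : IsUnit (algebraMap B D r) := IsLocalization.Away.algebraMap_isUnit r
    obtain ⟨w, hw⟩ := (hu.pow k).exists_right_inv
    refine ⟨algebraMap B D b * w, ?_⟩
    rw [map_mul, hnat]
    refine ((IsUnit.mul_left_inj ((IsLocalization.Away.algebraMap_isUnit (ψ r) (S := Γ(Y, i ⁻¹ᵁ V))).pow k)).mp ?_)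
    rw [mul_assoc, show algebraMap C _ (ψ r) ^ k = i.app V (algebraMap B D r ^ k) by rw [map_pow, hnat], ← map_mul,
      mul_comm w, hw, map_one, mul_one, map_pow, hnat, ← map_pow]
    exact hc.symm

end Unram17Lib
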