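import Groth.Agent.S3830
import Mathlib.AlgebraicGeometry.Morphisms.Etale
import Mathlib.AlgebraicGeometry.Morphisms.QuasiFinite
import Mathlib.RingTheory.Unramified.LocalStructure

/-!
# Etale is smooth and locally quasi-finite
-/

set_option autoImplicit false
universe u
open CategoryTheory AlgebraicGeometry

namespace Unram17Lib

theorem etale_iff_smooth_and_quasiFinite {X Y : Scheme.{u}} (f : X ⟶ Y) :
    Etale f ↔ Smooth f ∧ LocallyQuasiFinite f := by
  constructor
  · intro hf
    refine ⟨inferInstance, ?_⟩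
    rw [HasRingHomProperty.iff_appLE (P := @LocallyQuasiFinite)]
    intro U V e
    have h := HasRingHomProperty.appLE (P := @Etale) f hf U V e
    algebraize [(f.appLE U.1 V.1 e).hom]
    haveI : Algebra.Etale Γ(Y, U.1) Γ(X, V.1) := h
    show Algebra.QuasiFinite Γ(Y, U.1) Γ(X, V.1)
    infer_instance
  · rintro ⟨hs, hq⟩
    rw [HasRingHomProperty.iff_appLE (P := @Etale)]
    intro U V e
    have h1 := HasRingHomProperty.appLE (P := @LocallyQuasiFinite) f hq U V e
    have h2 := f.smooth_appLE U.2 V.2 e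
    algebraize [(f.appLE U.1 V.1 e).hom]
    haveI : Algebra.Smooth Γ(Y, U.1) Γ(X, V.1) := h2
    haveI : Algebra.QuasiFinite Γ(Y, U.1) Γ(X, V.1) := h1
    show Algebra.Etale Γ(Y, U.1) Γ(X, V.1)
    rw [← Algebra.etaleLocus_eq_univ_iff_etale, Set.eq_univ_iff_forall]
    intro q
    exact Groth.Agent.S3830.result _ _ q.asIdeal
      (Algebra.smoothLocus_eq_univ (R := Γ(Y, U.1)) (A := Γ(X, V.1)) ▸ Set.mem_univ q :)

end Unram17Lib
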