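import Groth.Agent.Unram17Lib.FibreMap
import Groth.Agent.UnrStalkLib.Locus
import Groth.Agent.ConsLib.General
import Groth.Agent.UOpenLib.Criterion
import Groth.Agent.FlatLib.GenericReducedScheme
import Mathlib.AlgebraicGeometry.Morphisms.LocalFlatDescent

/-!
# Constructibility of the loci of smooth, etale and unramified fibre maps
-/

set_option autoImplicit false
set_option linter.style.haveILetI false
universe u
open CategoryTheory CategoryTheory.Limits AlgebraicGeometry TopologicalSpace Topology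
open RichLib.UnrLocus

noncomputable section

namespace Unram17Lib.FibreLoci

variable (P : MorphismProperty Scheme.{u})

/-- The property near a point. -/
def at' {X Y : Scheme.{u}} (f : X ⟶ Y) : Set X := {x | ∃ V : X.Opens, x ∈ V ∧ P (V.ι ≫ f)}

theorem isOpen_at' {X Y : Scheme.{u}} (f : X ⟶ Y) : IsOpen (at' P f) :=
  isOpen_iff_forall_mem_open.mpr fun _ ⟨V, hxV, hV⟩ => ⟨V, fun _ hy => ⟨V, hy, hV⟩, V.2, hxV⟩

theorem at'_eq_univ_iff [IsZariskiLocalAtSource P] {X Y : Scheme.{u}} (f : X ⟶ Y) : at' P f = Set.univ ↔ P f := by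
  constructor
  · intro h
    choose V hxV hV using fun x => (Set.eq_univ_iff_forall.mp h x : x ∈ at' P f)
    let U : TopologicalSpace.IsOpenCover V := TopologicalSpace.IsOpenCover.mk (eq_top_iff.mpr fun x _ =>
      TopologicalSpace.Opens.mem_iSup.mpr ⟨x, hxV x⟩)
    exact (IsZariskiLocalAtSource.iff_of_openCover (P := P) (X.openCoverOfIsOpenCover V U)).mpr hV
  · intro h
    exact Set.eq_univ_iff_forall.mpr fun x => ⟨⊤, trivial, IsZariskiLocalAtSource.comp h _⟩

/-- A property of morphisms, as a relation on morphisms of algebraic schemes. -/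
def rel : ∀ ⦃X Y T : Scheme.{u}⦄, (X ⟶ Y) → (Y ⟶ T) → Prop := fun _ _ _ f _ => P f

theorem isFieldStableMor_rel [P.IsStableUnderBaseChange]
    [P.DescendsAlong (@Surjective ⊓ @Flat ⊓ @QuasiCompact)] : ConsProp.IsFieldStableMor (rel P) := by
  intro X X' Y Y' T T' f g f' g' eX eY h _ _ _ _ _ _ _ _ hY hX
  haveI : Surjective h := ⟨fun t => ⟨Classical.arbitrary T', Subsingleton.elim _ _⟩⟩
  haveI : Flat h := inferInstance
  haveI : QuasiCompact h := ⟨fun U _ _ => (Set.toFinite _).isCompact⟩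
  have hQ : ((@Surjective ⊓ @Flat ⊓ @QuasiCompact) : MorphismProperty Scheme.{u}) eY :=
    ⟨⟨MorphismProperty.of_isPullback (P := @Surjective) hY.flip ‹_›,
      MorphismProperty.of_isPullback (P := @Flat) hY.flip ‹_›⟩,
      MorphismProperty.of_isPullback (P := @QuasiCompact) hY.flip ‹_›⟩
  exact (MorphismProperty.iff_of_isPullback (P := P) hX.flip hQ).symm

theorem fiberMap_eq {X Y S : Scheme.{u}} (f : X ⟶ Y) (g : Y ⟶ S) (s : S) :
    CohIII.fiberMapOver f (f ≫ g) g rfl s = MoreMor.fiberMap f g s :=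
  pullback.hom_ext ((pullback.lift_fst _ _ _).trans (pullback.lift_fst _ _ _).symm)
    ((pullback.lift_snd _ _ _).trans ((Category.comp_id _).trans (pullback.lift_snd _ _ _).symm))

/-- A property detected pointwise on the fibre maps over a dense open of the base is constructible. -/
theorem isConsMor_rel [P.IsStableUnderBaseChange] [P.DescendsAlong (@Surjective ⊓ @Flat ⊓ @QuasiCompact)]
    [IsZariskiLocalAtSource P]
    (H : ∀ {X Y S : Scheme.{u}} (f : X ⟶ Y) (g : Y ⟶ S) [LocallyOfFinitePresentation g]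
      [LocallyOfFinitePresentation (f ≫ g)] (x : X) (x' : (f ≫ g).fiber ((f ≫ g) x)),
      (f ≫ g).fiberι ((f ≫ g) x) x' = x → ((f ≫ g).stalkMap x).hom.Flat →
      (x' ∈ at' P (MoreMor.fiberMap f g ((f ≫ g) x)) ↔ x ∈ at' P f)) :
    ConsProp.IsConsMor (rel P) := by
  refine ⟨isFieldStableMor_rel P, fun X Y S f g _ _ _ _ _ _ => ?_⟩
  haveI := UOpenLib.locallyOfFinitePresentation_of_isLocallyNoetherian g
  haveI := UOpenLib.locallyOfFinitePresentation_of_isLocallyNoetherian (f ≫ g)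
  obtain ⟨U, hUd, hflat, -⟩ := FlatLib.exists_dense_flat (f ≫ g)
  have hfl : ∀ x, (f ≫ g) x ∈ U → ((f ≫ g).stalkMap x).hom.Flat := fun x hx =>
    (RingHom.Flat.respectsIso.arrow_mk_iso_iff (morphismRestrictStalkMap (f ≫ g) U ⟨x, hx⟩)).mp
      (Flat.stalkMap ((f ≫ g) ∣_ U) ⟨x, hx⟩)
  let E : Set S := (f ≫ g) '' (at' P f)ᶜ
  have hloc : ∀ s ∈ U, (s ∈ ConsProp.locusMor (rel P) f g ↔ s ∉ E) := by
    intro s hs
    show P (MoreMor.fiberMap f g s) ↔ _
    rw [← at'_eq_univ_iff P (MoreMor.fiberMap f g s), Set.eq_univ_iff_forall]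
    constructor
    · rintro h ⟨x, hx, rfl⟩
      obtain ⟨x', hx'⟩ : x ∈ Set.range ((f ≫ g).fiberι ((f ≫ g) x)) := by rw [(f ≫ g).range_fiberι]; rfl
      exact hx ((H f g x x' hx' (hfl _ hs)).mp (h x'))
    · intro h x'
      obtain ⟨x, hx⟩ : ∃ x, (f ≫ g).fiberι s x' = x := ⟨_, rfl⟩
      have hxs : (f ≫ g) x = s := (f ≫ g).range_fiberι s |>.subset ⟨x', hx⟩
      subst hxs
      refine (H f g x x' hx (hfl _ hs)).mpr ?_
      by_contra hne
      exact h ⟨_, hne, rfl⟩
  haveI : IsNoetherian X := ConsLib.isNoetherian_of_ft (f ≫ g)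
  have hC : IsLocallyConstructible (at' P f)ᶜ :=
    RichLib.FibreRange.isLocallyConstructible_compl ((NoetherianSpace.isCompact (at' P f)).isRetrocompact (isOpen_at' P f) |>.isConstructible (isOpen_at' P f)).isLocallyConstructible
  have hE : IsLocallyConstructible E := Scheme.Hom.isLocallyConstructible_image (f ≫ g) hC
  have hU : (U : Set S).Nonempty := hUd.nonempty
  have hind : ∀ F : Set S, IsLocallyConstructible F → genericPoint S ∈ F → (interior (F ∩ U)).Nonempty :=
    fun F hF hη => ⟨genericPoint S, by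
      rw [interior_inter, U.isOpen.interior_eq]
      exact ⟨ConsLib.mem_interior_of_indConstructible ((Groth.Agent.ProConsLib.isLocallyConstructible_iff_ind_and_pro (E := F)).mp hF).1 hη,
        (genericPoint_spec S).mem_open_set_iff U.isOpen |>.mpr (by simpa using hU)⟩⟩
  by_cases hη : genericPoint S ∈ E
  · exact Or.inr ((hind E hE hη).mono (interior_mono (show E ∩ U ⊆ (ConsProp.locusMor (rel P) f g)ᶜ from fun s ⟨hs, hsU⟩ h => (hloc s hsU).mp h hs)))
  · exact Or.inl ((hind Eᶜ (RichLib.FibreRange.isLocallyConstructible_compl hE) hη).mono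
      (interior_mono (show Eᶜ ∩ U ⊆ ConsProp.locusMor (rel P) f g from fun s ⟨hs, hsU⟩ => (hloc s hsU).mpr hs)))

theorem fibre_iff_smooth {X Y S : Scheme.{u}} (f : X ⟶ Y) (g : Y ⟶ S) [LocallyOfFinitePresentation g]
    [LocallyOfFinitePresentation (f ≫ g)] (x : X) (x' : (f ≫ g).fiber ((f ≫ g) x))
    (hx : (f ≫ g).fiberι ((f ≫ g) x) x' = x) (hfl : ((f ≫ g).stalkMap x).hom.Flat) :
    x' ∈ at' @Smooth (MoreMor.fiberMap f g ((f ≫ g) x)) ↔ x ∈ at' @Smooth f := by
  rw [← fiberMap_eq f g]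
  exact (Unram17Lib.smoothAt_fibreMap g (f ≫ g) f rfl x hfl x' hx).symm

theorem fibre_iff_etale {X Y S : Scheme.{u}} (f : X ⟶ Y) (g : Y ⟶ S) [LocallyOfFinitePresentation g]
    [LocallyOfFinitePresentation (f ≫ g)] (x : X) (x' : (f ≫ g).fiber ((f ≫ g) x))
    (hx : (f ≫ g).fiberι ((f ≫ g) x) x' = x) (hfl : ((f ≫ g).stalkMap x).hom.Flat) :
    x' ∈ at' @Etale (MoreMor.fiberMap f g ((f ≫ g) x)) ↔ x ∈ at' @Etale f := by
  rw [← fiberMap_eq f g]
  exact (Unram17Lib.etaleAt_fibreMap g (f ≫ g) f rfl x hfl x' hx).symm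

theorem fibre_iff_unramified {X Y S : Scheme.{u}} (f : X ⟶ Y) (g : Y ⟶ S) [LocallyOfFinitePresentation g]
    [LocallyOfFinitePresentation (f ≫ g)] (x : X) (x' : (f ≫ g).fiber ((f ≫ g) x))
    (hx : (f ≫ g).fiberι ((f ≫ g) x) x' = x) :
    x' ∈ at' @FormallyUnramified (MoreMor.fiberMap f g ((f ≫ g) x)) ↔ x ∈ at' @FormallyUnramified f := by
  haveI : LocallyOfFiniteType f := locallyOfFiniteType_of_comp f g
  rw [← fiberMap_eq f g]
  have h := UnrStalkLib.mem_locus_fiberMapOver_iff f g (f ≫ g) rfl ((f ≫ g) x) x'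
  rw [hx] at h
  exact h

theorem isConsMor_smooth : ConsProp.IsConsMor (rel @Smooth.{u}) :=
  isConsMor_rel _ fun f g _ _ x x' hx hfl => fibre_iff_smooth f g x x' hx hfl

theorem isConsMor_etale : ConsProp.IsConsMor (rel @Etale.{u}) :=
  isConsMor_rel _ fun f g _ _ x x' hx hfl => fibre_iff_etale f g x x' hx hfl

theorem isConsMor_unramified : ConsProp.IsConsMor (rel @FormallyUnramified.{u}) :=
  isConsMor_rel _ fun f g _ _ x x' hx _ => fibre_iff_unramified f g x x' hx

/-- The locus where the base change of `f` to the fibre has `P` is locally constructible. -/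
theorem isLocallyConstructible_setOf [P.RespectsIso] (hP : ConsProp.IsConsMor (rel P)) {X Y S : Scheme.{u}}
    (f : X ⟶ Y) (g : Y ⟶ S) [LocallyOfFinitePresentation g] [QuasiCompact g] [QuasiSeparated g]
    [LocallyOfFinitePresentation (f ≫ g)] [QuasiCompact (f ≫ g)] [QuasiSeparated (f ≫ g)] :
    IsLocallyConstructible {s : S | P (pullback.snd f (g.fiberι s))} := by
  convert ConsLib.isLocallyConstructible_locusMor hP f g using 1
  ext s
  show P (pullback.snd f (g.fiberι s)) ↔ P (MoreMor.fiberMap f g s)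
  rw [← (ConsLib.isPullback_fiberMap f g s).isoPullback_hom_snd, P.cancel_left_of_respectsIso]

end Unram17Lib.FibreLoci

end
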