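import Groth.Agent.S2116
import Groth.Agent.SmoothDimLib.Criterion
import Mathlib.RingTheory.Jacobson.Ring

/-!
# Regular algebras of finite type over an algebraically closed field
-/

set_option autoImplicit false
set_option linter.style.haveILetI false
universe u
open TensorProduct AlgebraicGeometry CategoryTheory

noncomputable section

namespace Unram17Lib

theorem formallySmooth_of_isSmoothAt_maximal (k A : Type u) [Field k] [CommRing A] [Algebra k A]
    [Algebra.FiniteType k A] (h : ∀ (m : Ideal A) [m.IsMaximal], Algebra.IsSmoothAt k m) :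
    Algebra.FormallySmooth k A := by
  haveI : Algebra.FinitePresentation k A := Algebra.FinitePresentation.of_finiteType.mp ‹_›
  rw [← Algebra.smoothLocus_eq_univ_iff, Set.eq_univ_iff_forall]
  intro p
  obtain ⟨m, hm, hpm⟩ := Ideal.exists_le_maximal p.asIdeal p.isPrime.ne_top
  exact ((PrimeSpectrum.le_iff_specializes p ⟨m, hm.isPrime⟩).mp hpm).mem_open
    Algebra.isOpen_smoothLocus (show (⟨m, hm.isPrime⟩ : PrimeSpectrum A) ∈ Algebra.smoothLocus k A from h m)

theorem isRegularRing_iff_formallySmooth (k A : Type u) [Field k] [IsAlgClosed k] [CommRing A] [Algebra k A]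
    [Algebra.FiniteType k A] : IsRegularRing A ↔ Algebra.FormallySmooth k A := by
  haveI : IsNoetherianRing A := Algebra.FiniteType.isNoetherianRing k A
  rw [isRegularRing_iff]
  constructor
  · intro h
    exact formallySmooth_of_isSmoothAt_maximal k A fun m _ =>
      (Groth.Agent.S2116.result m).mp (h m)
  · intro h p _
    haveI : Algebra.FormallySmooth A (Localization.AtPrime p) := Algebra.FormallySmooth.of_isLocalization p.primeCompl
    haveI : Algebra.FormallySmooth k (Localization.AtPrime p) :=
      Algebra.FormallySmooth.comp k A (Localization.AtPrime p)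
    haveI : IsNoetherianRing (Localization.AtPrime p) :=
      IsLocalization.isNoetherianRing p.primeCompl _ inferInstance
    exact CohenLib.isRegularLocalRing_of_formallySmooth (k := k)

theorem isReduced_and_regular_iff (k : Type u) [Field k] [IsAlgClosed k] (A : Type u) [CommRing A]
    [Algebra k A] [Algebra.FiniteType k A] (hirr : (nilradical A).IsPrime) (n : ℕ) (hn : ringKrullDim A = n) :
    (IsReduced A ∧ IsRegularRing A) ↔
      (Module.Projective A (Ω[A⁄k]) ∧
        ∀ (P : Ideal A) [P.IsPrime],
          Module.finrank P.ResidueField (P.ResidueField ⊗[A] Ω[A⁄k]) = n) := by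
  haveI : IsNoetherianRing A := Algebra.FiniteType.isNoetherianRing k A
  let f := Spec.map (CommRingCat.ofHom (algebraMap k A))
  haveI : LocallyOfFiniteType f := by
    rw [HasRingHomProperty.Spec_iff (P := @LocallyOfFiniteType)]
    exact RingHom.finiteType_algebraMap.mpr inferInstance
  haveI : IrreducibleSpace ↥(Spec (CommRingCat.of A)) :=
    PrimeSpectrum.irreducibleSpace_iff_isPrime_nilradical.mpr hirr
  have hld : ∀ x : PrimeSpectrum A, FlatMor.localDim (PrimeSpectrum A) x = (n : WithBot ℕ∞) := fun x =>
    (FibDimLib.localDim_of_irreducible (F := Spec (CommRingCat.of A)) f x).trans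
      ((PrimeSpectrum.topologicalKrullDim_eq_ringKrullDim A).trans hn)
  rw [isRegularRing_iff_formallySmooth k A]
  constructor
  · rintro ⟨-, hs⟩
    refine ⟨inferInstance, fun P _ => ?_⟩
    haveI : Algebra.IsSmoothAt k P :=
      haveI : Algebra.FormallySmooth A (Localization.AtPrime P) :=
        Algebra.FormallySmooth.of_isLocalization P.primeCompl
      Algebra.FormallySmooth.comp k A (Localization.AtPrime P)
    obtain ⟨_, -, -, -, hd⟩ := SmoothDimLib.exists_chart (k := k) P P.ResidueField
      (Ideal.ker_algebraMap_residueField P)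
    have h := hd.symm.trans (hld ⟨P, inferInstance⟩)
    exact_mod_cast h
  · rintro ⟨-, hrk⟩
    have hs : ∀ (P : Ideal A) [P.IsPrime], Algebra.IsSmoothAt k P := fun P _ =>
      (SmoothDimLib.isSmoothAt_iff P).mpr (by rw [hrk P, hld]; exact le_rfl)
    refine ⟨⟨fun a ha => ?_⟩, formallySmooth_of_isSmoothAt_maximal k A fun m _ => hs m⟩
    by_contra hne
    obtain ⟨m, hm, hle⟩ := Ideal.exists_le_maximal (LinearMap.ker (LinearMap.toSpanSingleton A A a)) (by
      intro h
      exact hne (by simpa using (h ▸ Submodule.mem_top : (1 : A) ∈ LinearMap.ker (LinearMap.toSpanSingleton A A a))))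
    haveI : Algebra.IsSmoothAt k m := hs m
    haveI : Algebra.FormallySmooth k (Localization.AtPrime m) := hs m
    haveI : IsNoetherianRing (Localization.AtPrime m) :=
      IsLocalization.isNoetherianRing m.primeCompl _ inferInstance
    haveI : IsRegularLocalRing (Localization.AtPrime m) := CohenLib.isRegularLocalRing_of_formallySmooth (k := k)
    haveI : IsDomain (Localization.AtPrime m) := CommAlgDim.isDomain_of_isRegularLocalRing _
    have h0 : algebraMap A (Localization.AtPrime m) a = 0 := (ha.map _).eq_zero
    obtain ⟨t, ht⟩ := (IsLocalization.map_eq_zero_iff m.primeCompl (Localization.AtPrime m) a).mp h0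
    exact t.2 (hle (show (t : A) * a = 0 from ht))

end Unram17Lib
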