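import Groth.Agent.CohenLib.SmoothPoint
import Mathlib.LinearAlgebra.TensorProduct.Quotient
import Mathlib.RingTheory.RegularLocalRing.Defs
import Mathlib.RingTheory.Ideal.Cotangent
import Mathlib.RingTheory.Nilpotent.GeometricallyReduced

/-!
# Differentials at a rational point
-/

set_option autoImplicit false
set_option linter.style.haveILetI false
universe u
open TensorProduct IsLocalRing

noncomputable section

namespace Unram17Lib

theorem finrank_cotangentSpace_eq (k B : Type u) [Field k] [CommRing B] [Algebra k B] [IsLocalRing B]
    (hres : Function.Bijective (algebraMap k (ResidueField B))) :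
    Module.finrank (ResidueField B) (CotangentSpace B) =
      Module.finrank (ResidueField B) (ResidueField B ⊗[B] Ω[B⁄k]) := by
  let m := maximalIdeal B
  let K := ResidueField B
  let E := AlgEquiv.ofBijective (Algebra.ofId k K) hres
  let π : B →ₐ[k] k := E.symm.toAlgHom.comp (IsScalarTower.toAlgHom k B K)
  have hπ : ∀ b : B, b - algebraMap k B (π b) ∈ m := fun b => by
    rw [← residue_eq_zero_iff, map_sub, sub_eq_zero]
    show residue B b = residue B (algebraMap k B (π b))
    rw [show residue B (algebraMap k B (π b)) = algebraMap k K (π b) from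
      (IsScalarTower.algebraMap_apply k B K (π b)).symm]
    exact (E.apply_symm_apply (residue B b)).symm
  let c : B → m.Cotangent := fun b => m.toCotangent ⟨b - algebraMap k B (π b), hπ b⟩
  let Dl : B →ₗ[k] m.Cotangent :=
    { toFun := c
      map_add' := fun a b => by
        simp only [c, ← map_add]
        congr 1
        ext
        simp only [map_add, Submodule.coe_add]
        ring
      map_smul' := fun r b => by
        rw [RingHom.id_apply, ← algebraMap_smul B r (c b)]
        simp only [c, ← map_smul]
        congr 1
        ext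
        simp only [map_smul, SetLike.val_smul, smul_eq_mul, Algebra.smul_def, map_mul, AlgHom.commutes]
        simp only [Algebra.algebraMap_self, RingHom.id_apply]
        ring }
  let D : Derivation k B m.Cotangent := Derivation.mk' Dl fun a b => by
    show c (a * b) = a • c b + b • c a
    simp only [c, ← map_smul, ← map_add]
    rw [Ideal.toCotangent_eq]
    simp only [map_mul, Submodule.coe_add, SetLike.val_smul, smul_eq_mul]
    rw [show a * b - algebraMap k B (π a) * algebraMap k B (π b) -
      (a * (b - algebraMap k B (π b)) + b * (a - algebraMap k B (π a))) =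
      -((a - algebraMap k B (π a)) * (b - algebraMap k B (π b))) by ring, pow_two]
    exact neg_mem (Ideal.mul_mem_mul (hπ a) (hπ b))
  let g0 : Ω[B⁄k] →ₗ[B] m.Cotangent := D.liftKaehlerDifferential
  let g1 : Ω[B⁄k] ⧸ (m • (⊤ : Submodule B Ω[B⁄k])) →ₗ[B] m.Cotangent :=
    Submodule.liftQ _ g0 (Submodule.smul_le.mpr fun r hr x _ => by
      rw [LinearMap.mem_ker, map_smul]
      obtain ⟨y, hy⟩ := Ideal.toCotangent_surjective m (g0 x)
      rw [← hy, ← map_smul, Ideal.toCotangent_eq_zero, SetLike.val_smul, smul_eq_mul, pow_two]
      exact Ideal.mul_mem_mul hr y.2)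
  let g : K ⊗[B] Ω[B⁄k] →ₗ[B] m.Cotangent := g1.comp (quotTensorEquivQuotSMul Ω[B⁄k] m).toLinearMap
  have hg : ∀ x, g (1 ⊗ₜ KaehlerDifferential.D k B x) = c x := fun x => by
    refine (congrArg g1 (quotTensorEquivQuotSMul_mk_tmul m (1 : B) (KaehlerDifferential.D k B x))).trans ?_
    rw [one_smul]
    exact D.liftKaehlerDifferential_comp_D x
  let h0 : m →ₗ[B] K ⊗[B] Ω[B⁄k] :=
    { toFun := fun x => 1 ⊗ₜ KaehlerDifferential.D k B (x : B)
      map_add' := fun x y => by simp [tmul_add]
      map_smul' := fun r x => by
        simp only [SetLike.val_smul, smul_eq_mul, Derivation.leibniz, tmul_add, RingHom.id_apply]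
        rw [tmul_smul, show (x : B) • KaehlerDifferential.D k B r = (x : B) • KaehlerDifferential.D k B r from rfl,
          tmul_smul, ← algebraMap_smul K (x : B) ((1 : K) ⊗ₜ[B] KaehlerDifferential.D k B r),
          show algebraMap B K (x : B) = 0 from (residue_eq_zero_iff (x : B)).mpr x.2, zero_smul, add_zero] }
  let h : m.Cotangent →ₗ[B] K ⊗[B] Ω[B⁄k] :=
    Submodule.liftQ _ h0 (Submodule.smul_le.mpr fun r hr x _ => by
      rw [LinearMap.mem_ker, map_smul, ← algebraMap_smul K r (h0 x),
        show algebraMap B K r = 0 from (residue_eq_zero_iff r).mpr hr, zero_smul])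
  have hh : ∀ x, h (m.toCotangent x) = 1 ⊗ₜ KaehlerDifferential.D k B (x : B) := fun x => rfl
  have hgh : g.comp h = LinearMap.id := LinearMap.ext fun z => by
    obtain ⟨x, rfl⟩ := Ideal.toCotangent_surjective m z
    rw [LinearMap.comp_apply, hh, hg, LinearMap.id_apply]
    show m.toCotangent _ = _
    congr 1
    ext
    show (x : B) - algebraMap k B (π x) = x
    have : π (x : B) = 0 := by
      show E.symm (residue B (x : B)) = 0
      rw [(residue_eq_zero_iff (x : B)).mpr x.2, map_zero]
    rw [this, map_zero, sub_zero]
  have hhg : h.comp g = LinearMap.id := LinearMap.ext fun z => by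
    rw [LinearMap.comp_apply, LinearMap.id_apply]
    induction z using TensorProduct.induction_on with
    | zero => simp
    | add a b ha hb => rw [map_add, map_add, ha, hb]
    | tmul q x =>
      obtain ⟨r, rfl⟩ := residue_surjective q
      rw [show residue B r ⊗ₜ[B] x = r • ((1 : K) ⊗ₜ[B] x) by
        rw [TensorProduct.smul_tmul', Algebra.smul_def, mul_one]; rfl, map_smul, map_smul]
      congr 1
      induction ((KaehlerDifferential.span_range_derivation k B).ge (Submodule.mem_top (x := x))) using
        Submodule.span_induction with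
      | mem x hx =>
        obtain ⟨b, rfl⟩ := hx
        rw [hg, hh, Derivation.map_sub, Derivation.map_algebraMap, sub_zero]
      | zero => simp
      | add a b _ _ ha hb => rw [tmul_add, map_add, map_add, ha, hb]
      | smul s y _ hy => rw [tmul_smul, map_smul, map_smul, hy]
  let e : m.Cotangent ≃ₗ[B] K ⊗[B] Ω[B⁄k] := LinearEquiv.ofLinear h g hhg hgh
  exact (e.extendScalarsOfSurjective residue_surjective).finrank_eq

theorem isGeometricallyReduced_self (k : Type u) [Field k] : Algebra.IsGeometricallyReduced k k :=
  ⟨fun p _ => isReduced_of_injective (Algebra.TensorProduct.rid k k (AlgebraicClosure p.ResidueField)).toAlgHom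
    (Algebra.TensorProduct.rid k k (AlgebraicClosure p.ResidueField)).injective⟩

theorem isRegularLocalRing_iff_kaehler (k B : Type u) [Field k] [CommRing B] [Algebra k B] [IsLocalRing B]
    [Algebra.EssFiniteType k B] (hres : Function.Bijective (algebraMap k (ResidueField B)))
    (d : ℕ) (hd : ringKrullDim B = (d : WithBot ℕ∞)) :
    IsRegularLocalRing B ↔ (Module.Free B Ω[B⁄k] ∧ Module.finrank B Ω[B⁄k] = d) := by
  haveI : IsNoetherianRing B := Algebra.EssFiniteType.isNoetherianRing k B
  constructor
  · intro hreg
    let S := Algebra.EssFiniteType.subalgebra k B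
    let M := Algebra.EssFiniteType.submonoid k B
    let q : Ideal S := (maximalIdeal B).comap (algebraMap S B)
    haveI : IsLocalization q.primeCompl B := IsLocalization.of_le M q.primeCompl
      (fun s hs hq => (mem_maximalIdeal _).mp hq (IsLocalization.map_units B (⟨s, hs⟩ : M)))
      (fun s hs => by
        by_contra hn
        exact hs ((mem_maximalIdeal _).mpr hn))
    let e : Localization.AtPrime q ≃ₐ[k] B :=
      (IsLocalization.algEquiv q.primeCompl (Localization.AtPrime q) B).restrictScalars k
    let E := AlgEquiv.ofBijective (Algebra.ofId k (ResidueField B)) hres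
    let g0 : Localization.AtPrime q →ₐ[k] k :=
      E.symm.toAlgHom.comp ((IsScalarTower.toAlgHom k B (ResidueField B)).comp e.toAlgHom)
    let f : q.ResidueField →ₐ[k] k := Ideal.Quotient.liftₐ _ g0 fun a ha => by
      show E.symm (residue B (e a)) = 0
      rw [(residue_eq_zero_iff (e a)).mpr ((map_mem_nonunits_iff e a).mpr ha), map_zero]
    haveI := isGeometricallyReduced_self k
    haveI : Algebra.IsGeometricallyReduced k q.ResidueField :=
      Algebra.IsGeometricallyReduced.of_injective f f.toRingHom.injective
    haveI : IsRegularLocalRing (Localization.AtPrime q) :=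
      IsRegularLocalRing.of_ringEquiv e.symm.toRingEquiv
    haveI : Algebra.FormallySmooth k (Localization.AtPrime q) :=
      (CohenLib.isSmoothAt_iff_isRegularLocalRing k S q).mpr ‹_›
    haveI : Algebra.FormallySmooth k B := Algebra.FormallySmooth.of_equiv e
    haveI : Module.Free B Ω[B⁄k] := Module.free_of_flat_of_isLocalRing
    refine ⟨inferInstance, ?_⟩
    have h := (IsRegularLocalRing.iff_finrank_cotangentSpace B).mp hreg
    rw [finrank_cotangentSpace_eq k B hres, Module.finrank_baseChange, hd] at h
    exact_mod_cast h
  · rintro ⟨_, hr⟩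
    rw [IsRegularLocalRing.iff_finrank_cotangentSpace, finrank_cotangentSpace_eq k B hres,
      Module.finrank_baseChange, hr, hd]

end Unram17Lib
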