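import Groth.Agent.SmoothDimLib.Omega
import Groth.Agent.CMFlatLib.QFFlat
import Groth.Agent.CMFlatLib.Fibre
import Groth.Agent.CMFlatLib.FibreDepth
import Groth.Agent.FlatLib.FibreStalk

/-!
# Smoothness over a regular base under the dimension formula
-/

set_option autoImplicit false
set_option linter.style.haveILetI false
universe u
open CategoryTheory AlgebraicGeometry TopologicalSpace IsLocalRing TensorProduct

noncomputable section

namespace Unram17Lib.RegularBase

/-- A local algebra over a regular local ring with regular closed fibre and the expected dimension is regular. -/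
theorem isRegularLocalRing_of_dim (A B : Type u) [CommRing A] [IsRegularLocalRing A] [CommRing B] [IsLocalRing B]
    [IsNoetherianRing B] [Algebra A B] [IsLocalHom (algebraMap A B)]
    [IsRegularLocalRing (B ⧸ (maximalIdeal A).map (algebraMap A B))]
    (hdim : ringKrullDim B = ringKrullDim A + ringKrullDim (B ⧸ (maximalIdeal A).map (algebraMap A B))) :
    IsRegularLocalRing B := by
  classical
  let I := (maximalIdeal A).map (algebraMap A B)
  let F := B ⧸ I
  have hmax : (maximalIdeal B).map (Ideal.Quotient.mk I) = maximalIdeal F :=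
    IsLocalRing.map_maximalIdeal_of_surjective _ Ideal.Quotient.mk_surjective
  have hle : (maximalIdeal B).spanFinrank ≤ (maximalIdeal A).spanFinrank + (maximalIdeal F).spanFinrank := by
    have hfgA : (maximalIdeal A).FG := IsNoetherian.noetherian _
    have hfgF : (maximalIdeal F).FG := IsNoetherian.noetherian _
    choose l hl using fun y : F => Ideal.Quotient.mk_surjective (I := I) y
    let GA := (maximalIdeal A).generators
    let GF := (maximalIdeal F).generators
    have hGA : Ideal.span GA = maximalIdeal A := Submodule.span_generators _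
    have hGF : Ideal.span GF = maximalIdeal F := Submodule.span_generators _
    have hfA := Submodule.FG.finite_generators hfgA
    have hfF := Submodule.FG.finite_generators hfgF
    have h1 : maximalIdeal B = Ideal.span (algebraMap A B '' GA ∪ l '' GF) := by
      refine le_antisymm (fun b hb => ?_) ?_
      · rw [Ideal.span_union, ← Ideal.map_span, hGA]
        have h2 := Ideal.mem_map_of_mem (Ideal.Quotient.mk I) hb
        rw [hmax, ← hGF, show GF = Ideal.Quotient.mk I '' (l '' GF) by
          rw [Set.image_image]; simp [hl], ← Ideal.map_span, Ideal.mem_quotient_iff_mem_sup, sup_comm] at h2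
        exact h2
      · rw [Ideal.span_le, Set.union_subset_iff]
        refine ⟨?_, ?_⟩
        · rintro _ ⟨a, ha, rfl⟩
          exact map_nonunit (algebraMap A B) a (hGA ▸ Ideal.subset_span ha)
        · rintro _ ⟨y, hy, rfl⟩
          have : y ∈ maximalIdeal F := hGF ▸ Ideal.subset_span hy
          intro hu
          exact this (hl y ▸ hu.map (Ideal.Quotient.mk I))
    rw [h1]
    refine (Submodule.spanFinrank_span_le_ncard_of_finite ((hfA.image _).union (hfF.image _))).trans ?_
    refine (Set.ncard_union_le _ _).trans (Nat.add_le_add ?_ ?_)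
    · exact (Set.ncard_image_le hfA).trans (Submodule.FG.generators_ncard hfgA).le
    · exact (Set.ncard_image_le hfF).trans (Submodule.FG.generators_ncard hfgF).le
  refine IsRegularLocalRing.of_spanFinrank_maximalIdeal_le _ ?_
  rw [hdim, ← (isRegularLocalRing_iff A).1 inferInstance, ← (isRegularLocalRing_iff F).1 inferInstance]
  exact_mod_cast hle

/-- The fibre is smooth at a point where the differentials need no more generators than its dimension. -/
theorem fibre_smoothAt (A B : Type u) [CommRing A] [CommRing B] [Algebra A B] [Algebra.FinitePresentation A B]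
    (q : PrimeSpectrum B) (Q : PrimeSpectrum ((q.asIdeal.comap (algebraMap A B)).Fiber B))
    (hQ : Q.asIdeal.comap (Algebra.TensorProduct.includeRight.toRingHom) = q.asIdeal)
    (h : (((Module.finrank q.asIdeal.ResidueField (q.asIdeal.ResidueField ⊗[B] Ω[B⁄A]) : ℕ) : ℕ∞) : WithBot ℕ∞) ≤
        FlatMor.localDim (PrimeSpectrum ((q.asIdeal.comap (algebraMap A B)).Fiber B)) Q) :
    Algebra.IsSmoothAt (q.asIdeal.comap (algebraMap A B)).ResidueField Q.asIdeal := by
  let p := q.asIdeal.comap (algebraMap A B)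
  let κ := p.ResidueField
  let K := q.asIdeal.ResidueField
  let C := p.Fiber B
  haveI : q.asIdeal.LiesOver p := ⟨rfl⟩
  haveI : Algebra.FiniteType κ C := inferInstance
  letI : Algebra κ K := (Ideal.ResidueField.map p q.asIdeal (algebraMap A B) rfl).toAlgebra
  haveI : IsScalarTower A κ K := IsScalarTower.of_algebraMap_eq fun r => by
    rw [IsScalarTower.algebraMap_apply A B K]
    exact (Ideal.ResidueField.map_algebraMap p q.asIdeal (algebraMap A B) rfl r).symm
  let θ : C →ₐ[κ] K := Algebra.TensorProduct.lift (Algebra.ofId κ K) (IsScalarTower.toAlgHom A B K) fun _ _ => Commute.all _ _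
  letI : Algebra B C := Algebra.TensorProduct.rightAlgebra
  letI : Algebra C K := θ.toRingHom.toAlgebra
  haveI : IsScalarTower B C K := IsScalarTower.of_algebraMap_eq fun b => by
    show algebraMap B K b = θ (1 ⊗ₜ b)
    exact (by rw [show θ (1 ⊗ₜ b) = Algebra.ofId κ K 1 * IsScalarTower.toAlgHom A B K b from Algebra.TensorProduct.lift_tmul _ _ _ _ _, map_one, one_mul]; rfl)
  let Q' : PrimeSpectrum C := ⟨RingHom.ker (algebraMap C K), RingHom.ker_isPrime _⟩
  have hQ' : Q'.asIdeal.comap (Algebra.TensorProduct.includeRight.toRingHom) = q.asIdeal := by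
    ext b
    show θ (1 ⊗ₜ b) = 0 ↔ _
    rw [show θ (1 ⊗ₜ b) = algebraMap B K b from (IsScalarTower.algebraMap_apply B C K b).symm]
    exact Ideal.algebraMap_residueField_eq_zero
  have hQQ : Q' = Q := by
    apply (PrimeSpectrum.preimageHomeomorphFiber A B ⟨p, inferInstance⟩).symm.injective
    exact Subtype.ext (PrimeSpectrum.ext (hQ'.trans hQ.symm))
  subst hQQ
  haveI hQprime : (RingHom.ker (algebraMap C K)).IsPrime := RingHom.ker_isPrime _
  haveI : Algebra.IsPushout A κ B C := inferInstance
  have hrank : Module.finrank K (K ⊗[C] Ω[C⁄κ]) = Module.finrank K (K ⊗[B] Ω[B⁄A]) :=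
    ((AlgebraTensorModule.cancelBaseChange B C K K Ω[B⁄A]).symm ≪≫ₗ
      AlgebraTensorModule.congr (LinearEquiv.refl K K) (KaehlerDifferential.tensorKaehlerEquiv A κ B C)).finrank_eq.symm
  exact SmoothDimLib.isSmoothAt_of_finrank_le (k := κ) (RingHom.ker (algebraMap C K)) K rfl
    (le_trans (le_of_eq (congrArg (fun m : ℕ => ((m : ℕ∞) : WithBot ℕ∞)) hrank)) h)

variable {X S : Scheme.{u}} {f : X ⟶ S} [LocallyOfFinitePresentation f] {Ω' : X.Modules} {d : OmegaSh.Der f Ω'}

/-- The fibre is regular at a point where `Ω` is free of the dimension of the fibre. -/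
theorem isRegularLocalRing_fibre (hd : OmegaSh.IsUniversal d) (x : X) (W : X.Opens) (n : ℕ) (hxW : x ∈ W)
    (ψ : Ω'.restrict W.ι ≅ FlatMod.freeMod (↑W) n) (hn : FlatMor.fibreDimAt f x = (n : WithBot ℕ∞)) :
    IsRegularLocalRing ((f.fiber (f x)).presheaf.stalk (f.asFiber x)) := by
  haveI := OmegaAffLib.isQCoh_of_isUniversal hd
  obtain ⟨U, hU, hxU, -⟩ := exists_isAffineOpen_mem_and_subset (X := S) (x := f x) (U := ⊤) trivial
  obtain ⟨V, hV, hxV, hle⟩ := exists_isAffineOpen_mem_and_subset (X := X) (x := x) (U := f ⁻¹ᵁ U ⊓ W) ⟨hxU, hxW⟩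
  have e : V ≤ f ⁻¹ᵁ U := fun z hz => (hle hz).1
  letI := (f.appLE U V e).hom.toAlgebra
  haveI : Algebra.FinitePresentation Γ(S, U) Γ(X, V) := f.finitePresentation_appLE hU hV e
  obtain ⟨φ, -⟩ := OmegaAffLib.exists_equiv hd hU hV e
  obtain ⟨b⟩ := FittLib.nonempty_basis_of_iso Ω' ψ (V := V) (fun z hz => (hle hz).2)
  set q := hV.primeIdealOf ⟨x, hxV⟩ with hq
  have hrank : Module.finrank q.asIdeal.ResidueField (q.asIdeal.ResidueField ⊗[Γ(X, V)] Ω[Γ(X, V)⁄Γ(S, U)]) = n := by
    rw [(AlgebraTensorModule.congr (LinearEquiv.refl q.asIdeal.ResidueField q.asIdeal.ResidueField) φ).finrank_eq,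
      Module.finrank_eq_card_basis (b.baseChange _), Fintype.card_fin]
  obtain ⟨Q, hQ, hQd⟩ := FibDimLib.fibreDimAt_eq_affine f x hU hV e hxV
  have hp : q.asIdeal.comap (algebraMap Γ(S, U) Γ(X, V)) = (hU.primeIdealOf ⟨f x, e hxV⟩).asIdeal :=
    congrArg PrimeSpectrum.asIdeal (IsAffineOpen.comap_primeIdealOf_appLE U hU V hV e hxV)
  have H : ∀ (p : Ideal Γ(S, U)) [p.IsPrime] (Q : PrimeSpectrum (p.Fiber Γ(X, V))),
      Q.asIdeal.comap (Algebra.TensorProduct.includeRight.toRingHom) = q.asIdeal →
      q.asIdeal.comap (algebraMap Γ(S, U) Γ(X, V)) = p →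
      ∃ Q' : PrimeSpectrum ((q.asIdeal.comap (algebraMap Γ(S, U) Γ(X, V))).Fiber Γ(X, V)),
        Q'.asIdeal.comap (Algebra.TensorProduct.includeRight.toRingHom) = q.asIdeal ∧
        FlatMor.localDim _ Q' = FlatMor.localDim _ Q := by
    rintro p _ Q h rfl
    exact ⟨Q, h, rfl⟩
  obtain ⟨Q', hQ', hd'⟩ := H _ Q hQ hp
  haveI : Algebra.IsSmoothAt (q.asIdeal.comap (algebraMap Γ(S, U) Γ(X, V))).ResidueField Q'.asIdeal :=
    fibre_smoothAt _ _ q Q' hQ' (by rw [hrank, hd', hQd, hn]; exact le_rfl)
  haveI : IsNoetherianRing ((q.asIdeal.comap (algebraMap Γ(S, U) Γ(X, V))).Fiber Γ(X, V)) :=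
    Algebra.FiniteType.isNoetherianRing (q.asIdeal.comap (algebraMap Γ(S, U) Γ(X, V))).ResidueField _
  haveI : IsRegularLocalRing (Localization.AtPrime Q'.asIdeal) :=
    CohenLib.isRegularLocalRing_of_formallySmooth (k := (q.asIdeal.comap (algebraMap Γ(S, U) Γ(X, V))).ResidueField)
  obtain ⟨θ, -⟩ := CMFlatLib.exists_fibreLocal_equiv _ Q'.asIdeal q.asIdeal hQ'
  obtain ⟨e₁⟩ := FlatLib.nonempty_fibreStalk_ringEquiv f hU hV e rfl x hxV
  exact .of_ringEquiv (R := Localization.AtPrime Q'.asIdeal) (e₁.trans θ).symm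

/-- Under the dimension formula over a regular base, this forces flatness. -/
theorem flat_stalkMap [IsLocallyNoetherian S] (hd : OmegaSh.IsUniversal d) (x : X)
    [IsRegularLocalRing (S.presheaf.stalk (f x))] (W : X.Opens) (n : ℕ) (hxW : x ∈ W)
    (ψ : Ω'.restrict W.ι ≅ FlatMod.freeMod (↑W) n) (hn : FlatMor.fibreDimAt f x = (n : WithBot ℕ∞))
    (hdim : ringKrullDim (X.presheaf.stalk x) =
      ringKrullDim ((f.fiber (f x)).presheaf.stalk (f.asFiber x)) + ringKrullDim (S.presheaf.stalk (f x))) :
    (f.stalkMap x).hom.Flat := by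
  haveI : IsLocallyNoetherian X := LocallyOfFiniteType.isLocallyNoetherian f
  haveI := isRegularLocalRing_fibre hd x W n hxW ψ hn
  letI := (f.stalkMap x).hom.toAlgebra
  haveI : IsLocalHom (algebraMap (S.presheaf.stalk (f x)) (X.presheaf.stalk x)) := f.toLRSHom.prop x
  obtain ⟨e⟩ := CMFlatLib.nonempty_fibre_equiv f x
  haveI : IsRegularLocalRing (X.presheaf.stalk x ⧸
      (maximalIdeal (S.presheaf.stalk (f x))).map (algebraMap (S.presheaf.stalk (f x)) (X.presheaf.stalk x))) :=
    .of_ringEquiv (R := (f.fiber (f x)).presheaf.stalk (f.asFiber x)) e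
  rw [add_comm, ringKrullDim_eq_of_ringEquiv e] at hdim
  haveI := isRegularLocalRing_of_dim (S.presheaf.stalk (f x)) (X.presheaf.stalk x) hdim
  exact CMFlatLib.flat_of_isCM_of_dim _ _ (CommAlgDim.isCM_of_isRegularLocalRing _) hdim

end Unram17Lib.RegularBase

end
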