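import Groth.Agent.Unram17Lib.Jacobian
import Mathlib.LinearAlgebra.ExteriorPower.Basic
import Mathlib.LinearAlgebra.Determinant
import Mathlib.RingTheory.Spectrum.Prime.FreeLocus
import Mathlib.RingTheory.Support

/-!
# The singular scheme of a hypersurface
-/

set_option autoImplicit false
set_option linter.style.haveILetI false
universe u
open TensorProduct

noncomputable section

namespace Unram17Lib

theorem alternating_eq_zero_of_mem_span {R M N : Type u} [CommRing R] [AddCommGroup M] [Module R M]
    [AddCommGroup N] [Module R N] {n m : ℕ} (hmn : m < n) (w : Fin m → M) (f : M [⋀^Fin n]→ₗ[R] N)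
    (v : Fin n → M) (hv : ∀ i, v i ∈ Submodule.span R (Set.range w)) : f v = 0 := by
  classical
  choose c hc using fun i => (Submodule.mem_span_range_iff_exists_fun R).mp (hv i)
  rw [show v = fun i => ∑ j, c i j • w j from funext fun i => (hc i).symm]
  show f.toMultilinearMap _ = 0
  rw [MultilinearMap.map_sum]
  refine Finset.sum_eq_zero fun r _ => ?_
  rw [MultilinearMap.map_smul_univ]
  obtain ⟨i, j, hij, he⟩ := Fintype.exists_ne_map_eq_of_card_lt r (by simpa using hmn)
  rw [show f.toMultilinearMap (fun i => w (r i)) = 0 from f.map_eq_zero_of_eq _ (congrArg w he) hij, smul_zero]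

/-- The top exterior power survives at a prime exactly when the fibre has at least that rank. -/
theorem annihilator_exteriorPower_le_iff {R M : Type u} [CommRing R] [AddCommGroup M] [Module R M]
    [Module.Finite R M] (n : ℕ) (p : Ideal R) [p.IsPrime] :
    (⋀[R]^n M).annihilator ≤ p ↔ n ≤ Module.finrank p.ResidueField (p.ResidueField ⊗[R] M) := by
  classical
  let K := p.ResidueField
  constructor
  · intro hle
    by_contra hlt
    rw [not_le] at hlt
    let m := Module.finrank K (K ⊗[R] M)
    obtain ⟨b, hbsub, hbspan, hbind⟩ := exists_linearIndependent K (Set.range fun x : M => (1 : K) ⊗ₜ[R] x)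
    have htop : Submodule.span K b = ⊤ := by
      rw [hbspan, show Set.range (fun x : M => (1 : K) ⊗ₜ[R] x) = TensorProduct.mk R K M 1 '' Set.univ by
        rw [Set.image_univ]; rfl, ← Submodule.baseChange_span, Submodule.span_univ, Submodule.baseChange_top]
    haveI : Finite b := hbind.finite
    haveI := Fintype.ofFinite b
    let bb : Module.Basis b K (K ⊗[R] M) := Module.Basis.mk hbind (by rw [Subtype.range_coe, htop])
    have hcard : Fintype.card b = m := (Module.finrank_eq_card_basis bb).symm
    let e : Fin m ≃ b := (Fintype.equivFinOfCardEq hcard).symm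
    choose w hw using fun i : Fin m => hbsub (e i).2
    let N := Submodule.span R (Set.range w)
    have hsub : Subsingleton (K ⊗[R] (M ⧸ N)) := by
      let q : K ⊗[R] M →ₗ[K] K ⊗[R] (M ⧸ N) := N.mkQ.baseChange K
      have hq : Function.Surjective q := LinearMap.lTensor_surjective K N.mkQ_surjective
      refine subsingleton_of_forall_eq 0 fun z => ?_
      obtain ⟨z, rfl⟩ := hq z
      have hz : z ∈ Submodule.span K b := htop ▸ Submodule.mem_top
      refine (Submodule.span_le (p := LinearMap.ker q)).mpr (fun y hy => ?_) hz
      obtain ⟨i, hi⟩ := e.surjective ⟨y, hy⟩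
      have : y = (1 : K) ⊗ₜ[R] w i := by rw [show (1 : K) ⊗ₜ[R] w i = _ from hw i, hi]
      show q y = 0
      rw [this]
      simp [q, N, (Submodule.Quotient.mk_eq_zero _).mpr (Submodule.subset_span (Set.mem_range_self i))]
    have hns : (⟨p, inferInstance⟩ : PrimeSpectrum R) ∉ Module.support R (M ⧸ N) := by
      intro h
      rw [Module.mem_support_iff_nontrivial_residueField_tensorProduct] at h
      exact (not_nontrivial_iff_subsingleton.mpr hsub) h
    rw [Module.support_eq_zeroLocus, PrimeSpectrum.mem_zeroLocus, Set.not_subset] at hns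
    obtain ⟨s, hs, hsp⟩ := hns
    have hkill : s ^ n ∈ (⋀[R]^n M).annihilator := by
      rw [Module.mem_annihilator]
      intro z
      have hz : z ∈ Submodule.span R (Set.range (exteriorPower.ιMulti R n (M := M))) :=
        (exteriorPower.ιMulti_span R n M).ge Submodule.mem_top
      induction hz using Submodule.span_induction with
      | mem z hz =>
        obtain ⟨v, rfl⟩ := hz
        have h1 : exteriorPower.ιMulti R n (fun i => s • v i) = s ^ n • exteriorPower.ιMulti R n v := by
          refine (MultilinearMap.map_smul_univ (exteriorPower.ιMulti R n (M := M)).toMultilinearMap (fun _ => s) v).trans ?_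
          rw [Finset.prod_const, Finset.card_univ, Fintype.card_fin]
          rfl
        rw [← h1]
        refine alternating_eq_zero_of_mem_span hlt w _ _ fun i => ?_
        have := Module.mem_annihilator.mp hs (Submodule.Quotient.mk (v i))
        rwa [← Submodule.Quotient.mk_smul, Submodule.Quotient.mk_eq_zero] at this
      | zero => exact smul_zero _
      | add a b _ _ ha hb => rw [smul_add, ha, hb, add_zero]
      | smul c a _ ha => rw [smul_comm, ha, smul_zero]
    exact hsp ((inferInstance : p.IsPrime).mem_of_pow_mem n (hle hkill))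
  · intro hn r hr
    obtain ⟨f, hf⟩ := (exists_linearIndependent_of_le_finrank (R := K) hn)
    obtain ⟨π, hπ⟩ : ∃ π : K ⊗[R] M →ₗ[K] (Fin n → K), Function.Surjective π := by
      have hinj : Function.Injective (Fintype.linearCombination K f) :=
        linearIndependent_iff_injective_fintypeLinearCombination.mp hf
      obtain ⟨π, hπ⟩ := (Fintype.linearCombination K f).exists_leftInverse_of_injective (LinearMap.ker_eq_bot.mpr hinj)
      exact ⟨π, fun y => ⟨_, DFunLike.congr_fun hπ y⟩⟩
    let det := (Pi.basisFun K (Fin n)).det
    let π₀ : M →ₗ[R] (Fin n → K) := (π.restrictScalars R).comp (TensorProduct.mk R K M 1)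
    let F : M [⋀^Fin n]→ₗ[R] K :=
      { toFun := fun v => det (π₀ ∘ v)
        map_update_add' := fun v i x y => by
          rw [Function.comp_update, Function.comp_update, Function.comp_update, map_add]
          exact det.map_update_add _ i _ _
        map_update_smul' := fun v i c x => by
          rw [Function.comp_update, Function.comp_update, map_smul, ← algebraMap_smul K c (π₀ x),
            det.map_update_smul, algebraMap_smul]
        map_eq_zero_of_eq' := fun v i j h hij => det.map_eq_zero_of_eq _ (congrArg π₀ h) hij }
    let G := exteriorPower.alternatingMapLinearEquiv F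
    have hspan : Submodule.span K (Set.range π₀) = ⊤ := by
      rw [show Set.range π₀ = π '' Set.range (fun x : M => (1 : K) ⊗ₜ[R] x) by
        rw [← Set.range_comp]; rfl, ← Submodule.map_span,
        show Set.range (fun x : M => (1 : K) ⊗ₜ[R] x) = TensorProduct.mk R K M 1 '' Set.univ by
          rw [Set.image_univ]; rfl, ← Submodule.baseChange_span, Submodule.span_univ, Submodule.baseChange_top,
        Submodule.map_top, LinearMap.range_eq_top.mpr hπ]
    have hne : ∃ v : Fin n → M, F v ≠ 0 := by
      by_contra hall
      push Not at hall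
      have hdet : det = 0 := by
        obtain ⟨b, hbsub, hbspan, hbind⟩ := exists_linearIndependent K (Set.range π₀)
        haveI : Finite b := hbind.finite
        haveI := Fintype.ofFinite b
        let bb : Module.Basis b K (Fin n → K) := Module.Basis.mk hbind (by rw [Subtype.range_coe, hbspan, hspan])
        have hcard : Fintype.card b = n := by
          rw [← Module.finrank_eq_card_basis bb, Module.finrank_fin_fun]
        let e : Fin n ≃ b := (Fintype.equivFinOfCardEq hcard).symm
        choose v hv using fun i : Fin n => hbsub (e i).2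
        have h0 := hall v
        have h1 : π₀ ∘ v = bb.reindex e.symm := funext fun i => by
          simp [bb, hv i]
        change det (π₀ ∘ v) = 0 at h0
        rw [h1] at h0
        exact absurd h0 ((Pi.basisFun K (Fin n)).isUnit_det (bb.reindex e.symm)).ne_zero
      exact (Pi.basisFun K (Fin n)).det_ne_zero hdet
    obtain ⟨v, hv⟩ := hne
    have h0 : G (r • exteriorPower.ιMulti R n v) = 0 := by rw [Module.mem_annihilator.mp hr, map_zero]
    rw [map_smul, exteriorPower.alternatingMapLinearEquiv_apply_ιMulti, ← algebraMap_smul K r (F v),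
      smul_eq_mul, mul_eq_zero] at h0
    exact Ideal.algebraMap_residueField_eq_zero.mp (h0.resolve_right hv)

/-- A surjection on differentials from a hypersurface. -/
theorem finrank_kaehler_hypersurface_ge_iff (A B R : Type u) [CommRing A] [CommRing B] [CommRing R]
    [Algebra A B] [Algebra B R] [Algebra A R] [IsScalarTower A B R] [Algebra.FinitePresentation A B]
    [Module.Projective B Ω[B⁄A]] (n : ℕ)
    (hn : ∀ p : PrimeSpectrum B, Module.rankAtStalk (Ω[B⁄A]) p = n)
    (g : B) (hsurj : Function.Surjective (algebraMap B R))
    (hker : RingHom.ker (algebraMap B R) = Ideal.span {g}) (p : Ideal R) [p.IsPrime] :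
    n ≤ Module.finrank p.ResidueField (p.ResidueField ⊗[R] Ω[R⁄A]) ↔
      (1 : p.ResidueField) ⊗ₜ[B] KaehlerDifferential.D A B g = 0 := by
  haveI : Algebra.FiniteType A R := Algebra.FiniteType.of_surjective (IsScalarTower.toAlgHom A B R) hsurj
  let K := p.ResidueField
  let E : K ⊗[R] (R ⊗[B] Ω[B⁄A]) ≃ₗ[K] K ⊗[B] Ω[B⁄A] := AlgebraTensorModule.cancelBaseChange B R K K Ω[B⁄A]
  let π : K ⊗[R] (R ⊗[B] Ω[B⁄A]) →ₗ[K] K ⊗[R] Ω[R⁄A] := (KaehlerDifferential.mapBaseChange A B R).baseChange K
  have hπ : Function.Surjective π :=
    LinearMap.lTensor_surjective K (KaehlerDifferential.mapBaseChange_surjective A B R hsurj)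
  have hrank : Module.finrank K (K ⊗[R] (R ⊗[B] Ω[B⁄A])) = n := by
    rw [← hn ((⟨p, inferInstance⟩ : PrimeSpectrum R).comap (algebraMap B R)),
      ← Module.rankAtStalk_baseChange (S := R) (⟨p, inferInstance⟩ : PrimeSpectrum R),
      Module.rankAtStalk_eq]
  have hexact := lTensor_exact K
    (KaehlerDifferential.exact_kerCotangentToTensor_mapBaseChange A B R hsurj)
  constructor
  · intro hle
    have heq : Module.finrank K (K ⊗[R] Ω[R⁄A]) = n :=
      le_antisymm (hrank ▸ LinearMap.finrank_le_finrank_of_surjective hπ) hle
    have hinj : Function.Injective π := by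
      rw [LinearMap.injective_iff_surjective_of_finrank_eq_finrank (hrank.trans heq.symm)]
      exact hπ
    have h0 : π ((1 : K) ⊗ₜ[R] ((1 : R) ⊗ₜ[B] KaehlerDifferential.D A B g)) = 0 := by
      simp only [π, LinearMap.baseChange_tmul, KaehlerDifferential.mapBaseChange_tmul, one_smul,
        KaehlerDifferential.map_D]
      rw [RingHom.mem_ker.mp (hker.ge (Ideal.mem_span_singleton_self g)), map_zero, tmul_zero]
    have h1 := congrArg E (hinj (h0.trans (map_zero π).symm))
    simpa [E] using h1
  · intro hdg
    rw [← hrank]
    have hinj : Function.Injective π := (injective_iff_map_eq_zero π).mpr fun z hz => by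
      have hw : ∀ w ∈ LinearMap.ker (KaehlerDifferential.mapBaseChange A B R), ∀ k : K, k ⊗ₜ[R] w = 0 := by
        intro w hw k
        obtain ⟨y, rfl⟩ := (KaehlerDifferential.exact_kerCotangentToTensor_mapBaseChange A B R hsurj w).mp hw
        obtain ⟨⟨y, hy⟩, rfl⟩ := Ideal.toCotangent_surjective _ y
        obtain ⟨c, rfl⟩ := Ideal.mem_span_singleton'.mp (hker.le hy)
        rw [KaehlerDifferential.kerCotangentToTensor_toCotangent]
        apply E.injective
        rw [map_zero]
        have hg0 : algebraMap B K g = 0 := by
          rw [IsScalarTower.algebraMap_apply B R K, RingHom.mem_ker.mp (hker.ge (Ideal.mem_span_singleton_self g)),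
            map_zero]
        have hk : k ⊗ₜ[B] KaehlerDifferential.D A B g = 0 := by
          rw [show k ⊗ₜ[B] KaehlerDifferential.D A B g = k • ((1 : K) ⊗ₜ[B] KaehlerDifferential.D A B g) by
            rw [TensorProduct.smul_tmul', smul_eq_mul, mul_one], hdg, smul_zero]
        simp only [Derivation.leibniz, tmul_add, tmul_smul]
        rw [← algebraMap_smul K c (k ⊗ₜ[R] _), ← algebraMap_smul K g (k ⊗ₜ[R] _), hg0, zero_smul, map_add,
          map_zero, add_zero, map_smul, AlgebraTensorModule.cancelBaseChange_tmul, one_smul, hk, smul_zero]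
      let j := (LinearMap.ker (KaehlerDifferential.mapBaseChange A B R)).subtype
      have hex : Function.Exact (j.lTensor K) ((KaehlerDifferential.mapBaseChange A B R).lTensor K) :=
        lTensor_exact K (LinearMap.exact_subtype_ker_map _) (KaehlerDifferential.mapBaseChange_surjective A B R hsurj)
      obtain ⟨y, rfl⟩ := (hex z).mp hz
      induction y using TensorProduct.induction_on with
      | zero => simp
      | add a b ha hb => rw [map_add, ha (by rw [← hex.apply_apply_eq_zero a]; rfl),
          hb (by rw [← hex.apply_apply_eq_zero b]; rfl), add_zero]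
      | tmul k w => exact hw w w.2 k
    exact LinearMap.finrank_le_finrank_of_injective hinj

theorem annihilator_extPower_kaehler_le_iff (A B R : Type u) [CommRing A] [CommRing B] [CommRing R]
    [Algebra A B] [Algebra B R] [Algebra A R] [IsScalarTower A B R] [Algebra.Smooth A B] (n : ℕ)
    (hn : ∀ p : PrimeSpectrum B, Module.rankAtStalk (Ω[B⁄A]) p = n)
    (g : B) (hg : IsSMulRegular B g) (hsurj : Function.Surjective (algebraMap B R))
    (hker : RingHom.ker (algebraMap B R) = Ideal.span {g}) (p : PrimeSpectrum R) :
    (⋀[R]^n (Ω[R⁄A])).annihilator ≤ p.asIdeal ↔ p ∉ Algebra.smoothLocus A R := by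
  classical
  haveI : Algebra.FiniteType A R := Algebra.FiniteType.of_surjective (IsScalarTower.toAlgHom A B R) hsurj
  rw [annihilator_exteriorPower_le_iff, finrank_kaehler_hypersurface_ge_iff A B R n hn g hsurj hker]
  let I : Ideal B := Ideal.span {g}
  have hker' : RingHom.ker (IsScalarTower.toAlgHom A B R) = I := hker
  let e : (B ⧸ I) ≃ₐ[A] R :=
    (Ideal.quotientEquivAlgOfEq A hker'.symm).trans (Ideal.quotientKerAlgEquivOfSurjective hsurj)
  let P : Ideal (B ⧸ I) := p.asIdeal.comap e.toAlgHom.toRingHom
  let q : Ideal B := P.comap (Ideal.Quotient.mk I)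
  have hq : q = p.asIdeal.comap (algebraMap B R) := by
    ext b
    rfl
  haveI : Algebra.FormallySmooth A (Localization.AtPrime q) :=
    haveI : Algebra.FormallySmooth B (Localization.AtPrime q) := Algebra.FormallySmooth.of_isLocalization q.primeCompl
    Algebra.FormallySmooth.comp A B (Localization.AtPrime q)
  haveI : Algebra.EssFiniteType A (Localization.AtPrime q) :=
    haveI : Algebra.EssFiniteType B (Localization.AtPrime q) := Algebra.EssFiniteType.of_isLocalization _ q.primeCompl
    Algebra.EssFiniteType.comp A B (Localization.AtPrime q)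
  have heq : Algebra.IsSmoothAt A P ↔ p ∈ Algebra.smoothLocus A R := by
    have hmap : Submonoid.map e.toAlgHom P.primeCompl = p.asIdeal.primeCompl := by
      ext y
      refine ⟨?_, fun hy => ⟨e.symm y, fun h => hy ?_, e.apply_symm_apply y⟩⟩
      · rintro ⟨x, hx, rfl⟩
        exact hx
      · have h' : e (e.symm y) ∈ p.asIdeal := h
        rwa [e.apply_symm_apply] at h'
    let ee : Localization.AtPrime P ≃ₐ[A] Localization.AtPrime p.asIdeal :=
      IsLocalization.algEquivOfAlgEquiv (Localization.AtPrime P) (Localization.AtPrime p.asIdeal) e hmap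
    exact ⟨fun h => haveI := h; Algebra.FormallySmooth.of_equiv ee,
      fun h => haveI : Algebra.FormallySmooth A (Localization.AtPrime p.asIdeal) := h
        Algebra.FormallySmooth.of_equiv ee.symm⟩
  rw [← heq, isSmoothAt_quotient_iff A B I (Submodule.fg_span_singleton g) P]
  let K := p.asIdeal.ResidueField
  let K' := q.ResidueField
  let ι : K' →+* K := Ideal.ResidueField.map q p.asIdeal (algebraMap B R) hq
  letI : Algebra K' K := ι.toAlgebra
  haveI : IsScalarTower B K' K := IsScalarTower.of_algebraMap_eq fun b => by
    rw [IsScalarTower.algebraMap_apply B R K]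
    exact (Ideal.ResidueField.map_algebraMap q p.asIdeal (algebraMap B R) hq b).symm
  let j : K' →ₗ[B] K := (IsScalarTower.toAlgHom B K' K).toLinearMap
  have hinj : Function.Injective (j.rTensor Ω[B⁄A]) :=
    Module.Flat.rTensor_preserves_injective_linearMap j ι.injective
  have htrans : (1 : K) ⊗ₜ[B] KaehlerDifferential.D A B g = 0 ↔ (1 : K') ⊗ₜ[B] KaehlerDifferential.D A B g = 0 := by
    rw [← map_eq_zero_iff _ hinj]
    simp [j]
  rw [htrans]
  have hgq : algebraMap B K' g = 0 := Ideal.algebraMap_residueField_eq_zero.mpr (by
    show Ideal.Quotient.mk I g ∈ P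
    rw [Ideal.Quotient.eq_zero_iff_mem.mpr (Ideal.mem_span_singleton_self g)]
    exact zero_mem P)
  constructor
  · rintro hdg ⟨s, hsI, hs, hli⟩
    rcases s.eq_empty_or_nonempty with rfl | ⟨x, hx⟩
    · have h1 : algebraMap B (Localization.AtPrime q) g = 0 := by
        simpa using hs.le (Ideal.mem_map_of_mem _ (Ideal.mem_span_singleton_self g))
      obtain ⟨⟨t, ht⟩, htg⟩ := (IsLocalization.map_eq_zero_iff q.primeCompl _ g).mp h1
      have : g • t = g • (0 : B) := by rw [smul_zero, smul_eq_mul, mul_comm]; exact htg
      exact ht ((hg this).symm ▸ zero_mem q)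
    · obtain ⟨c, rfl⟩ := Ideal.mem_span_singleton'.mp (hsI hx)
      have h0 := hli.ne_zero ⟨_, hx⟩
      dsimp only at h0
      rw [Derivation.leibniz, tmul_add, tmul_smul, tmul_smul, hdg, smul_zero, zero_add, smul_tmul',
        ← Algebra.algebraMap_eq_smul_one, hgq, zero_tmul] at h0
      exact h0 rfl
  · intro hns
    by_contra hd
    refine hns ⟨{g}, by simp [I, Ideal.mem_span_singleton_self], ?_, ?_⟩
    · rw [Ideal.map_span, Finset.coe_singleton]
    · exact linearIndependent_singleton_finset (K := K') (fun x : B => (1 : K') ⊗ₜ[B] KaehlerDifferential.D A B x) g hd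

end Unram17Lib
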