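import Groth.Agent.Unram17Lib.AdaptedCoord
import Mathlib.RingTheory.TensorProduct.Quotient
import Mathlib.RingTheory.DiscreteValuationRing.TFAE
import Mathlib.RingTheory.Unramified.LocalRing
import Mathlib.RingTheory.Flat.Localization
import Mathlib.RingTheory.Flat.TorsionFree
import Mathlib.RingTheory.MvPolynomial.Ideal

/-!
# Unramified quasi-sections through smooth points
-/

set_option autoImplicit false
set_option linter.style.haveILetI false
universe u
open TensorProduct

noncomputable section

namespace Unram17Lib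

/-- A flat unramified local algebra over a DVR is a DVR. -/
theorem isDomain_isDVR_of_flat_unramified (B S : Type u) [CommRing B] [IsDomain B] [IsDiscreteValuationRing B]
    [CommRing S] [IsLocalRing S] [IsNoetherianRing S] [Algebra B S] [Module.Flat B S]
    (hmax : (IsLocalRing.maximalIdeal B).map (algebraMap B S) = IsLocalRing.maximalIdeal S) :
    ∃ (_ : IsDomain S), IsDiscreteValuationRing S := by
  classical
  obtain ⟨ϖ, hϖ⟩ := IsDiscreteValuationRing.exists_irreducible B
  let t := algebraMap B S ϖ
  have hm : IsLocalRing.maximalIdeal S = Ideal.span {t} := by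
    rw [← hmax, hϖ.maximalIdeal_eq, Ideal.map_span, Set.image_singleton]
  have hreg : IsSMulRegular S ϖ := Module.Flat.isSMulRegular_of_nonZeroDivisors (mem_nonZeroDivisors_of_ne_zero hϖ.ne_zero)
  have ht : ∀ z : S, t * z = 0 → z = 0 := fun z hz => hreg (a₁ := z) (a₂ := 0) (by
    show ϖ • z = ϖ • (0 : S); rw [smul_zero, Algebra.smul_def]; exact hz)
  have htn : ∀ (n : ℕ) (z : S), t ^ n * z = 0 → z = 0 := by
    intro n
    induction n with
    | zero => intro z hz; simpa using hz
    | succ n ih => intro z hz; exact ih z (ht _ (by rw [← mul_assoc, ← pow_succ']; exact hz))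
  have hdec : ∀ z : S, z ≠ 0 → ∃ (n : ℕ) (v : S), IsUnit v ∧ z = t ^ n * v := by
    intro z hz
    have hKrull := Ideal.iInf_pow_eq_bot_of_isLocalRing (IsLocalRing.maximalIdeal S) (IsLocalRing.maximalIdeal.isMaximal S).ne_top
    have hex : ∃ n : ℕ, z ∉ IsLocalRing.maximalIdeal S ^ n := by
      by_contra h
      push Not at h
      exact hz (by rw [← Ideal.mem_bot, ← hKrull]; exact Submodule.mem_iInf _ |>.mpr h)
    have h0 : Nat.find hex ≠ 0 := by
      intro h
      have := Nat.find_spec hex
      rw [h, pow_zero, Ideal.one_eq_top] at this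
      exact this Submodule.mem_top
    obtain ⟨n, hn⟩ := Nat.exists_eq_succ_of_ne_zero h0
    have hzn : z ∈ IsLocalRing.maximalIdeal S ^ n := not_not.mp (Nat.find_min hex (hn ▸ n.lt_succ_self))
    rw [hm, Ideal.span_singleton_pow, Ideal.mem_span_singleton] at hzn
    obtain ⟨v, rfl⟩ := hzn
    refine ⟨n, v, ?_, rfl⟩
    by_contra hv
    have hv' : v ∈ IsLocalRing.maximalIdeal S := hv
    refine Nat.find_spec hex ?_
    rw [hn, pow_succ]
    refine Ideal.mul_mem_mul ?_ hv'
    rw [hm, Ideal.span_singleton_pow]
    exact Ideal.mem_span_singleton_self _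
  haveI : Nontrivial S := inferInstance
  haveI : NoZeroDivisors S := ⟨fun {a b} hab => by
    by_contra h
    push Not at h
    obtain ⟨n, v, hv, rfl⟩ := hdec a h.1
    obtain ⟨k, w, hw, rfl⟩ := hdec b h.2
    have h1 : t ^ (n + k) * (v * w) = 0 := by rw [← hab]; ring
    exact (hv.mul hw).ne_zero (htn _ _ h1)⟩
  haveI hdom : IsDomain S := NoZeroDivisors.to_isDomain S
  refine ⟨hdom, ?_⟩
  haveI : IsPrincipalIdealRing S := (((tfae_of_isNoetherianRing_of_isLocalRing_of_isDomain (R := S)).out 4 0 :
    (IsLocalRing.maximalIdeal S).IsPrincipal ↔ IsPrincipalIdealRing S)).mp ⟨⟨t, hm⟩⟩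
  refine { not_a_field' := fun h => ?_ }
  have : t = 0 := by rw [← Ideal.mem_bot, ← h, hm]; exact Ideal.mem_span_singleton_self t
  exact one_ne_zero (ht 1 (by rw [this, zero_mul]))

/-- A translated system of coordinates vanishing at a point with trivial residue extension. -/
theorem exists_etale_coordinates_vanishing (B A : Type u) [CommRing B] [CommRing A] [Algebra B A]
    [Algebra.FinitePresentation B A] (p : Ideal A) [p.IsPrime] [Algebra.IsSmoothAt B p]
    (hres : Function.Surjective ((algebraMap A p.ResidueField).comp (algebraMap B A))) :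
    ∃ (f : A) (_ : f ∉ p) (m : ℕ) (g : Fin m → Localization.Away f),
      (MvPolynomial.aeval g : MvPolynomial (Fin m) B →ₐ[B] Localization.Away f).toRingHom.Etale ∧
      ∀ i, g i ∈ p.map (algebraMap A (Localization.Away f)) := by
  obtain ⟨f, hf, m, g', het, -⟩ := exists_etale_coordinates_of_linearIndependent B A ⊥ Submodule.fg_bot p 0
    (fun i => i.elim0) (fun i => i.elim0)
    (by rw [Ideal.map_bot, Set.range_eq_empty, Ideal.span_empty]) linearIndependent_empty_type
  let L := Localization.Away f
  have hlift : ∀ z : L, ∃ c : B, z - algebraMap B L c ∈ p.map (algebraMap A L) := by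
    intro z
    obtain ⟨⟨a, ⟨_, k, rfl⟩⟩, hz⟩ := IsLocalization.surj (Submonoid.powers f) z
    have hfu : IsUnit (algebraMap A p.ResidueField (f ^ k)) := IsUnit.mk0 _ fun h =>
      hf ((inferInstance : p.IsPrime).mem_of_pow_mem k (Ideal.algebraMap_residueField_eq_zero.mp h))
    obtain ⟨c, hc⟩ := hres (algebraMap A p.ResidueField a * ↑hfu.unit⁻¹)
    refine ⟨c, ?_⟩
    have hmem : a - algebraMap B A c * f ^ k ∈ p := by
      refine Ideal.algebraMap_residueField_eq_zero.mp ?_
      rw [map_sub, map_mul, show algebraMap A p.ResidueField (algebraMap B A c) = _ from hc, mul_assoc,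
        IsUnit.val_inv_mul, mul_one, sub_self]
    have := Ideal.mem_map_of_mem (algebraMap A L) hmem
    rw [map_sub, map_mul, ← hz, ← IsScalarTower.algebraMap_apply, ← sub_mul] at this
    exact (Ideal.mul_unit_mem_iff_mem _ (IsLocalization.map_units L (⟨f ^ k, k, rfl⟩ : Submonoid.powers f))).mp this
  choose c hc using fun j => hlift (g' j)
  refine ⟨f, hf, m, fun j => g' j - algebraMap B L (c j), ?_, hc⟩
  let π : MvPolynomial (Fin 0 ⊕ Fin m) B →ₐ[B] L :=
    MvPolynomial.aeval (Sum.elim (fun i => algebraMap A L (i.elim0 : A)) g')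
  let e : MvPolynomial (Fin m) B ≃ₐ[B] MvPolynomial (Fin 0 ⊕ Fin m) B :=
    AlgEquiv.ofAlgHom (MvPolynomial.aeval fun j => MvPolynomial.X (Sum.inr j) - MvPolynomial.C (c j))
      (MvPolynomial.aeval (Sum.elim (fun i : Fin 0 => (i.elim0 : MvPolynomial (Fin m) B))
        fun j => MvPolynomial.X j + MvPolynomial.C (c j)))
      (MvPolynomial.algHom_ext fun i => by rcases i with i | i; exact i.elim0; simp)
      (MvPolynomial.algHom_ext fun i => by simp)
  have := RingHom.Etale.respectsIso.2 π.toRingHom e.toRingEquiv het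
  convert this using 1
  apply MvPolynomial.ringHom_ext
  · intro a; simp [π, e]; rfl
  · intro i; simp [π, e]

theorem exists_dvr_quasiSection (B : Type u) [CommRing B] [IsDomain B] [IsDiscreteValuationRing B]
    (A : Type u) [CommRing A] [Algebra B A] [Algebra.FiniteType B A]
    (p : Ideal A) [p.IsPrime] (hp : p.comap (algebraMap B A) = IsLocalRing.maximalIdeal B)
    [Algebra.IsSmoothAt B p]
    (hres : Function.Surjective ((algebraMap A p.ResidueField).comp (algebraMap B A))) :
    ∃ (B' : Type u) (_ : CommRing B') (_ : IsDomain B') (_ : IsDiscreteValuationRing B') (ψ : A →+* B'),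
      Ideal.comap ψ (IsLocalRing.maximalIdeal B') = p ∧
      Function.Injective (ψ.comp (algebraMap B A)) ∧
      Ideal.map (ψ.comp (algebraMap B A)) (IsLocalRing.maximalIdeal B) = IsLocalRing.maximalIdeal B' ∧
      Function.Surjective ((IsLocalRing.residue B').comp (ψ.comp (algebraMap B A))) := by
  haveI : Algebra.FinitePresentation B A := Algebra.FinitePresentation.of_finiteType.mp inferInstance
  obtain ⟨f, hf, m, g, het, hg⟩ := exists_etale_coordinates_vanishing B A p hres
  let L := Localization.Away f
  let P := MvPolynomial (Fin m) B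
  let π : P →ₐ[B] L := MvPolynomial.aeval g
  letI : Algebra P L := π.toRingHom.toAlgebra
  haveI : IsScalarTower B P L := IsScalarTower.of_algebraMap_eq fun a => (π.commutes a).symm
  haveI : Algebra.Etale P L := RingHom.etale_algebraMap.mp het
  let I : Ideal P := RingHom.ker (MvPolynomial.aeval (0 : Fin m → B) : P →ₐ[B] B).toRingHom
  let e : (P ⧸ I) ≃ₐ[B] B := Ideal.quotientKerAlgEquivOfSurjective (fun b => ⟨MvPolynomial.C b, by rw [MvPolynomial.aeval_C]; rfl⟩)
  haveI : Algebra.Etale B (P ⧸ I) := Algebra.Etale.of_equiv e.symm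
  let C := L ⧸ I.map (algebraMap P L)
  haveI : Algebra.Etale (P ⧸ I) ((P ⧸ I) ⊗[P] L) := inferInstance
  haveI : Algebra.Etale (P ⧸ I) C :=
    Algebra.Etale.of_equiv (A := (P ⧸ I) ⊗[P] L) (Algebra.TensorProduct.quotIdealMapEquivQuotTensor L I).symm
  haveI : IsScalarTower B (P ⧸ I) C := IsScalarTower.of_algebraMap_eq (R := B) (S := P ⧸ I) (A := C) fun a => by
    rw [IsScalarTower.algebraMap_apply B L C, IsScalarTower.algebraMap_apply B P L]
    rfl
  haveI : Algebra.Etale B C := Algebra.Etale.comp B (P ⧸ I) C
  -- the point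
  let pL : Ideal L := p.map (algebraMap A L)
  have hdisj : Disjoint (Submonoid.powers f : Set A) p := by
    rw [Set.disjoint_left]
    rintro _ ⟨k, rfl⟩ hk
    exact hf ((inferInstance : p.IsPrime).mem_of_pow_mem k hk)
  haveI : pL.IsPrime := IsLocalization.isPrime_of_isPrime_disjoint _ L p inferInstance hdisj
  have hcomapA : pL.comap (algebraMap A L) = p :=
    IsLocalization.comap_map_of_isPrime_disjoint (Submonoid.powers f) L inferInstance hdisj
  have hIle : I.map (algebraMap P L) ≤ pL := by
    rw [Ideal.map_le_iff_le_comap]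
    intro x hx
    have hx0 : MvPolynomial.constantCoeff x = 0 := by
      have h : MvPolynomial.aeval (0 : Fin m → B) x = 0 := hx
      simpa [MvPolynomial.aeval_zero] using h
    have hmem : x ∈ Ideal.span (Set.range (MvPolynomial.X : Fin m → P)) := by
      rw [← Set.image_univ, MvPolynomial.mem_ideal_span_X_image]
      intro k hk
      by_contra hall
      push Not at hall
      have hk0 : k = 0 := Finsupp.ext fun i => hall i trivial
      rw [MvPolynomial.mem_support_iff, hk0] at hk
      exact hk hx0
    have : (Ideal.span (Set.range (MvPolynomial.X : Fin m → P))).map (algebraMap P L) ≤ pL := by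
      rw [Ideal.map_span, Ideal.span_le]
      rintro _ ⟨_, ⟨i, rfl⟩, rfl⟩
      rw [show algebraMap P L (MvPolynomial.X i) = g i from MvPolynomial.aeval_X _ _]
      exact hg i
    exact this (Ideal.mem_map_of_mem _ hmem)
  let mk : L →+* C := Ideal.Quotient.mk (I.map (algebraMap P L))
  let P' : Ideal C := pL.map mk
  haveI : P'.IsPrime := Ideal.map_isPrime_of_surjective Ideal.Quotient.mk_surjective (by rwa [Ideal.mk_ker])
  have hcomapL : P'.comap mk = pL := by
    rw [Ideal.comap_map_of_surjective _ Ideal.Quotient.mk_surjective, ← RingHom.ker_eq_comap_bot, Ideal.mk_ker,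
      sup_eq_left.mpr hIle]
  let S := Localization.AtPrime P'
  let ψ : A →+* S := (algebraMap C S).comp (mk.comp (algebraMap A L))
  have hψ : Ideal.comap ψ (IsLocalRing.maximalIdeal S) = p := by
    rw [← Ideal.comap_comap, show Ideal.comap (algebraMap C S) (IsLocalRing.maximalIdeal S) = P' from
      IsLocalization.AtPrime.comap_maximalIdeal S P', ← Ideal.comap_comap, hcomapL, hcomapA]
  have hcomp : ψ.comp (algebraMap B A) = algebraMap B S := by
    ext b
    show algebraMap C S (mk (algebraMap A L (algebraMap B A b))) = _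
    rw [← IsScalarTower.algebraMap_apply B A L, IsScalarTower.algebraMap_apply B C S]
    rfl
  haveI : IsLocalHom (algebraMap B S) := by
    refine ((IsLocalRing.local_hom_TFAE (algebraMap B S)).out 0 4).mpr ?_
    rw [← hcomp, ← Ideal.comap_comap, hψ, hp]
  haveI : Algebra.EssFiniteType B S :=
    haveI : Algebra.EssFiniteType C S := Algebra.EssFiniteType.of_isLocalization S P'.primeCompl
    Algebra.EssFiniteType.comp B C S
  haveI : Algebra.FormallyUnramified C S := Algebra.FormallyUnramified.of_isLocalization (Rₘ := S) P'.primeCompl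
  haveI : Algebra.FormallyUnramified B S := Algebra.FormallyUnramified.comp B C S
  haveI : Module.Flat C S := IsLocalization.flat S P'.primeCompl
  haveI : Module.Flat B S := Module.Flat.trans B C S
  haveI : IsNoetherianRing S :=
    haveI : IsNoetherianRing C := Algebra.FiniteType.isNoetherianRing B C
    IsLocalization.isNoetherianRing P'.primeCompl S inferInstance
  have hmax := Algebra.FormallyUnramified.map_maximalIdeal (R := B) (S := S)
  obtain ⟨hdom, hdvr⟩ := isDomain_isDVR_of_flat_unramified B S hmax
  refine ⟨S, inferInstance, hdom, hdvr, ψ, hψ, ?_, by rw [hcomp]; exact hmax, ?_⟩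
  · rw [hcomp]
    refine (injective_iff_map_eq_zero _).mpr fun b hb => ?_
    by_contra hb0
    have hreg := @Module.Flat.isSMulRegular_of_nonZeroDivisors B S _ _ (Algebra.toModule) b
      (mem_nonZeroDivisors_of_ne_zero hb0) (by assumption)
    refine one_ne_zero (α := S) (hreg (a₁ := 1) (a₂ := 0) ?_)
    simp only [Algebra.smul_def, hb, zero_mul]
  · intro z
    obtain ⟨x, rfl⟩ := IsLocalRing.residue_surjective z
    obtain ⟨⟨c, s⟩, hcs⟩ := IsLocalization.surj P'.primeCompl x
    have hmod : ∀ c : C, ∃ b : B, IsLocalRing.residue S (algebraMap C S c) = IsLocalRing.residue S (ψ (algebraMap B A b)) := by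
      intro c
      obtain ⟨l, rfl⟩ := Ideal.Quotient.mk_surjective c
      obtain ⟨⟨a, ⟨_, k, rfl⟩⟩, hl⟩ := IsLocalization.surj (Submonoid.powers f) l
      have hfu : IsUnit (algebraMap A p.ResidueField (f ^ k)) := IsUnit.mk0 _ fun h =>
        hf ((inferInstance : p.IsPrime).mem_of_pow_mem k (Ideal.algebraMap_residueField_eq_zero.mp h))
      obtain ⟨b, hb⟩ := hres (algebraMap A p.ResidueField a * ↑hfu.unit⁻¹)
      refine ⟨b, ?_⟩
      have hmem : a - algebraMap B A b * f ^ k ∈ p := by
        refine Ideal.algebraMap_residueField_eq_zero.mp ?_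
        rw [map_sub, map_mul, show algebraMap A p.ResidueField (algebraMap B A b) = _ from hb, mul_assoc,
          IsUnit.val_inv_mul, mul_one, sub_self]
      rw [← hψ] at hmem
      have h1 : IsLocalRing.residue S (ψ (a - algebraMap B A b * f ^ k)) = 0 :=
        (IsLocalRing.residue_eq_zero_iff _).mpr hmem
      have h2 : ψ a = algebraMap C S (mk l) * ψ (f ^ k) := by
        show algebraMap C S (mk (algebraMap A L a)) = _ * algebraMap C S (mk (algebraMap A L (f ^ k)))
        rw [← hl, map_mul, map_mul]
      rw [map_sub, map_mul, map_sub, map_mul, h2, map_mul, sub_eq_zero] at h1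
      refine mul_right_cancel₀ ?_ h1
      intro h
      rw [IsLocalRing.residue_eq_zero_iff, ← Ideal.mem_comap, hψ] at h
      exact hf ((inferInstance : p.IsPrime).mem_of_pow_mem k h)
    obtain ⟨b₁, hb₁⟩ := hmod c
    obtain ⟨b₂, hb₂⟩ := hmod s.1
    have hu : IsUnit (algebraMap C S s.1) := IsLocalization.map_units S s
    have hu' : IsUnit b₂ := by
      by_contra h
      have h' : b₂ ∈ IsLocalRing.maximalIdeal B := h
      rw [← hp] at h'
      have : ψ (algebraMap B A b₂) ∈ IsLocalRing.maximalIdeal S := by
        rw [← Ideal.mem_comap, hψ]; exact h'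
      have h0 : IsLocalRing.residue S (ψ (algebraMap B A b₂)) = 0 := Ideal.Quotient.eq_zero_iff_mem.mpr this
      rw [← hb₂] at h0
      exact (Ideal.Quotient.eq_zero_iff_mem.mp h0 :) hu
    refine ⟨b₁ * ↑hu'.unit⁻¹, ?_⟩
    have := congrArg (IsLocalRing.residue S) hcs
    rw [map_mul, hb₁, hb₂] at this
    show IsLocalRing.residue S (ψ (algebraMap B A (b₁ * ↑hu'.unit⁻¹))) = IsLocalRing.residue S x
    have h1 : IsLocalRing.residue S (ψ (algebraMap B A b₂)) * IsLocalRing.residue S (ψ (algebraMap B A ↑hu'.unit⁻¹)) = 1 := by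
      rw [← map_mul, ← map_mul, ← map_mul, IsUnit.mul_val_inv, map_one, map_one, map_one]
    rw [map_mul (algebraMap B A), map_mul ψ, map_mul (IsLocalRing.residue S), ← this, mul_assoc, h1, mul_one]

end Unram17Lib
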