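import Groth.Agent.FibDimLib.FieldExt
import Mathlib.RingTheory.Kaehler.TensorProduct
import Mathlib.RingTheory.Ideal.KrullsHeightTheorem
import Mathlib.RingTheory.Jacobson.Ring
import Mathlib.RingTheory.Nullstellensatz
import Mathlib.RingTheory.Ideal.GoingUp
import Mathlib.FieldTheory.IsAlgClosed.AlgebraicClosure

/-!
# Number of generators of the differentials of a variety with hypersurface singularities
-/

set_option autoImplicit false
set_option linter.style.haveILetI false
universe u
open TensorProduct

noncomputable section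

namespace Unram17Lib

/-- For a local algebra with residue field the base, the differentials need no more generators than `m`. -/
theorem finrank_residue_kaehler_le (k L : Type u) [CommRing k] [CommRing L] [IsLocalRing L] [IsNoetherianRing L]
    [Algebra k L] (hk : Function.Surjective (algebraMap k (IsLocalRing.ResidueField L))) :
    Module.finrank (IsLocalRing.ResidueField L) (IsLocalRing.ResidueField L ⊗[L] Ω[L⁄k]) ≤
      Module.finrank (IsLocalRing.ResidueField L) (IsLocalRing.CotangentSpace L) := by
  classical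
  let κ := IsLocalRing.ResidueField L
  let b := Module.finBasis κ (IsLocalRing.CotangentSpace L)
  choose x hx using fun i => Ideal.toCotangent_surjective _ (b i)
  have hspan : Submodule.span L (Set.range x) = ⊤ := by
    rw [← IsLocalRing.CotangentSpace.span_image_eq_top_iff, ← Set.range_comp]
    simp only [Function.comp_def, hx]
    exact b.span_eq
  let v := fun i => (1 : κ) ⊗ₜ[L] KaehlerDifferential.D k L (x i).1
  have htop : Submodule.span κ (Set.range v) = ⊤ := by
    rw [eq_top_iff]
    intro z _
    haveI : Subsingleton Ω[κ⁄k] := KaehlerDifferential.subsingleton_of_surjective k κ hk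
    obtain ⟨c, rfl⟩ := ((KaehlerDifferential.exact_kerCotangentToTensor_mapBaseChange k L κ
      IsLocalRing.residue_surjective) z).mp (Subsingleton.elim _ _)
    obtain ⟨⟨y, hy⟩, rfl⟩ := Ideal.toCotangent_surjective _ c
    rw [KaehlerDifferential.kerCotangentToTensor_toCotangent]
    have hym : y ∈ IsLocalRing.maximalIdeal L := (IsLocalRing.residue_eq_zero_iff y).mp hy
    obtain ⟨a, ha⟩ := (Submodule.mem_span_range_iff_exists_fun L).mp
      (hspan.ge (Submodule.mem_top (x := (⟨y, hym⟩ : IsLocalRing.maximalIdeal L))))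
    have hy' : y = ∑ i, a i * (x i).1 := by
      have := congrArg Subtype.val ha.symm
      simpa using this
    show (1 : κ) ⊗ₜ[L] KaehlerDifferential.D k L y ∈ _
    rw [hy', map_sum, tmul_sum]
    refine sum_mem fun i _ => ?_
    rw [Derivation.leibniz, tmul_add, tmul_smul, tmul_smul]
    refine add_mem (Submodule.smul_of_tower_mem _ _ (Submodule.subset_span ⟨i, rfl⟩)) ?_
    rw [← algebraMap_smul κ (x i).1, show algebraMap L κ (x i).1 = 0 from (IsLocalRing.residue_eq_zero_iff _).mpr (x i).2,
      zero_smul]
    exact zero_mem _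
  rw [← finrank_top, ← htop]
  exact (finrank_range_le_card v).trans (le_of_eq (Fintype.card_fin _))

theorem exists_generators_card_le {K : Type u} [Field K] {A : Type u} [CommRing A] [Algebra K A] [Algebra.FiniteType K A]
    (hhyp : ∀ (q : Ideal (TensorProduct K (AlgebraicClosure K) A)) [q.IsPrime],
      (Module.finrank (IsLocalRing.ResidueField (Localization.AtPrime q))
          (IsLocalRing.CotangentSpace (Localization.AtPrime q)) : ℕ∞) ≤ q.height + 1)
    (d : ℕ) (hd : ringKrullDim A = d) (p : Ideal A) [p.IsPrime] :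
    ∃ s : Finset (LocalizedModule p.primeCompl (KaehlerDifferential K A)),
      s.card ≤ d + 1 ∧ Submodule.span (Localization.AtPrime p) (s : Set (LocalizedModule p.primeCompl (KaehlerDifferential K A))) = ⊤ := by
  classical
  let k' := AlgebraicClosure K
  let A' := k' ⊗[K] A
  letI : Algebra A A' := Algebra.TensorProduct.rightAlgebra
  haveI : Algebra.IsIntegral A A' := by
    refine ⟨fun z => ?_⟩
    induction z using TensorProduct.induction_on with
    | zero => exact isIntegral_zero
    | add x y hx hy => exact hx.add hy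
    | tmul c a =>
      have h1 : IsIntegral A (c ⊗ₜ[K] (1 : A) : A') := by
        obtain ⟨P, hP, hev⟩ := Algebra.IsIntegral.isIntegral (R := K) c
        refine ⟨P.map (algebraMap K A), hP.map _, ?_⟩
        rw [Polynomial.eval₂_map]
        have hc : (algebraMap A A').comp (algebraMap K A) =
            (Algebra.TensorProduct.includeLeft : k' →ₐ[K] A').toRingHom.comp (algebraMap K k') := by
          ext r
          exact ((Algebra.TensorProduct.includeLeft : k' →ₐ[K] A').commutes r).symm ▸
            (Algebra.TensorProduct.includeRight : A →ₐ[K] A').commutes r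
        rw [hc, show (c ⊗ₜ[K] (1 : A) : A') = (Algebra.TensorProduct.includeLeft : k' →ₐ[K] A').toRingHom c from rfl,
          ← Polynomial.hom_eval₂, hev, map_zero]
      have h2 : IsIntegral A (algebraMap A A' a) := isIntegral_algebraMap
      have : (c ⊗ₜ[K] a : A') = c ⊗ₜ[K] 1 * algebraMap A A' a := by
        rw [show algebraMap A A' a = (1 : k') ⊗ₜ[K] a from rfl, Algebra.TensorProduct.tmul_mul_tmul, mul_one, one_mul]
      rw [this]
      exact h1.mul h2
  have hinj : Function.Injective (algebraMap A A') :=
    Algebra.TensorProduct.includeRight_injective (FaithfulSMul.algebraMap_injective K k')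
  obtain ⟨P, hP, hpP⟩ := Ideal.exists_le_maximal p (Ideal.IsPrime.ne_top')
  obtain ⟨M, hMmax, hMP⟩ := Ideal.exists_ideal_over_maximal_of_isIntegral (S := A') P
    (by rw [(RingHom.injective_iff_ker_eq_bot _).mp hinj]; exact bot_le)
  haveI : M.LiesOver P := ⟨hMP.symm⟩
  letI : Algebra P.ResidueField M.ResidueField := (Ideal.ResidueField.map P M (algebraMap A A') hMP.symm).toAlgebra
  haveI : IsScalarTower A P.ResidueField M.ResidueField := IsScalarTower.of_algebraMap_eq fun a => by
    rw [RingHom.algebraMap_toAlgebra, Ideal.ResidueField.map_algebraMap, ← IsScalarTower.algebraMap_apply]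
  let L := Localization.AtPrime M
  let κ := M.ResidueField
  haveI : IsNoetherianRing A' := Algebra.FiniteType.isNoetherianRing k' A'
  haveI : IsNoetherianRing L := IsLocalization.isNoetherianRing M.primeCompl L inferInstance
  haveI : IsScalarTower k' A' κ := inferInstance
  have hk : Function.Surjective (algebraMap k' κ) := by
    haveI : Module.Finite k' (A' ⧸ M) :=
      letI := Ideal.Quotient.field M
      finite_of_finite_type_of_isJacobsonRing k' (A' ⧸ M)
    haveI : Algebra.IsIntegral k' (A' ⧸ M) := Algebra.IsIntegral.of_finite k' _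
    have h1 : Function.Surjective (algebraMap k' (A' ⧸ M)) :=
      letI := Ideal.Quotient.field M
      (IsAlgClosed.algebraMap_bijective_of_isIntegral (k := k')).2
    intro z
    obtain ⟨w, rfl⟩ := (Ideal.bijective_algebraMap_quotient_residueField M).2 z
    obtain ⟨c, rfl⟩ := h1 w
    exact ⟨c, by rw [← IsScalarTower.algebraMap_apply]⟩
  have h1 := finrank_residue_kaehler_le k' L hk
  have h2 : Module.finrank κ (IsLocalRing.CotangentSpace L) ≤ d + 1 := by
    have h := hhyp M
    have hdim : ringKrullDim A' = d := by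
      rw [ringKrullDim_eq_of_ringEquiv (Algebra.TensorProduct.comm K k' A).toRingEquiv, FibDimLib.ringKrullDim_baseChange, hd]
    have hh : M.height ≤ (d : ℕ∞) := by
      have := Ideal.height_le_ringKrullDim_of_ne_top (I := M) Ideal.IsPrime.ne_top'
      rw [hdim] at this
      exact_mod_cast this
    have := h.trans (add_le_add hh le_rfl)
    exact_mod_cast this
  haveI := Algebra.FormallyEtale.of_isLocalization (Rₘ := L) M.primeCompl
  let e1 : κ ⊗[A'] Ω[A'⁄k'] ≃ₗ[κ] κ ⊗[L] Ω[L⁄k'] :=
    (AlgebraTensorModule.cancelBaseChange A' L κ κ Ω[A'⁄k']).symm ≪≫ₗ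
      AlgebraTensorModule.congr (LinearEquiv.refl κ κ) (KaehlerDifferential.tensorKaehlerEquivOfFormallyEtale k' A' L)
  let e2 : κ ⊗[A] Ω[A⁄K] ≃ₗ[κ] κ ⊗[A'] Ω[A'⁄k'] :=
    (AlgebraTensorModule.cancelBaseChange A A' κ κ Ω[A⁄K]).symm ≪≫ₗ
      AlgebraTensorModule.congr (LinearEquiv.refl κ κ) (KaehlerDifferential.tensorKaehlerEquiv K k' A A')
  have hfr : Module.finrank P.ResidueField (P.ResidueField ⊗[A] Ω[A⁄K]) ≤ d + 1 := by
    rw [← Module.finrank_baseChange (R := κ), (AlgebraTensorModule.cancelBaseChange A P.ResidueField κ κ Ω[A⁄K]).finrank_eq,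
      e2.finrank_eq, e1.finrank_eq]
    exact h1.trans h2
  -- lift generators
  let b := Module.finBasis P.ResidueField (P.ResidueField ⊗[A] Ω[A⁄K])
  have hsurj : Function.Surjective (TensorProduct.mk A P.ResidueField Ω[A⁄K] 1) :=
    TensorProduct.mk_surjective A Ω[A⁄K] P.ResidueField fun z => by
      obtain ⟨w, rfl⟩ := (Ideal.bijective_algebraMap_quotient_residueField P).2 z
      obtain ⟨a, rfl⟩ := Ideal.Quotient.mk_surjective w
      exact ⟨a, (IsScalarTower.algebraMap_apply A (A ⧸ P) P.ResidueField a)⟩
  choose ω hω using fun i => hsurj (b i)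
  let N := Submodule.span A (Set.range ω)
  have hN : (⊤ : Submodule A (Ω[A⁄K] ⧸ N)) ≤ P • ⊤ := by
    intro z _
    obtain ⟨z, rfl⟩ := Submodule.mkQ_surjective N z
    obtain ⟨c, hc⟩ := (Submodule.mem_span_range_iff_exists_fun _).mp
      (b.span_eq.ge (Submodule.mem_top (x := (1 : P.ResidueField) ⊗ₜ[A] z)))
    have hres : Function.Surjective (algebraMap A P.ResidueField) := fun z => by
      obtain ⟨w, rfl⟩ := (Ideal.bijective_algebraMap_quotient_residueField P).2 z
      obtain ⟨a, rfl⟩ := Ideal.Quotient.mk_surjective w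
      exact ⟨a, (IsScalarTower.algebraMap_apply A (A ⧸ P) P.ResidueField a)⟩
    choose a ha using fun i => hres (c i)
    have hzero : (1 : P.ResidueField) ⊗ₜ[A] (z - ∑ i, a i • ω i) = 0 := by
      rw [tmul_sub, tmul_sum, sub_eq_zero, ← hc]
      refine Finset.sum_congr rfl fun i _ => ?_
      rw [tmul_smul, ← ha i, algebraMap_smul]
      rw [← show (1 : P.ResidueField) ⊗ₜ[A] ω i = b i from hω i]
    let eQ : P.ResidueField ⊗[A] Ω[A⁄K] ≃ₗ[A] Ω[A⁄K] ⧸ (P • ⊤ : Submodule A Ω[A⁄K]) :=
      TensorProduct.congr (LinearEquiv.ofBijective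
        ((IsScalarTower.toAlgHom A (A ⧸ P) P.ResidueField).toLinearMap)
        (Ideal.bijective_algebraMap_quotient_residueField P)).symm (LinearEquiv.refl A _) ≪≫ₗ
        TensorProduct.quotTensorEquivQuotSMul _ P
    have h0 := congrArg eQ hzero
    rw [map_zero] at h0
    have hmem : z - ∑ i, a i • ω i ∈ (P • ⊤ : Submodule A Ω[A⁄K]) := by
      rw [← Submodule.Quotient.mk_eq_zero, ← h0]
      simp [eQ]
      rw [show (LinearEquiv.ofBijective ((IsScalarTower.toAlgHom A (A ⧸ P) P.ResidueField).toLinearMap)
        (Ideal.bijective_algebraMap_quotient_residueField P)).symm 1 = Ideal.Quotient.mk P 1 from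
          (LinearEquiv.symm_apply_eq _).mpr (by simp)]
      simp
    have := Submodule.mem_map_of_mem (f := N.mkQ) hmem
    rw [Submodule.map_smul''] at this
    rw [map_sub, (Submodule.Quotient.mk_eq_zero N).mpr (sum_mem fun i _ =>
      Submodule.smul_mem _ _ (Submodule.subset_span ⟨i, rfl⟩)) |> (fun h => show N.mkQ (∑ i, a i • ω i) = 0 from h),
      sub_zero] at this
    exact Submodule.smul_mono le_rfl le_top this
  haveI : Module.Finite A Ω[A⁄K] := inferInstance
  obtain ⟨r, hr, hr0⟩ := Submodule.exists_sub_one_mem_and_smul_eq_zero_of_fg_of_le_smul P (⊤ : Submodule A (Ω[A⁄K] ⧸ N))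
    Module.Finite.fg_top hN
  have hrp : r ∈ p.primeCompl := fun h => hP.ne_top (P.eq_top_iff_one.mpr (by
    have := P.sub_mem (hpP h) hr
    rwa [sub_sub_cancel] at this))
  let S := Finset.univ.image fun i => LocalizedModule.mkLinearMap p.primeCompl Ω[A⁄K] (ω i)
  refine ⟨S, (Finset.card_image_le.trans (le_of_eq (Fintype.card_fin _))).trans hfr, ?_⟩
  rw [eq_top_iff]
  intro z _
  obtain ⟨⟨w, t⟩, rfl⟩ := IsLocalizedModule.mk'_surjective p.primeCompl (LocalizedModule.mkLinearMap p.primeCompl Ω[A⁄K]) z
  have hw : r • w ∈ N := by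
    rw [← Submodule.Quotient.mk_eq_zero, Submodule.Quotient.mk_smul]
    exact hr0 _ Submodule.mem_top
  have hw' : LocalizedModule.mkLinearMap p.primeCompl Ω[A⁄K] (r • w) ∈
      Submodule.span (Localization.AtPrime p) (S : Set (LocalizedModule p.primeCompl Ω[A⁄K])) := by
    have := Submodule.mem_map_of_mem (f := LocalizedModule.mkLinearMap p.primeCompl Ω[A⁄K]) hw
    rw [Submodule.map_span, ← Set.range_comp] at this
    refine Submodule.span_le_restrictScalars A (Localization.AtPrime p) _ (Submodule.span_mono ?_ this)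
    rintro _ ⟨i, rfl⟩
    exact Finset.mem_coe.mpr (Finset.mem_image_of_mem _ (Finset.mem_univ i))
  have hu : IsUnit (algebraMap A (Localization.AtPrime p) ((t : A) * r)) :=
    IsLocalization.map_units _ (⟨_, p.primeCompl.mul_mem t.2 hrp⟩ : p.primeCompl)
  refine (Submodule.smul_mem_iff_of_isUnit _ hu).mp ?_
  rw [algebraMap_smul, mul_comm, mul_smul,
    show (t : A) • Function.uncurry (IsLocalizedModule.mk' (LocalizedModule.mkLinearMap p.primeCompl Ω[A⁄K])) (w, t) =
      LocalizedModule.mkLinearMap p.primeCompl Ω[A⁄K] w from IsLocalizedModule.mk'_cancel' _ w t, ← map_smul]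
  exact hw'

end Unram17Lib
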