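import Groth.Agent.Unram17Lib.SmoothTower
import Mathlib.RingTheory.Etale.Locus

/-!
# Etale along sections from the conormal modules
-/

set_option autoImplicit false
set_option linter.style.haveILetI false
universe u
open TensorProduct

noncomputable section

namespace Unram17Lib

theorem isEtaleAt_of_bijective_mapCotangent (A B₁ B₂ : Type u)
    [CommRing A] [CommRing B₁] [CommRing B₂] [Algebra A B₁] [Algebra A B₂] [Algebra B₂ B₁]
    [IsScalarTower A B₂ B₁] [Algebra.EssFiniteType A B₁] [Algebra.EssFiniteType A B₂]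
    (σ₁ : B₁ →ₐ[A] A) (σ₂ : B₂ →ₐ[A] A) (hσ : σ₁.comp (IsScalarTower.toAlgHom A B₂ B₁) = σ₂)
    (hle : RingHom.ker σ₂ ≤ (RingHom.ker σ₁).comap (IsScalarTower.toAlgHom A B₂ B₁))
    (hcot : Function.Bijective
      (Ideal.mapCotangent (RingHom.ker σ₂) (RingHom.ker σ₁) (IsScalarTower.toAlgHom A B₂ B₁) hle))
    (P : Ideal B₁) [P.IsPrime] [Algebra.IsSmoothAt A P] (hP : RingHom.ker σ₁ ≤ P) :
    Algebra.IsEtaleAt B₂ P := by
  let b₁ := RingHom.ker σ₁
  let b₂ := RingHom.ker σ₂
  let φ := IsScalarTower.toAlgHom A B₂ B₁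
  let K := P.ResidueField
  let T := K ⊗[B₁] (B₁ ⊗[B₂] Ω[B₂⁄A])
  let Φ := (KaehlerDifferential.mapBaseChange A B₂ B₁).lTensor K
  have hsub : ∀ x : B₁, x - algebraMap A B₁ (σ₁ x) ∈ b₁ := fun x => by
    rw [RingHom.mem_ker, map_sub, AlgHom.commutes]
    exact sub_self _
  have h0 : ∀ x ∈ b₁, algebraMap B₁ K x = 0 := fun x hx => Ideal.algebraMap_residueField_eq_zero.mpr (hP hx)
  have hσK : ∀ x : B₁, algebraMap B₁ K x = algebraMap B₁ K (algebraMap A B₁ (σ₁ x)) := fun x =>
    sub_eq_zero.mp (by rw [← map_sub]; exact h0 _ (hsub x))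
  have hy0 : ∀ y ∈ b₂, ∀ t : T, y • t = 0 := fun y hy t => by
    rw [← algebraMap_smul B₁ y t, ← algebraMap_smul K (algebraMap B₂ B₁ y) t,
      h0 (algebraMap B₂ B₁ y) (hle hy), zero_smul]
  let ψ0 : b₂ →ₗ[B₂] T :=
    { toFun := fun y => (1 : K) ⊗ₜ[B₁] ((1 : B₁) ⊗ₜ[B₂] KaehlerDifferential.D A B₂ (y : B₂))
      map_add' := fun a b => by simp [tmul_add]
      map_smul' := fun r y => by
        simp only [SetLike.val_smul, smul_eq_mul, Derivation.leibniz, tmul_add, RingHom.id_apply, tmul_smul,
          hy0 _ y.2, add_zero] }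
  let ψ : b₂.Cotangent →ₗ[B₂] T := Submodule.liftQ _ ψ0 (Submodule.smul_le.mpr fun r hr y _ => by
    rw [LinearMap.mem_ker, map_smul, hy0 r hr])
  have hψ : ∀ y : b₂, ψ (b₂.toCotangent y) = (1 : K) ⊗ₜ[B₁] ((1 : B₁) ⊗ₜ[B₂] KaehlerDifferential.D A B₂ (y : B₂)) :=
    fun y => rfl
  let μ := LinearEquiv.ofBijective (Ideal.mapCotangent b₂ b₁ φ hle) hcot
  let c : B₁ → T := fun x => ψ (μ.symm (b₁.toCotangent ⟨_, hsub x⟩))
  have hcot1 : ∀ x y : B₁, (b₁.toCotangent ⟨_, hsub (x * y)⟩ : b₁.Cotangent) =
      σ₁ x • b₁.toCotangent ⟨_, hsub y⟩ + σ₁ y • b₁.toCotangent ⟨_, hsub x⟩ := fun x y => by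
    rw [← algebraMap_smul B₁ (σ₁ x), ← algebraMap_smul B₁ (σ₁ y), ← map_smul, ← map_smul, ← map_add,
      Ideal.toCotangent_eq]
    simp only [Submodule.coe_add, SetLike.val_smul, smul_eq_mul, map_mul]
    rw [show x * y - algebraMap A B₁ (σ₁ x) * algebraMap A B₁ (σ₁ y) -
      (algebraMap A B₁ (σ₁ x) * (y - algebraMap A B₁ (σ₁ y)) + algebraMap A B₁ (σ₁ y) * (x - algebraMap A B₁ (σ₁ x))) =
      (x - algebraMap A B₁ (σ₁ x)) * (y - algebraMap A B₁ (σ₁ y)) by ring, pow_two]
    exact Ideal.mul_mem_mul (hsub x) (hsub y)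
  have hσT : ∀ (x : B₁) (t : T), σ₁ x • t = x • t := fun x t => by
    rw [← algebraMap_smul B₁ (σ₁ x) t, ← algebraMap_smul K (algebraMap A B₁ (σ₁ x)) t, ← hσK, algebraMap_smul]
  have hc : ∀ (a : A) (v : b₁.Cotangent), ψ (μ.symm (a • v)) = a • ψ (μ.symm v) := fun a v => by
    rw [map_smul]
    exact ψ.map_smul_of_tower a _
  let Dl : B₁ →ₗ[A] T :=
    { toFun := c
      map_add' := fun x y => by
        simp only [c, ← map_add]
        congr 3
        ext
        simp only [map_add, Submodule.coe_add]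
        ring
      map_smul' := fun a x => by
        simp only [c, RingHom.id_apply]
        rw [← hc, ← algebraMap_smul B₁ a (b₁.toCotangent _), ← map_smul]
        congr 3
        ext
        simp only [map_smul, SetLike.val_smul, smul_eq_mul, Algebra.smul_def, map_mul, Algebra.algebraMap_self,
          RingHom.id_apply, AlgHom.commutes]
        ring }
  let D : Derivation A B₁ T := Derivation.mk' Dl fun x y => by
    show c (x * y) = x • c y + y • c x
    simp only [c]
    rw [hcot1, map_add, map_add, hc, hc, hσT, hσT]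
  let R : K ⊗[B₁] Ω[B₁⁄A] →ₗ[K] T := LinearMap.liftBaseChange K D.liftKaehlerDifferential
  have hT : ∀ (p : K ⊗[B₁] (B₁ ⊗[B₂] Ω[B₂⁄A])), R (Φ p) = p := by
    intro p
    induction p using TensorProduct.induction_on with
    | zero => simp
    | add a b ha hb => rw [map_add, map_add, ha, hb]
    | tmul k w =>
      induction w using TensorProduct.induction_on with
      | zero => simp
      | add a b ha hb => rw [tmul_add, map_add, map_add, ha, hb]
      | tmul r w =>
        rw [show Φ (k ⊗ₜ (r ⊗ₜ w)) = k ⊗ₜ (r • KaehlerDifferential.map A A B₂ B₁ w) by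
          simp [Φ, KaehlerDifferential.mapBaseChange_tmul],
          LinearMap.liftBaseChange_tmul, map_smul]
        have hw : D.liftKaehlerDifferential (KaehlerDifferential.map A A B₂ B₁ w) =
            (1 : K) ⊗ₜ[B₁] ((1 : B₁) ⊗ₜ[B₂] w) := by
          induction ((KaehlerDifferential.span_range_derivation A B₂).ge (Submodule.mem_top (x := w))) using
            Submodule.span_induction with
          | mem x hx =>
            obtain ⟨y, rfl⟩ := hx
            rw [KaehlerDifferential.map_D, Derivation.liftKaehlerDifferential_comp_D]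
            show c (algebraMap B₂ B₁ y) = _
            have hy : y - algebraMap A B₂ (σ₂ y) ∈ b₂ := by
              rw [RingHom.mem_ker, map_sub, AlgHom.commutes]
              exact sub_self _
            have h1 : μ.symm (b₁.toCotangent ⟨_, hsub (algebraMap B₂ B₁ y)⟩) = b₂.toCotangent ⟨_, hy⟩ := by
              rw [LinearEquiv.symm_apply_eq]
              show _ = Ideal.mapCotangent b₂ b₁ φ hle (b₂.toCotangent ⟨_, hy⟩)
              rw [Ideal.mapCotangent_toCotangent]
              congr 1
              ext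
              show _ = algebraMap B₂ B₁ (y - algebraMap A B₂ (σ₂ y))
              rw [map_sub, ← IsScalarTower.algebraMap_apply, ← hσ]
              rfl
            simp only [c]
            rw [h1, hψ]
            simp
          | zero => simp
          | add a b _ _ ha hb => rw [map_add, map_add, ha, hb, tmul_add, tmul_add]
          | smul s v _ hv =>
            rw [map_smul, LinearMap.map_smul_of_tower, hv, tmul_smul, ← algebraMap_smul B₁ s (1 ⊗ₜ[B₂] v),
              tmul_smul, algebraMap_smul]
        rw [hw, TensorProduct.smul_tmul', TensorProduct.smul_tmul', smul_eq_mul, Algebra.smul_def, mul_one,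
          mul_comm k, ← Algebra.smul_def, TensorProduct.smul_tmul, TensorProduct.smul_tmul', smul_eq_mul, mul_one]
  have hinj : Function.Injective Φ := Function.LeftInverse.injective hT
  have hsurj : Function.Surjective Φ := by
    intro z
    suffices hz : z ∈ LinearMap.range Φ from hz
    induction z using TensorProduct.induction_on with
    | zero => exact zero_mem _
    | add a b ha hb => exact add_mem ha hb
    | tmul k w =>
      obtain ⟨s, hs⟩ : ∃ v : B₁ ⊗[B₂] Ω[B₂⁄A], (1 : K) ⊗ₜ[B₁] w = Φ ((1 : K) ⊗ₜ v) := by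
        induction ((KaehlerDifferential.span_range_derivation A B₁).ge (Submodule.mem_top (x := w))) using
          Submodule.span_induction with
        | mem x hx =>
          obtain ⟨x, rfl⟩ := hx
          obtain ⟨v, hv⟩ := hcot.2 (b₁.toCotangent ⟨_, hsub x⟩)
          obtain ⟨y, rfl⟩ := Ideal.toCotangent_surjective _ v
          rw [Ideal.mapCotangent_toCotangent, Ideal.toCotangent_eq] at hv
          refine ⟨(1 : B₁) ⊗ₜ KaehlerDifferential.D A B₂ (y : B₂), ?_⟩
          rw [LinearMap.lTensor_tmul, KaehlerDifferential.mapBaseChange_tmul, one_smul, KaehlerDifferential.map_D]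
          have h2 : ∀ z ∈ b₁ ^ 2, (1 : K) ⊗ₜ[B₁] KaehlerDifferential.D A B₁ z = 0 := by
            intro z hz
            rw [pow_two] at hz
            induction hz using Submodule.mul_induction_on' with
            | mem_mul_mem a ha b hb =>
              rw [Derivation.leibniz, tmul_add, tmul_smul, tmul_smul, ← algebraMap_smul K a,
                ← algebraMap_smul K b, h0 a ha, h0 b hb, zero_smul, zero_smul, add_zero]
            | add a _ b _ ha hb => rw [map_add, tmul_add, ha, hb, add_zero]
          have h3 := h2 _ hv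
          rw [map_sub, map_sub, Derivation.map_algebraMap, sub_zero, tmul_sub, sub_eq_zero] at h3
          exact h3.symm
        | zero => exact ⟨0, by simp⟩
        | add a b _ _ ha hb =>
          obtain ⟨u, hu⟩ := ha
          obtain ⟨v, hv⟩ := hb
          exact ⟨u + v, by rw [tmul_add, tmul_add, map_add, hu, hv]⟩
        | smul r v _ hv =>
          obtain ⟨u, hu⟩ := hv
          exact ⟨r • u, by rw [tmul_smul, tmul_smul, map_smul, hu]⟩
      refine ⟨k ⊗ₜ s, ?_⟩
      have := congrArg (fun t => k • t) hs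
      simp only [TensorProduct.smul_tmul', smul_eq_mul, mul_one, Φ, LinearMap.lTensor_tmul] at this ⊢
      exact this.symm
  let L := Localization.AtPrime P
  haveI : Algebra.FormallySmooth B₂ L := (isSmoothAt_tower_iff A B₂ B₁ P).mpr hinj
  haveI : Subsingleton (K ⊗[B₁] Ω[B₁⁄B₂]) := by
    have hex := lTensor_exact K (KaehlerDifferential.exact_mapBaseChange_map A B₂ B₁)
      (KaehlerDifferential.map_surjective A B₂ B₁)
    refine subsingleton_of_forall_eq 0 fun z => ?_
    obtain ⟨w, rfl⟩ := LinearMap.lTensor_surjective K (KaehlerDifferential.map_surjective A B₂ B₁) z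
    exact (hex w).mpr (hsurj w)
  haveI : Algebra.EssFiniteType B₂ B₁ := Algebra.EssFiniteType.of_comp A B₂ B₁
  haveI : Module.Finite L Ω[L⁄B₂] :=
    haveI : Algebra.EssFiniteType B₂ L := Algebra.EssFiniteType.comp B₂ B₁ L
    inferInstance
  haveI : Algebra.FormallyUnramified B₂ L := by
    refine ⟨?_⟩
    haveI := Algebra.FormallyEtale.of_isLocalization (Rₘ := L) P.primeCompl
    let e := (AlgebraTensorModule.cancelBaseChange B₁ L K K Ω[B₁⁄B₂]).symm ≪≫ₗ
      AlgebraTensorModule.congr (LinearEquiv.refl K K) (KaehlerDifferential.tensorKaehlerEquivOfFormallyEtale B₂ B₁ L)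
    haveI : Subsingleton (K ⊗[L] Ω[L⁄B₂]) := e.symm.toEquiv.subsingleton
    exact IsLocalRing.subsingleton_tensorProduct.mp this
  show Algebra.FormallyEtale B₂ L
  exact Algebra.FormallyEtale.of_formallyUnramified_and_formallySmooth

end Unram17Lib
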