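import Mathlib.LinearAlgebra.SymmetricAlgebra.Basic
import Mathlib.RingTheory.Kaehler.Basic
import Mathlib.RingTheory.Smooth.Basic
import Mathlib.RingTheory.Smooth.Kaehler
import Mathlib.Algebra.TrivSqZeroExt.Basic
import Mathlib.Algebra.Module.Projective
import Mathlib.LinearAlgebra.SymmetricAlgebra.Basis

/-!
# Symmetric algebras: differentials and smoothness
-/

set_option autoImplicit false
set_option linter.style.haveILetI false
universe u
open TensorProduct

noncomputable section

namespace Unram17Lib

variable (A : Type u) [CommRing A] (M : Type u) [AddCommGroup M] [Module A M]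

local notation "SA" => SymmetricAlgebra A M

theorem kaehler_symmetricAlgebra_bijective :
    Function.Bijective (LinearMap.liftBaseChange (SymmetricAlgebra A M)
      ((KaehlerDifferential.D A (SymmetricAlgebra A M)).toLinearMap.restrictScalars A ∘ₗ SymmetricAlgebra.ι A M)) := by
  let N := SA ⊗[A] M
  haveI : IsCentralScalar SA N := ⟨fun c x => by
    induction x using TensorProduct.induction_on with
    | zero => simp
    | tmul a m => simp [TensorProduct.smul_tmul', op_smul_eq_smul]
    | add a b ha hb => rw [smul_add, smul_add, ha, hb]⟩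
  let T := TrivSqZeroExt SA N
  let φ : M →ₗ[A] T := (TrivSqZeroExt.inlAlgHom A SA N).toLinearMap ∘ₗ SymmetricAlgebra.ι A M +
    (TrivSqZeroExt.inrHom SA N).restrictScalars A ∘ₗ TensorProduct.mk A SA M 1
  let Φ : SA →ₐ[A] T := SymmetricAlgebra.lift φ
  have hfst : (TrivSqZeroExt.fstHom A SA N).comp Φ = AlgHom.id A SA := by
    apply SymmetricAlgebra.algHom_ext
    ext m
    simp [Φ, φ]
  have hfst' : ∀ c, (Φ c).fst = c := fun c => AlgHom.congr_fun hfst c
  let D : Derivation A SA N := Derivation.mk'
    { toFun := fun c => (Φ c).snd
      map_add' := fun a b => by simp; rfl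
      map_smul' := fun a b => by simp; rfl }
    fun a b => by
      show (Φ (a * b)).snd = a • (Φ b).snd + b • (Φ a).snd
      rw [map_mul, TrivSqZeroExt.snd_mul, hfst', hfst', op_smul_eq_smul]
  have hD : ∀ m, D (SymmetricAlgebra.ι A M m) = 1 ⊗ₜ[A] m := fun m => by
    show (Φ (SymmetricAlgebra.ι A M m)).snd = _
    simp [Φ, φ]
    rfl
  let F := LinearMap.liftBaseChange SA
    ((KaehlerDifferential.D A SA).toLinearMap.restrictScalars A ∘ₗ SymmetricAlgebra.ι A M)
  let G := D.liftKaehlerDifferential
  have hFG : ∀ c, F (D c) = KaehlerDifferential.D A SA c := by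
    intro c
    induction c using SymmetricAlgebra.induction with
    | algebraMap r => rw [Derivation.map_algebraMap, Derivation.map_algebraMap, map_zero]
    | ι x => rw [hD]; simp [F]
    | mul a b ha hb => rw [Derivation.leibniz, Derivation.leibniz, map_add, map_smul, map_smul, ha, hb]
    | add a b ha hb => rw [map_add, map_add, map_add, ha, hb]
  refine ⟨Function.LeftInverse.injective (g := G) fun z => ?_, fun z => ⟨G z, ?_⟩⟩
  · show G (F z) = z
    induction z using TensorProduct.induction_on with
    | zero => simp
    | tmul c m =>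
      simp [F, G, hD, TensorProduct.smul_tmul', smul_eq_mul]
      rw [TensorProduct.smul_tmul', smul_eq_mul, mul_one]
    | add a b ha hb => rw [map_add, map_add, ha, hb]
  · have : F.comp G = LinearMap.id := Derivation.liftKaehlerDifferential_unique _ _ (Derivation.ext fun c => by
      show F (G (KaehlerDifferential.D A SA c)) = KaehlerDifferential.D A SA c
      rw [Derivation.liftKaehlerDifferential_comp_D, hFG])
    exact LinearMap.congr_fun this z

theorem smooth_symmetricAlgebra_iff :
    Algebra.Smooth A (SymmetricAlgebra A M) ↔ Module.Finite A M ∧ Module.Projective A M := by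
  constructor
  · intro h
    haveI := h
    let e := LinearEquiv.ofBijective _ (kaehler_symmetricAlgebra_bijective A M)
    haveI : Module.Finite SA (SA ⊗[A] M) := Module.Finite.equiv e.symm
    haveI : Module.Projective SA (SA ⊗[A] M) := Module.Projective.of_equiv e.symm
    letI : Algebra SA A := (SymmetricAlgebra.algebraMapInv (R := A) (M := M)).toRingHom.toAlgebra
    haveI : IsScalarTower A SA A :=
      IsScalarTower.of_algebraMap_eq fun a => ((SymmetricAlgebra.algebraMapInv (R := A) (M := M)).commutes a).symm
    let e' : A ⊗[SA] (SA ⊗[A] M) ≃ₗ[A] M := AlgebraTensorModule.cancelBaseChange A SA A A M ≪≫ₗ TensorProduct.lid A M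
    exact ⟨Module.Finite.equiv e', Module.Projective.of_equiv e'⟩
  · rintro ⟨hf, hp⟩
    haveI := hf
    haveI := hp
    refine ⟨?_, ?_⟩
    · refine Algebra.FormallySmooth.of_comp_surjective fun B _ _ I _ g => ?_
      obtain ⟨h, hh⟩ := Module.projective_lifting_property (Ideal.Quotient.mkₐ A I).toLinearMap
        (g.toLinearMap ∘ₗ SymmetricAlgebra.ι A M) Ideal.Quotient.mk_surjective
      refine ⟨SymmetricAlgebra.lift h, SymmetricAlgebra.algHom_ext ?_⟩
      ext m
      simpa using LinearMap.congr_fun hh m
    · obtain ⟨n, f, hf⟩ := Module.Finite.exists_fin' A M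
      obtain ⟨s, hs⟩ := Module.projective_lifting_property f LinearMap.id hf
      let P := MvPolynomial (Fin n) A
      let lin : (Fin n → A) →ₗ[A] P := Fintype.linearCombination A (MvPolynomial.X : Fin n → P)
      let π : P →ₐ[A] SA := MvPolynomial.aeval fun i => SymmetricAlgebra.ι A M (f (Pi.single i 1))
      let σ : SA →ₐ[A] P := SymmetricAlgebra.lift (lin ∘ₗ s)
      have hπlin : ∀ v, π (lin v) = SymmetricAlgebra.ι A M (f v) := fun v => by
        conv_rhs => rw [pi_eq_sum_univ' v, map_sum, map_sum]
        simp only [lin, Fintype.linearCombination_apply, map_sum, map_smul]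
        exact Finset.sum_congr rfl fun i _ => congrArg (v i • ·) (MvPolynomial.aeval_X _ i)
      have hπσ : π.comp σ = AlgHom.id A SA := by
        apply SymmetricAlgebra.algHom_ext
        ext m
        show π (σ (SymmetricAlgebra.ι A M m)) = _
        rw [show σ (SymmetricAlgebra.ι A M m) = lin (s m) from SymmetricAlgebra.lift_ι_apply _ m, hπlin,
          show f (s m) = m from LinearMap.congr_fun hs m]
        rfl
      refine Algebra.FinitePresentation.of_surjective (f := π) (fun c => ⟨σ c, AlgHom.congr_fun hπσ c⟩) ?_
      refine ⟨(Set.finite_range fun i => MvPolynomial.X i - σ (π (MvPolynomial.X i))).toFinset, ?_⟩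
      rw [Set.Finite.coe_toFinset]
      refine le_antisymm (Ideal.span_le.mpr ?_) fun p hp => ?_
      · rintro _ ⟨i, rfl⟩
        show π (MvPolynomial.X i - σ (π (MvPolynomial.X i))) = 0
        rw [map_sub, ← AlgHom.comp_apply π σ, hπσ]
        simp
      · have key : ∀ p : P, p - σ (π p) ∈ Ideal.span (Set.range fun i => MvPolynomial.X i - σ (π (MvPolynomial.X i))) := by
          intro p
          induction p using MvPolynomial.induction_on with
          | C a =>
            rw [show σ (π (MvPolynomial.C a)) = MvPolynomial.C a from
              (congrArg σ (π.commutes a)).trans (σ.commutes a), sub_self]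
            exact zero_mem _
          | add a b ha hb => rw [map_add, map_add, add_sub_add_comm]; exact add_mem ha hb
          | mul_X a i ha =>
            rw [map_mul, map_mul, show a * MvPolynomial.X i - σ (π a) * σ (π (MvPolynomial.X i)) =
              (a - σ (π a)) * MvPolynomial.X i + σ (π a) * (MvPolynomial.X i - σ (π (MvPolynomial.X i))) by ring]
            exact add_mem (Ideal.mul_mem_right _ _ ha) (Ideal.mul_mem_left _ _ (Ideal.subset_span ⟨i, rfl⟩))
        have := key p
        rwa [show π p = 0 from hp, map_zero, sub_zero] at this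

end Unram17Lib
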