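import Groth.Agent.CohenLib.PSHom
import Mathlib.RingTheory.Smooth.Basic
import Mathlib.RingTheory.Smooth.Kaehler
import Mathlib.RingTheory.Nakayama

/-!
# The completion along a section of a smooth algebra
-/

set_option autoImplicit false
set_option linter.style.haveILetI false
universe u

noncomputable section

namespace Unram17Lib

open CohenLib

/-- An endomorphism of a power series ring which is the identity on constants and congruent to the identity
on the variables modulo the square of their ideal is injective. -/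
theorem injective_of_sub_mem_sq {R : Type u} [CommRing R] {n : ℕ}
    (φ : MvPowerSeries (Fin n) R →+* MvPowerSeries (Fin n) R) (hC : ∀ c, φ (MvPowerSeries.C c) = MvPowerSeries.C c)
    (hX : ∀ i, φ (MvPowerSeries.X i) - MvPowerSeries.X i ∈ varsIdeal R n ^ 2) : Function.Injective φ := by
  let P := MvPowerSeries (Fin n) R
  let m : Ideal P := varsIdeal R n
  have hXm : ∀ i, φ (MvPowerSeries.X i) ∈ m := fun i => by
    have := add_mem (Ideal.pow_le_self two_ne_zero (hX i)) (Ideal.subset_span (Set.mem_range_self i) : (MvPowerSeries.X i : P) ∈ m)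
    rwa [sub_add_cancel] at this
  have hm : ∀ a ∈ m, φ a ∈ m := by
    intro a ha
    refine (show m.map φ ≤ m from ?_) (Ideal.mem_map_of_mem φ ha)
    rw [show m = Ideal.span (Set.range MvPowerSeries.X) from rfl, Ideal.map_span, Ideal.span_le]
    rintro _ ⟨_, ⟨i, rfl⟩, rfl⟩
    exact hXm i
  have h0 : ∀ f : P, φ f - f ∈ m := by
    intro f
    have hf : f - MvPowerSeries.C (MvPowerSeries.constantCoeff f) ∈ m := by
      show _ ∈ varsIdeal R n
      rw [← ker_constantCoeff, RingHom.mem_ker, map_sub, MvPowerSeries.constantCoeff_C, sub_self]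
    have h1 := hm _ hf
    rw [map_sub, hC] at h1
    simpa using sub_mem h1 hf
  have h1 : ∀ a ∈ m, φ a - a ∈ m ^ 2 := by
    intro a ha
    induction ha using Submodule.span_induction with
    | mem x hx => obtain ⟨i, rfl⟩ := hx; exact hX i
    | zero => simp
    | add a b _ _ ha hb => rw [map_add, add_sub_add_comm]; exact add_mem ha hb
    | smul c a ha ih =>
      have : φ (c • a) - c • a = (φ c - c) * φ a + c * (φ a - a) := by rw [smul_eq_mul, map_mul]; ring
      rw [this]
      refine add_mem ?_ (Ideal.mul_mem_left _ _ ih)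
      rw [pow_two]
      exact Ideal.mul_mem_mul (h0 c) (hm a ha)
  have hpow : ∀ k, ∀ f ∈ m ^ k, φ f - f ∈ m ^ (k + 1) := by
    intro k
    induction k with
    | zero => intro f _; rw [zero_add, pow_one]; exact h0 f
    | succ k ih =>
      intro f hf
      rw [pow_succ'] at hf
      refine Submodule.mul_induction_on hf (fun a ha b hb => ?_) (fun a b ha hb => ?_)
      · have : φ (a * b) - a * b = (φ a - a) * φ b + a * (φ b - b) := by rw [map_mul]; ring
        rw [this]
        refine add_mem ?_ ?_
        · have hb' : φ b ∈ m ^ k := by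
            have := add_mem (Ideal.pow_le_pow_right (Nat.le_succ k) (ih b hb)) hb
            rwa [sub_add_cancel] at this
          rw [show k + 1 + 1 = 2 + k by ring, pow_add]
          exact Ideal.mul_mem_mul (h1 a ha) hb'
        · rw [show k + 1 + 1 = 1 + (k + 1) by ring, pow_add, pow_one]
          exact Ideal.mul_mem_mul ha (ih b hb)
      · rw [map_add, add_sub_add_comm]; exact add_mem ha hb
  refine (injective_iff_map_eq_zero φ).mpr fun f hf => ?_
  have hall : ∀ k, f ∈ m ^ k := by
    intro k
    induction k with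
    | zero => simp
    | succ k ih =>
      have := hpow k f ih
      rw [hf, zero_sub] at this
      exact neg_mem_iff.mp this
  haveI := isAdicComplete_varsIdeal (n := n) R
  exact IsHausdorff.haus (I := varsIdeal R n) inferInstance f fun k => by
    rw [SModEq.zero, smul_eq_mul, Ideal.mul_top]; exact hall k

theorem adicCompletion_section_equiv {R S : Type u} [CommRing R] [CommRing S] [Algebra R S]
    [Algebra.Smooth R S] (σ : S →ₐ[R] R) (d : ℕ)
    (e : (RingHom.ker σ.toRingHom).Cotangent ≃ₗ[R] (Fin d → R)) :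
    Nonempty (AdicCompletion (RingHom.ker σ.toRingHom) S ≃ₐ[R] MvPowerSeries (Fin d) R) := by
  classical
  let I : Ideal S := RingHom.ker σ.toRingHom
  have hI : I.FG := Algebra.FinitePresentation.ker_fG_of_surjective σ fun r => ⟨algebraMap R S r, σ.commutes r⟩
  have hsub : ∀ s : S, s - algebraMap R S (σ s) ∈ I := fun s => by
    show σ (s - algebraMap R S (σ s)) = 0
    rw [map_sub, σ.commutes]
    exact sub_self _
  let P := MvPowerSeries (Fin d) R
  let m : Ideal P := varsIdeal R d
  haveI : IsAdicComplete m P := isAdicComplete_varsIdeal R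
  choose t ht using fun i => Ideal.toCotangent_surjective I (e.symm (Pi.single i 1))
  -- the first order map
  let lam : S → (Fin d → R) := fun s => e (I.toCotangent ⟨_, hsub s⟩)
  have hlam_eq : ∀ (s : S) (z : I), s - algebraMap R S (σ s) - z.1 ∈ I ^ 2 → lam s = e (I.toCotangent z) := fun s z h =>
    congrArg e (Ideal.toCotangent_eq I |>.mpr h)
  have hlam_add : ∀ a b, lam (a + b) = lam a + lam b := fun a b => by
    rw [← map_add e, ← map_add I.toCotangent]
    refine hlam_eq _ _ ?_
    rw [map_add σ, map_add, Submodule.coe_add, show a + b - (algebraMap R S (σ a) + algebraMap R S (σ b)) -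
      (a - algebraMap R S (σ a) + (b - algebraMap R S (σ b))) = 0 by ring]
    exact zero_mem _
  have hsmul : ∀ (r : R) (z : I), I.toCotangent ⟨algebraMap R S r * z.1, I.mul_mem_left _ z.2⟩ = r • I.toCotangent z := by
    intro r z
    rw [← algebraMap_smul S r (I.toCotangent z), ← map_smul]
    rfl
  have hlam_mul : ∀ a b, lam (a * b) = σ a • lam b + σ b • lam a := fun a b => by
    rw [← map_smul e, ← map_smul e, ← hsmul, ← hsmul, ← map_add e, ← map_add I.toCotangent]
    refine hlam_eq _ _ ?_
    rw [map_mul σ, map_mul, Submodule.coe_add, show a * b - algebraMap R S (σ a) * algebraMap R S (σ b) -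
      (algebraMap R S (σ a) * (b - algebraMap R S (σ b)) + algebraMap R S (σ b) * (a - algebraMap R S (σ a))) =
      (a - algebraMap R S (σ a)) * (b - algebraMap R S (σ b)) by ring, pow_two]
    exact Ideal.mul_mem_mul (hsub a) (hsub b)
  have hlam_const : ∀ r : R, lam (algebraMap R S r) = 0 := fun r => by
    rw [hlam_eq (algebraMap R S r) 0 (by simp [σ.commutes]), map_zero, map_zero]
  have hlam_t : ∀ i, lam (t i).1 = Pi.single i 1 := fun i => by
    rw [hlam_eq (t i).1 (t i) (by simp [show σ (t i).1 = 0 from (t i).2]), ht, LinearEquiv.apply_symm_apply]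
  let L : (Fin d → R) → P := fun v => ∑ i, MvPowerSeries.C (v i) * MvPowerSeries.X i
  have hLm : ∀ v, L v ∈ m := fun v => sum_mem fun i _ => Ideal.mul_mem_left _ _ (Ideal.subset_span (Set.mem_range_self i))
  let q2 := Ideal.Quotient.mk (m ^ 2)
  have hLL : ∀ v w, q2 (L v) * q2 (L w) = 0 := fun v w => by
    rw [← map_mul, Ideal.Quotient.eq_zero_iff_mem, pow_two]; exact Ideal.mul_mem_mul (hLm v) (hLm w)
  have hL_add : ∀ v w, L (v + w) = L v + L w := fun v w => by
    simp [L, add_mul, Finset.sum_add_distrib]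
  have hL_smul : ∀ (r : R) v, L (r • v) = MvPowerSeries.C r * L v := fun r v => by
    simp only [L, Finset.mul_sum, Pi.smul_apply, smul_eq_mul, map_mul, mul_assoc]
  have hL0 : L 0 = 0 := by simp [L]
  let θ1 : S →ₐ[R] P ⧸ m ^ 2 :=
    { toFun := fun s => q2 (MvPowerSeries.C (σ s) + L (lam s))
      map_one' := by
        rw [← map_one (algebraMap R S), hlam_const, hL0, σ.commutes, add_zero]
        simp
      map_mul' := fun a b => by
        simp only [hlam_mul, hL_add, hL_smul, map_add, map_mul]
        have := hLL (lam a) (lam b)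
        linear_combination (-1 : P ⧸ m ^ 2) * this
      map_zero' := by
        rw [← map_zero (algebraMap R S), hlam_const, hL0, σ.commutes, add_zero]
        simp
      map_add' := fun a b => by simp only [hlam_add, hL_add, map_add]; ring
      commutes' := fun r => by
        rw [hlam_const, hL0, σ.commutes, add_zero]
        rfl }
  -- compatible liftings
  have hnil : ∀ k : ℕ, IsNilpotent (RingHom.ker
      ((Ideal.Quotient.factorₐ R (Ideal.pow_le_pow_right (I := m) (Nat.le_succ (k + 2)))) : P ⧸ m ^ (k + 3) →+* P ⧸ m ^ (k + 2))) := by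
    intro k
    refine ⟨2, ?_⟩
    have hker : RingHom.ker ((Ideal.Quotient.factorₐ R (Ideal.pow_le_pow_right (I := m) (Nat.le_succ (k + 2)))) : P ⧸ m ^ (k + 3) →+* P ⧸ m ^ (k + 2)) ≤
        (m ^ (k + 2)).map (Ideal.Quotient.mk (m ^ (k + 3))) := by
      intro z hz
      obtain ⟨z, rfl⟩ := Ideal.Quotient.mk_surjective z
      exact Ideal.mem_map_of_mem _ (Ideal.Quotient.eq_zero_iff_mem.mp hz)
    refine le_bot_iff.mp ((Ideal.pow_right_mono hker 2).trans ?_)
    rw [← Ideal.map_pow, ← pow_mul, Ideal.map_le_iff_le_comap, ← RingHom.ker_eq_comap_bot, Ideal.mk_ker]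
    exact Ideal.pow_le_pow_right (by omega)
  let θs : ∀ k : ℕ, S →ₐ[R] P ⧸ m ^ (k + 2) := fun k => Nat.rec θ1 (fun k θ =>
    Algebra.FormallySmooth.liftOfSurjective θ (Ideal.Quotient.factorₐ R (Ideal.pow_le_pow_right (Nat.le_succ (k + 2))))
      (Ideal.Quotient.factor_surjective (Ideal.pow_le_pow_right (Nat.le_succ (k + 2)))) (hnil k)) k
  have hθs : ∀ k, (Ideal.Quotient.factorₐ R (Ideal.pow_le_pow_right (I := m) (Nat.le_succ (k + 2)))).comp (θs (k + 1)) = θs k :=
    fun k => Algebra.FormallySmooth.comp_liftOfSurjective _ _ _ _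
  have hθle : ∀ {j k : ℕ} (h : j ≤ k),
      (Ideal.Quotient.factor (Ideal.pow_le_pow_right (I := m) (Nat.add_le_add_right h 2))).comp (θs k).toRingHom = (θs j).toRingHom := by
    intro j k h
    induction k, h using Nat.le_induction with
    | base => ext s; obtain ⟨z, hz⟩ := Ideal.Quotient.mk_surjective (θs j s); simp [← hz]
    | succ k h ih =>
      ext s
      rw [← ih, ← hθs k]
      obtain ⟨z, hz⟩ := Ideal.Quotient.mk_surjective (θs (k + 1) s)
      simp [← hz]
  let fam : ∀ k : ℕ, S →+* P ⧸ m ^ k := fun k =>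
    (Ideal.Quotient.factor (Ideal.pow_le_pow_right (I := m) (Nat.le_add_right k 2))).comp (θs k).toRingHom
  have hfam : ∀ {j k : ℕ} (h : j ≤ k), (Ideal.Quotient.factorPow m h).comp (fam k) = fam j := by
    intro j k h
    ext s
    show _ = Ideal.Quotient.factor (Ideal.pow_le_pow_right (I := m) (Nat.le_add_right j 2)) ((θs j).toRingHom s)
    rw [← hθle h]
    obtain ⟨z, hz⟩ := Ideal.Quotient.mk_surjective (θs k s)
    simp [fam, ← hz]
  let θ : S →+* P := IsAdicComplete.liftRingHom m fam hfam
  have hθ2 : ∀ s, Ideal.Quotient.mk (m ^ 2) (θ s) = θ1 s := fun s => by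
    rw [show Ideal.Quotient.mk (m ^ 2) (θ s) = fam 2 s from IsAdicComplete.mk_liftRingHom m fam hfam 2 s]
    exact RingHom.congr_fun (hθle (Nat.zero_le 2)) s
  have hθR : ∀ r, θ (algebraMap R S r) = MvPowerSeries.C r := fun r => by
    refine sub_eq_zero.mp (IsHausdorff.haus (I := m) inferInstance _ fun k => ?_)
    rw [SModEq.zero, smul_eq_mul, Ideal.mul_top, ← Ideal.Quotient.eq_zero_iff_mem, map_sub, sub_eq_zero,
      show Ideal.Quotient.mk (m ^ k) (θ (algebraMap R S r)) = fam k (algebraMap R S r) from IsAdicComplete.mk_liftRingHom m fam hfam k _]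
    show Ideal.Quotient.factor (Ideal.pow_le_pow_right (I := m) (Nat.le_add_right k 2)) ((θs k) (algebraMap R S r)) = _
    rw [(θs k).commutes]
    rfl
  have hθI : I.map θ ≤ m := by
    rw [Ideal.map_le_iff_le_comap]
    intro s hs
    have h := hθ2 s
    have hσ : σ s = 0 := hs
    rw [show θ1 s = q2 (MvPowerSeries.C (σ s) + L (lam s)) from rfl, hσ, map_zero, zero_add, Ideal.Quotient.mk_eq_mk_iff_sub_mem] at h
    rw [Ideal.mem_comap]
    have := add_mem (Ideal.pow_le_self two_ne_zero h) (hLm (lam s))
    rwa [sub_add_cancel] at this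
  -- the two maps
  let C' := AdicCompletion I S
  let J : Ideal C' := I.map (algebraMap S C')
  haveI : IsAdicComplete J C' := (IsAdicComplete.map_algebraMap_iff _ _).2 (AdicCompletion.isAdicComplete (M := S) hI)
  let Φ : P →+* C' := psHom J (algebraMap R C') (fun i => algebraMap S C' (t i).1) fun i => Ideal.mem_map_of_mem _ (t i).2
  let Ψ : C' →+* P := CompleteLib.completionLift I m θ hθI
  have hΦC : ∀ r, Φ (MvPowerSeries.C r) = algebraMap R C' r := psHom_C _ _ _ _
  have hΨ : ∀ s, Ψ (algebraMap S C' s) = θ s := CompleteLib.completionLift_algebraMap I m θ hθI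
  have hinj : Function.Injective (Ψ.comp Φ) := by
    refine injective_of_sub_mem_sq _ (fun c => ?_) (fun i => ?_)
    · rw [RingHom.comp_apply, hΦC, IsScalarTower.algebraMap_apply R S C', hΨ, hθR]
    · rw [RingHom.comp_apply, show Φ (MvPowerSeries.X i) = algebraMap S C' (t i).1 from psHom_X _ _ _ _ i, hΨ,
        ← Ideal.Quotient.mk_eq_mk_iff_sub_mem]
      show Ideal.Quotient.mk (m ^ 2) (θ (t i).1) = _
      rw [hθ2]
      show q2 (MvPowerSeries.C (σ (t i).1) + L (lam (t i).1)) = _
      rw [show σ (t i).1 = 0 from (t i).2, map_zero, zero_add, hlam_t]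
      congr 1
      simp [L, Pi.single_apply, Finset.sum_ite_eq', ite_mul]
  have hJT : J ≤ Ideal.span (Set.range fun i => algebraMap S C' (t i).1) := by
    have hIt : I ≤ Ideal.span (Set.range fun i => (t i).1) ⊔ I • I := by
      intro z hz
      obtain ⟨c, hc⟩ : ∃ c : Fin d → R, I.toCotangent ⟨z, hz⟩ = ∑ i, c i • I.toCotangent (t i) := by
        refine ⟨e (I.toCotangent ⟨z, hz⟩), ?_⟩
        apply e.injective
        simp only [map_sum, map_smul, ht, LinearEquiv.apply_symm_apply]
        funext j
        simp [Finset.sum_apply, Pi.single_apply]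
      let z' : I := ∑ i, (⟨algebraMap R S (c i) * (t i).1, I.mul_mem_left _ (t i).2⟩ : I)
      have hz' : z - z'.1 ∈ I ^ 2 := (Ideal.toCotangent_eq I (x := ⟨z, hz⟩) (y := z')).mp (by
        rw [hc]; simp only [z', map_sum]; exact Finset.sum_congr rfl fun i _ => (hsmul (c i) (t i)).symm)
      rw [← add_sub_cancel z'.1 z]
      refine Submodule.add_mem_sup ?_ (by rwa [smul_eq_mul, ← pow_two])
      rw [AddSubmonoidClass.coe_finsetSum]
      exact sum_mem fun i _ => Ideal.mul_mem_left _ _ (Ideal.subset_span (Set.mem_range_self i))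
    have hJle : J ≤ Ideal.span (Set.range fun i => algebraMap S C' (t i).1) ⊔ J • J := by
      have := Ideal.map_mono (f := algebraMap S C') hIt
      rwa [Ideal.map_sup, Ideal.map_span, ← Set.range_comp, smul_eq_mul, Ideal.map_mul, ← smul_eq_mul] at this
    exact Submodule.le_of_le_smul_of_le_jacobson_bot (hI.map _) (IsAdicComplete.le_jacobson_bot J) hJle
  have hsurj : Function.Surjective Φ := by
    refine surjective_of_complete J m Φ (le_antisymm ?_ (hJT.trans ?_)) ?_
    · rw [show m = Ideal.span (Set.range MvPowerSeries.X) from rfl, Ideal.map_span, Ideal.span_le]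
      rintro _ ⟨_, ⟨i, rfl⟩, rfl⟩
      rw [show Φ (MvPowerSeries.X i) = algebraMap S C' (t i).1 from psHom_X _ _ _ _ i]
      exact Ideal.mem_map_of_mem _ (t i).2
    · rw [Ideal.span_le]
      rintro _ ⟨i, rfl⟩
      show algebraMap S C' (t i).1 ∈ _
      rw [← show Φ (MvPowerSeries.X i) = algebraMap S C' (t i).1 from psHom_X _ _ _ _ i]
      exact Ideal.mem_map_of_mem _ (Ideal.subset_span (Set.mem_range_self i))
    · intro z
      have hz := AdicCompletion.evalOneₐ I z
      obtain ⟨s, hs⟩ := Ideal.Quotient.mk_surjective (AdicCompletion.evalOneₐ I z)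
      refine ⟨MvPowerSeries.C (σ s), ?_⟩
      show z - Φ _ ∈ I.map (algebraMap S C')
      rw [← AdicCompletion.ker_evalOneₐ_eq_map _ hI, RingHom.mem_ker, hΦC, IsScalarTower.algebraMap_apply R S C']
      show AdicCompletion.evalOneₐ I (z - algebraMap S C' (algebraMap R S (σ s))) = 0
      rw [map_sub, AlgHom.commutes, ← hs, Ideal.Quotient.algebraMap_eq, ← map_sub, Ideal.Quotient.eq_zero_iff_mem]
      exact hsub s
  have hbij : Function.Bijective Φ := ⟨fun a b h => hinj (congrArg Ψ h), hsurj⟩
  exact ⟨(AlgEquiv.ofBijective ({ Φ with commutes' := hΦC } : P →ₐ[R] C') hbij).symm⟩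

end Unram17Lib
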