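import Groth.Agent.Unram17Lib.Jacobian
import Mathlib.RingTheory.Etale.Locus
import Mathlib.RingTheory.Kaehler.Polynomial
import Mathlib.RingTheory.RingHom.Etale
import Mathlib.LinearAlgebra.Dimension.OrzechProperty

/-!
# Etale coordinates adapted to a smooth closed subscheme
-/

set_option autoImplicit false
set_option linter.style.haveILetI false
universe u
open TensorProduct

noncomputable section

namespace Unram17Lib

/-- Coordinates whose differentials generate a module of differentials of the same rank are etale. -/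
theorem formallyEtale_of_coordinates (k L : Type u) [CommRing k] [CommRing L] [IsLocalRing L]
    [Algebra k L] (ι : Type) [Fintype ι] [Algebra (MvPolynomial ι k) L] [IsScalarTower k (MvPolynomial ι k) L]
    [Algebra.FormallySmooth k L] [Module.Finite L Ω[L⁄k]] (hn : Module.finrank L Ω[L⁄k] = Fintype.card ι)
    (hs : Function.Surjective (KaehlerDifferential.mapBaseChange k (MvPolynomial ι k) L)) :
    Algebra.FormallyEtale (MvPolynomial ι k) L := by
  haveI : Module.Free L Ω[L⁄k] := Module.free_of_flat_of_isLocalRing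
  let φ := KaehlerDifferential.mapBaseChange k (MvPolynomial ι k) L
  let b := Algebra.TensorProduct.basis L (KaehlerDifferential.mvPolynomialBasis k ι)
  let c := (Module.finBasisOfFinrankEq L Ω[L⁄k] hn)
  haveI : Module.Finite L (L ⊗[MvPolynomial ι k] Ω[MvPolynomial ι k⁄k]) := Module.Finite.of_basis b
  have hinj : Function.Injective φ := by
    let e := c.equiv b (Fintype.equivFin ι).symm
    have h := OrzechProperty.injective_of_surjective_endomorphism (e.toLinearMap.comp φ) (e.surjective.comp hs)
    exact fun x y hxy => h (congrArg e hxy)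
  rw [Algebra.formallyEtale_iff]
  refine ⟨⟨fun a a' => ?_⟩, ⟨fun a a' => ?_⟩⟩
  · obtain ⟨a, rfl⟩ := KaehlerDifferential.map_surjective k (MvPolynomial ι k) L a
    obtain ⟨a', rfl⟩ := KaehlerDifferential.map_surjective k (MvPolynomial ι k) L a'
    rw [(KaehlerDifferential.exact_mapBaseChange_map k (MvPolynomial ι k) L a).mpr (hs a),
      (KaehlerDifferential.exact_mapBaseChange_map k (MvPolynomial ι k) L a').mpr (hs a')]
  · have hz : ∀ a : Algebra.H1Cotangent (MvPolynomial ι k) L, a = 0 := fun a => by
      have hδ : Algebra.H1Cotangent.δ k (MvPolynomial ι k) L a = 0 := hinj (by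
        rw [map_zero]
        exact (Algebra.H1Cotangent.exact_δ_mapBaseChange k (MvPolynomial ι k) L).apply_apply_eq_zero a)
      obtain ⟨e, rfl⟩ := (Algebra.H1Cotangent.exact_map_δ k (MvPolynomial ι k) L a).mp hδ
      rw [Subsingleton.elim e 0, map_zero]
    rw [hz a, hz a']

/-- Elements of `J` generating it at `q` with independent differentials extend to etale coordinates. -/
theorem exists_etale_coordinates_of_linearIndependent (A B : Type u) [CommRing A] [CommRing B]
    [Algebra A B] [Algebra.FinitePresentation A B] (J : Ideal B) (hJ : J.FG) (q : Ideal B) [q.IsPrime]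
    [Algebra.IsSmoothAt A q] (r : ℕ) (g : Fin r → B) (hg : ∀ i, g i ∈ J)
    (hgen : J.map (algebraMap B (Localization.AtPrime q)) =
      Ideal.span (Set.range fun i => algebraMap B (Localization.AtPrime q) (g i)))
    (hligen : LinearIndependent q.ResidueField
      fun i => (1 : q.ResidueField) ⊗ₜ[B] KaehlerDifferential.D A B (g i)) :
    ∃ (f : B) (_ : f ∉ q) (m : ℕ) (g' : Fin m → Localization.Away f),
      (MvPolynomial.aeval (Sum.elim (fun i => algebraMap B (Localization.Away f) (g i)) g') :
          MvPolynomial (Fin r ⊕ Fin m) A →ₐ[A] Localization.Away f).toRingHom.Etale ∧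
      J.map (algebraMap B (Localization.Away f)) =
        Ideal.span (Set.range fun i => algebraMap B (Localization.Away f) (g i)) := by
  classical
  let L := Localization.AtPrime q
  let K := q.ResidueField
  haveI : Algebra.FormallySmooth A L := ‹Algebra.IsSmoothAt A q›
  haveI : Algebra.EssFiniteType A L :=
    haveI : Algebra.EssFiniteType B L := Algebra.EssFiniteType.of_isLocalization L q.primeCompl
    Algebra.EssFiniteType.comp A B L
  have hgenw : J.map (algebraMap B L) = Ideal.span (algebraMap B L '' Set.range g) := by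
    rw [hgen, ← Set.range_comp]; rfl
  have hden : ∀ x ∈ J, ∃ t ∉ q, t * x ∈ Ideal.span (Set.range g) := by
    intro x hx
    have h : algebraMap B L x ∈ (Ideal.span (Set.range g)).map (algebraMap B L) := by
      rw [Ideal.map_span, ← hgenw]
      exact Ideal.mem_map_of_mem _ hx
    rwa [IsLocalization.algebraMap_mem_map_algebraMap_iff q.primeCompl] at h
  let dgen : Fin r → K ⊗[B] Ω[B⁄A] := fun i => 1 ⊗ₜ KaehlerDifferential.D A B (g i)
  -- complete to a basis
  let v : Fin r ⊕ B → K ⊗[B] Ω[B⁄A] := Sum.elim dgen fun b => 1 ⊗ₜ KaehlerDifferential.D A B b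
  have hs0 : LinearIndepOn K v (Set.range Sum.inl) :=
    (linearIndepOn_range_iff Sum.inl_injective v).mpr hligen
  obtain ⟨S, -, hsub, hspanS, hliS⟩ := exists_linearIndepOn_extension hs0 (Set.subset_univ _)
  have hvtop : Submodule.span K (Set.range v) = ⊤ := by
    rw [eq_top_iff, ← Submodule.baseChange_top, ← KaehlerDifferential.span_range_derivation A B,
      Submodule.baseChange_span, Submodule.span_le]
    rintro _ ⟨_, ⟨b, rfl⟩, rfl⟩
    exact Submodule.subset_span ⟨Sum.inr b, rfl⟩
  haveI : Finite S := (show LinearIndependent K fun x : S => v x from hliS).finite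
  let T := {b : B | Sum.inr b ∈ S}
  haveI : Finite T := Finite.of_injective (fun b : T => (⟨Sum.inr b.1, b.2⟩ : S)) fun a b h => by
    exact Subtype.ext (Sum.inr_injective (congrArg Subtype.val h))
  haveI := Fintype.ofFinite T
  let m := Fintype.card T
  let σ : Fin m ≃ T := (Fintype.equivFin T).symm
  let ι := Fin r ⊕ Fin m
  let y : ι → B := Sum.elim g fun j => (σ j).1
  let lab : ι → Fin r ⊕ B := Sum.map id fun j => (σ j).1
  have hlab : ∀ i, lab i ∈ S := by
    rintro (i | j)
    · exact hsub ⟨i, rfl⟩
    · exact (σ j).2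
  have hbij : Function.Bijective fun i => (⟨lab i, hlab i⟩ : S) := by
    refine ⟨fun a b h => Sum.map_injective.mpr ⟨Function.injective_id, Subtype.val_injective.comp σ.injective⟩
      (congrArg Subtype.val h), fun ⟨x, hx⟩ => ?_⟩
    rcases x with i | b
    · exact ⟨Sum.inl i, rfl⟩
    · exact ⟨Sum.inr (σ.symm ⟨b, hx⟩), Subtype.ext (by simp [lab])⟩
  have hy : ∀ i, v (lab i) = 1 ⊗ₜ KaehlerDifferential.D A B (y i) := by rintro (i | j) <;> rfl
  have hytop : Submodule.span K (Set.range fun i => (1 : K) ⊗ₜ[B] KaehlerDifferential.D A B (y i)) = ⊤ := by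
    rw [eq_top_iff, ← hvtop, Submodule.span_le, ← Set.image_univ]
    refine hspanS.trans (Submodule.span_mono ?_)
    rintro _ ⟨x, hx, rfl⟩
    obtain ⟨i, hi⟩ := hbij.2 ⟨x, hx⟩
    exact ⟨i, (hy i).symm.trans (congrArg v (congrArg Subtype.val hi))⟩
  have hyli : LinearIndependent K fun i => (1 : K) ⊗ₜ[B] KaehlerDifferential.D A B (y i) := by
    have h := (show LinearIndependent K fun x : S => v x from hliS).comp _ hbij.1
    simpa only [Function.comp_def, hy] using h
  -- etale at the prime
  let π : MvPolynomial ι A →ₐ[A] B := MvPolynomial.aeval y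
  letI : Algebra (MvPolynomial ι A) B := π.toRingHom.toAlgebra
  haveI : IsScalarTower A (MvPolynomial ι A) B := IsScalarTower.of_algebraMap_eq fun a => (π.commutes a).symm
  haveI : Algebra.FinitePresentation (MvPolynomial ι A) B :=
    Algebra.FinitePresentation.of_restrict_scalars_finitePresentation A _ _
  haveI := Algebra.FormallyEtale.of_isLocalization (Rₘ := L) q.primeCompl
  haveI : Module.Free L Ω[L⁄A] := Module.free_of_flat_of_isLocalRing
  let e : K ⊗[B] Ω[B⁄A] ≃ₗ[K] K ⊗[L] Ω[L⁄A] :=
    (AlgebraTensorModule.cancelBaseChange B L K K Ω[B⁄A]).symm ≪≫ₗ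
      AlgebraTensorModule.congr (LinearEquiv.refl K K) (KaehlerDifferential.tensorKaehlerEquivOfFormallyEtale A B L)
  have he : ∀ b : B, e (1 ⊗ₜ KaehlerDifferential.D A B b) = 1 ⊗ₜ KaehlerDifferential.D A L (algebraMap B L b) :=
    fun b => by simp [e]
  have hrank : Module.finrank L Ω[L⁄A] = Fintype.card ι := by
    rw [← Module.finrank_baseChange (R := K) (S := L) (M' := Ω[L⁄A]), ← e.finrank_eq,
      Module.finrank_eq_card_basis (Module.Basis.mk hyli hytop.ge)]
  haveI : Algebra.IsEtaleAt (MvPolynomial ι A) q := by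
    refine formallyEtale_of_coordinates A L ι hrank ?_
    rw [← LinearMap.range_eq_top, ← IsLocalRing.map_tensorProduct_mk_eq_top]
    refine eq_top_iff.mpr fun z _ => ?_
    obtain ⟨z, rfl⟩ := e.surjective z
    induction (hytop.ge (Submodule.mem_top (x := z))) using Submodule.span_induction with
    | mem x hx =>
      obtain ⟨i, rfl⟩ := hx
      refine ⟨KaehlerDifferential.D A L (algebraMap B L (y i)),
        ⟨1 ⊗ₜ KaehlerDifferential.D A (MvPolynomial ι A) (MvPolynomial.X i), ?_⟩, ?_⟩
      · rw [KaehlerDifferential.mapBaseChange_tmul, one_smul, KaehlerDifferential.map_D,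
          IsScalarTower.algebraMap_apply (MvPolynomial ι A) B L]
        congr 2
        exact MvPolynomial.aeval_X y i
      · rw [he]
        rfl
    | zero => rw [map_zero]; exact zero_mem _
    | add a b _ _ ha hb => rw [map_add]; exact add_mem (ha trivial) (hb trivial)
    | smul c x _ hx =>
      obtain ⟨c, rfl⟩ := IsLocalRing.residue_surjective c
      rw [map_smul]
      exact Submodule.smul_mem _ c (hx trivial)
  obtain ⟨_, ⟨f₀, rfl⟩, hqf, hsubf⟩ := PrimeSpectrum.isTopologicalBasis_basic_opens.exists_subset_of_mem_open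
    (show (⟨q, inferInstance⟩ : PrimeSpectrum B) ∈ Algebra.etaleLocus (MvPolynomial ι A) B from ‹_›)
    Algebra.isOpen_etaleLocus
  obtain ⟨t, ht, htJ⟩ : ∃ t ∉ q, ∀ x ∈ J, t * x ∈ Ideal.span (Set.range g) := by
    obtain ⟨G, hG⟩ := hJ
    have h := fun x (hx : x ∈ J) => hden x hx
    choose! t ht htx using h
    refine ⟨∏ x ∈ G, t x, fun hmem => ?_, fun x hx => ?_⟩
    · obtain ⟨x, hxG, hxt⟩ := Ideal.IsPrime.prod_mem_iff.mp hmem
      exact ht x (hG.le (Submodule.subset_span hxG)) hxt
    · rw [← hG] at hx
      induction hx using Submodule.span_induction with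
      | mem x hx =>
        obtain ⟨c, hc⟩ := Finset.dvd_prod_of_mem t hx
        rw [hc, mul_right_comm]
        exact Ideal.mul_mem_right _ _ (htx x (hG.le (Submodule.subset_span hx)))
      | zero => rw [mul_zero]; exact zero_mem _
      | add a b _ _ ha hb => rw [mul_add]; exact add_mem ha hb
      | smul c a _ ha => rw [smul_eq_mul, mul_left_comm]; exact Ideal.mul_mem_left _ _ ha
  let f := f₀ * t
  refine ⟨f, Ideal.IsPrime.mul_notMem inferInstance hqf ht, m, fun j => algebraMap B _ (σ j).1, ?_, ?_⟩
  · haveI : Algebra.Etale (MvPolynomial ι A) (Localization.Away f) := by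
      rw [← Algebra.basicOpen_subset_etaleLocus_iff_etale]
      exact fun z hz => hsubf (PrimeSpectrum.basicOpen_mul_le_left f₀ t hz)
    have hcomp : (MvPolynomial.aeval (Sum.elim (fun i => algebraMap B (Localization.Away f) (g i))
        (fun j => algebraMap B _ (σ j).1)) : MvPolynomial ι A →ₐ[A] Localization.Away f) =
        (IsScalarTower.toAlgHom A B (Localization.Away f)).comp π := by
      apply MvPolynomial.algHom_ext
      rintro (i | j) <;> simp [π, y]
    rw [hcomp, show ((IsScalarTower.toAlgHom A B (Localization.Away f)).comp π).toRingHom =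
      algebraMap (MvPolynomial ι A) (Localization.Away f) from
      (IsScalarTower.algebraMap_eq (MvPolynomial ι A) B (Localization.Away f)).symm]
    exact RingHom.etale_algebraMap.mpr inferInstance
  · refine le_antisymm (Ideal.map_le_iff_le_comap.mpr fun x hx => ?_) (Ideal.span_le.mpr ?_)
    · have hu : IsUnit (algebraMap B (Localization.Away f) t) :=
        isUnit_of_dvd_unit (map_dvd _ (Dvd.intro_left f₀ rfl)) (IsLocalization.Away.algebraMap_isUnit f)
      rw [Ideal.mem_comap]
      refine (Ideal.unit_mul_mem_iff_mem _ hu).mp ?_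
      rw [← map_mul]
      have := Ideal.mem_map_of_mem (algebraMap B (Localization.Away f)) (htJ x hx)
      rwa [Ideal.map_span, ← Set.range_comp] at this
    · rintro _ ⟨i, rfl⟩
      exact Ideal.mem_map_of_mem _ (hg i)


theorem exists_etale_coordinates (A B : Type u) [CommRing A] [CommRing B]
    [Algebra A B] [Algebra.FinitePresentation A B] (J : Ideal B) (hJ : J.FG) (q : Ideal B) [q.IsPrime] (hJq : J ≤ q)
    [Algebra.IsSmoothAt A q] (Q : Ideal (B ⧸ J)) [Q.IsPrime] (hQ : Q.comap (Ideal.Quotient.mk J) = q)
    [Algebra.IsSmoothAt A Q] (r : ℕ) (g : Fin r → B) (hg : ∀ i, g i ∈ J)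
    (hgen : J.map (algebraMap B (Localization.AtPrime q)) =
      Ideal.span (Set.range fun i => algebraMap B (Localization.AtPrime q) (g i)))
    (hmin : r = Module.finrank q.ResidueField (q.ResidueField ⊗[B] J)) :
    ∃ (f : B) (_ : f ∉ q) (m : ℕ) (g' : Fin m → Localization.Away f),
      (MvPolynomial.aeval (Sum.elim (fun i => algebraMap B (Localization.Away f) (g i)) g') :
          MvPolynomial (Fin r ⊕ Fin m) A →ₐ[A] Localization.Away f).toRingHom.Etale ∧
      J.map (algebraMap B (Localization.Away f)) =
        Ideal.span (Set.range fun i => algebraMap B (Localization.Away f) (g i)) := by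
  classical
  subst hQ
  let q : Ideal B := Q.comap (Ideal.Quotient.mk J)
  let L := Localization.AtPrime q
  let K := q.ResidueField
  haveI : Algebra.FormallySmooth A L := ‹Algebra.IsSmoothAt A q›
  haveI : Algebra.EssFiniteType A L :=
    haveI : Algebra.EssFiniteType B L := Algebra.EssFiniteType.of_isLocalization L q.primeCompl
    Algebra.EssFiniteType.comp A B L
  obtain ⟨s, hsJ, hs, hli⟩ := (isSmoothAt_quotient_iff A B J hJ Q).mp ‹_›
  -- a denominator for membership in the localised ideal
  have hden : ∀ (w : Set B), J.map (algebraMap B L) = Ideal.span (algebraMap B L '' w) → ∀ x ∈ J,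
      ∃ t ∉ q, t * x ∈ Ideal.span w := by
    intro w hw x hx
    have h : algebraMap B L x ∈ (Ideal.span w).map (algebraMap B L) := by
      rw [Ideal.map_span, ← hw]
      exact Ideal.mem_map_of_mem _ hx
    rwa [IsLocalization.algebraMap_mem_map_algebraMap_iff q.primeCompl] at h
  have hKu : ∀ t ∉ q, IsUnit (algebraMap B K t) := fun t ht =>
    IsUnit.mk0 _ fun h => ht (Ideal.algebraMap_residueField_eq_zero.mp h)
  have hdJ : ∀ w : Set B, w ⊆ J → ∀ z ∈ Ideal.span w, (1 : K) ⊗ₜ[B] KaehlerDifferential.D A B z ∈
      Submodule.span K ((fun b => (1 : K) ⊗ₜ[B] KaehlerDifferential.D A B b) '' w) := by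
    intro w hw z hz
    induction hz using Submodule.span_induction with
    | mem z hz => exact Submodule.subset_span ⟨z, hz, rfl⟩
    | zero => rw [map_zero, tmul_zero]; exact zero_mem _
    | add a b _ _ ha hb => rw [map_add, tmul_add]; exact add_mem ha hb
    | smul c a hmem ha =>
      rw [smul_eq_mul, Derivation.leibniz, tmul_add, tmul_smul, tmul_smul]
      refine add_mem (Submodule.smul_of_tower_mem _ c ha) ?_
      rw [← algebraMap_smul K a, Ideal.algebraMap_residueField_eq_zero.mpr (hJq (Ideal.span_le.mpr hw hmem)),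
        zero_smul]
      exact zero_mem _
  have hdJ' : ∀ w : Set B, w ⊆ J → J.map (algebraMap B L) = Ideal.span (algebraMap B L '' w) → ∀ x ∈ J,
      (1 : K) ⊗ₜ[B] KaehlerDifferential.D A B x ∈
      Submodule.span K ((fun b => (1 : K) ⊗ₜ[B] KaehlerDifferential.D A B b) '' w) := by
    intro w hwJ hw x hx
    obtain ⟨t, ht, htx⟩ := hden w hw x hx
    have h := hdJ w hwJ _ htx
    rw [Derivation.leibniz, tmul_add, tmul_smul, tmul_smul, ← algebraMap_smul K x,
      Ideal.algebraMap_residueField_eq_zero.mpr (hJq hx), zero_smul, add_zero, ← algebraMap_smul K t] at h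
    exact (Submodule.smul_mem_iff' _ (hKu t ht).unit).mp h
  -- `r` is the number of the independent generators
  have hr : r ≤ Fintype.card ↥s := by
    rw [hmin]
    let v : ↥s → K ⊗[B] J := fun x => (1 : K) ⊗ₜ (⟨x.1, hsJ x.2⟩ : J)
    have htop : Submodule.span K (Set.range v) = ⊤ := by
      rw [eq_top_iff, ← Submodule.baseChange_top, show (⊤ : Submodule B J) = Submodule.span B Set.univ from
        Submodule.span_univ.symm, Submodule.baseChange_span, Submodule.span_le]
      rintro _ ⟨⟨x, hx⟩, -, rfl⟩
      obtain ⟨t, ht, htx⟩ := hden (↑s) hs x hx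
      obtain ⟨c, -, hc⟩ := Submodule.mem_span_finset.mp htx
      refine (Submodule.smul_mem_iff' _ (hKu t ht).unit).mp ?_
      show algebraMap B K t • ((1 : K) ⊗ₜ[B] (⟨x, hx⟩ : J)) ∈ Submodule.span K (Set.range v)
      rw [algebraMap_smul, ← tmul_smul, show t • (⟨x, hx⟩ : J) = ∑ a ∈ s.attach, c a.1 • (⟨a.1, hsJ a.2⟩ : J) from
        Subtype.ext (by
          rw [AddSubmonoidClass.coe_finsetSum]
          simp only [SetLike.val_smul]
          rw [Finset.sum_attach s fun a => c a • a]
          exact hc.symm), tmul_sum]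
      exact sum_mem fun a _ => by
        rw [tmul_smul, ← algebraMap_smul K]
        exact Submodule.smul_mem _ _ (Submodule.subset_span ⟨a, rfl⟩)
    rw [← finrank_top, ← htop]
    exact finrank_range_le_card v
  have hgenw : J.map (algebraMap B L) = Ideal.span (algebraMap B L '' Set.range g) := by
    rw [hgen, ← Set.range_comp]; rfl
  let dgen : Fin r → K ⊗[B] Ω[B⁄A] := fun i => 1 ⊗ₜ KaehlerDifferential.D A B (g i)
  have hligen : LinearIndependent K dgen := by
    rw [linearIndependent_iff_card_eq_finrank_span, Set.finrank]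
    refine le_antisymm ?_ (finrank_range_le_card _)
    rw [Fintype.card_fin]
    refine hr.trans ?_
    rw [← finrank_span_eq_card hli]
    refine Submodule.finrank_mono (Submodule.span_le.mpr ?_)
    rintro _ ⟨x, rfl⟩
    have := hdJ' (Set.range g) (by rintro _ ⟨i, rfl⟩; exact hg i) hgenw x.1 (hsJ x.2)
    rwa [← Set.range_comp] at this
  exact exists_etale_coordinates_of_linearIndependent A B J hJ q r g hg hgen hligen

end Unram17Lib
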