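import Groth.Agent.SmoothDimLib.Fibre
import Mathlib.RingTheory.Smooth.Local
import Mathlib.RingTheory.Regular.RegularSequence
import Mathlib.LinearAlgebra.TensorProduct.Quotient

/-!
# Smoothness along a regular immersion
-/

set_option autoImplicit false
set_option linter.style.haveILetI false
universe u
open CategoryTheory CategoryTheory.Limits AlgebraicGeometry TopologicalSpace TensorProduct

noncomputable section

namespace Unram17Lib

/-- Each member is regular modulo `J` and the earlier ones. -/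
def RegMod {R : Type u} [CommRing R] (J : Ideal R) (rs : List R) : Prop :=
  ∀ (i : ℕ) (h : i < rs.length) (c : R), c * rs[i] ∈ J ⊔ Ideal.ofList (rs.take i) →
    c ∈ J ⊔ Ideal.ofList (rs.take i)

theorem inf_ofList_le_mul {R : Type u} [CommRing R] (J : Ideal R) :
    ∀ rs : List R, RegMod J rs → J ⊓ Ideal.ofList rs ≤ J * Ideal.ofList rs := by
  intro rs
  induction rs using List.reverseRecOn with
  | nil => intro _; simp
  | append_singleton l r ih =>
    intro h x hx
    have hl : RegMod J l := fun i hi c hc => by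
      have h1 : (l ++ [r]).take i = l.take i := List.take_append_of_le_length hi.le
      have := h i (by simp; omega) c
      rw [h1, List.getElem_append_left hi] at this
      exact this hc
    rw [Ideal.ofList_append, Ideal.ofList_singleton] at hx ⊢
    obtain ⟨hxJ, hxs⟩ := hx
    obtain ⟨a, ha, b, hb, rfl⟩ := Submodule.mem_sup.mp hxs
    obtain ⟨c, rfl⟩ := Ideal.mem_span_singleton'.mp hb
    have hc : c * r ∈ J ⊔ Ideal.ofList l := by
      have h2 : c * r = (a + c * r) - a := (add_sub_cancel_left a _).symm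
      rw [h2]
      exact sub_mem (Ideal.mem_sup_left hxJ) (Ideal.mem_sup_right ha)
    have h3 : c ∈ J ⊔ Ideal.ofList l := by
      have := h l.length (by simp) c
      rw [List.getElem_append_right le_rfl] at this
      simp only [Nat.sub_self, List.getElem_cons_zero, List.take_left'] at this
      exact this hc
    obtain ⟨u, hu, v, hv, rfl⟩ := Submodule.mem_sup.mp h3
    have hmem : a + v * r ∈ J ⊓ Ideal.ofList l := by
      refine ⟨?_, add_mem ha (Ideal.mul_mem_right _ _ hv)⟩
      rw [show a + v * r = (a + (u + v) * r) - u * r by ring]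
      exact sub_mem hxJ (Ideal.mul_mem_right _ _ hu)
    rw [show a + (u + v) * r = u * r + (a + v * r) by ring, Ideal.mul_sup]
    exact add_mem (Ideal.mem_sup_right (Ideal.mul_mem_mul hu (Ideal.mem_span_singleton_self r)))
      (Ideal.mem_sup_left (ih hl hmem))

theorem regMod_bot_of_isWeaklyRegular {R : Type u} [CommRing R] {rs : List R}
    (h : RingTheory.Sequence.IsWeaklyRegular R rs) : RegMod ⊥ rs := by
  intro i hi c hc
  rw [bot_sup_eq] at hc ⊢
  have htop : Ideal.ofList (rs.take i) • (⊤ : Submodule R R) = Ideal.ofList (rs.take i) := by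
    rw [smul_eq_mul, Ideal.mul_top]
  have h1 : rs[i] • (Submodule.Quotient.mk c : R ⧸ Ideal.ofList (rs.take i) • (⊤ : Submodule R R)) = 0 := by
    rw [← Submodule.Quotient.mk_smul, Submodule.Quotient.mk_eq_zero, htop, smul_eq_mul, mul_comm]
    exact hc
  have h2 := (h.regular_mod_prev i hi) (h1.trans (smul_zero _).symm)
  rw [Submodule.Quotient.mk_eq_zero, htop] at h2
  exact h2

theorem regMod_map {R S : Type u} [CommRing R] [CommRing S] [Algebra R S] (M : Submonoid R)
    [IsLocalization M S] {rs : List R} (h : RegMod ⊥ rs) : RegMod ⊥ (rs.map (algebraMap R S)) := by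
  intro i hi c hc
  rw [bot_sup_eq, ← List.map_take, ← Ideal.map_ofList, List.getElem_map] at hc
  rw [bot_sup_eq, ← List.map_take, ← Ideal.map_ofList]
  obtain ⟨a, s, rfl⟩ := IsLocalization.exists_mk'_eq M c
  rw [← IsLocalization.mk'_one (M := M) S (rs[i]'(by simpa using hi)), ← IsLocalization.mk'_mul, mul_one,
    IsLocalization.mk'_mem_map_algebraMap_iff] at hc
  obtain ⟨t, ht, hts⟩ := hc
  rw [IsLocalization.mk'_mem_map_algebraMap_iff]
  refine ⟨t, ht, ?_⟩
  have := h i (by simpa using hi) (t * a) (by rw [bot_sup_eq, mul_assoc]; exact hts)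
  rwa [bot_sup_eq] at this

theorem exists_map_eq {R S : Type u} (f : R → S) (hf : Function.Surjective f) :
    ∀ l : List S, ∃ l' : List R, l'.map f = l
  | [] => ⟨[], rfl⟩
  | s :: l => by
    obtain ⟨r, rfl⟩ := hf s
    obtain ⟨l', rfl⟩ := exists_map_eq f hf l
    exact ⟨r :: l', rfl⟩

/-- A regular sequence in a quotient gives: no new relations among lifts. -/
theorem ker_inf_le_mul {R S : Type u} [CommRing R] [CommRing S] (f : R →+* S) (hf : Function.Surjective f)
    {rs : List R} (h : RegMod ⊥ (rs.map f)) :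
    RingHom.ker f ⊓ Ideal.ofList rs ≤ RingHom.ker f * Ideal.ofList rs := by
  refine inf_ofList_le_mul _ _ fun i hi c hc => ?_
  have key : RingHom.ker f ⊔ Ideal.ofList (rs.take i) = (Ideal.ofList ((rs.map f).take i)).comap f := by
    rw [← List.map_take, ← Ideal.map_ofList, Ideal.comap_map_of_surjective f hf, sup_comm]
    rfl
  rw [key, Ideal.mem_comap] at hc ⊢
  have := h i (by simpa using hi) (f c) (by rw [bot_sup_eq, List.getElem_map, ← map_mul]; exact hc)
  rwa [bot_sup_eq] at this

/-- The local criterion: smooth after dividing by a regular sequence implies smooth. -/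
theorem formallySmooth_local_of_regular {A P B C : Type u} [CommRing A] [CommRing P] [CommRing B] [CommRing C]
    [IsLocalRing P] [IsLocalRing B] [IsLocalRing C]
    [Algebra A P] [Algebra A B] [Algebra A C] [Algebra P B] [Algebra P C] [IsScalarTower A P B]
    [IsScalarTower A P C] [Algebra.FormallySmooth A P] [Algebra.EssFiniteType A P]
    (ψ : B →+* C) (hψ : ψ.comp (algebraMap P B) = algebraMap P C)
    (hB : Function.Surjective (algebraMap P B)) (hC : Function.Surjective (algebraMap P C))
    (hJ : (RingHom.ker (algebraMap P B)).FG) (rs : List B) (hker : RingHom.ker ψ = Ideal.ofList rs)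
    (hreg : RegMod ⊥ rs) [Algebra.FormallySmooth A C] : Algebra.FormallySmooth A B := by
  let J := RingHom.ker (algebraMap P B)
  let I := RingHom.ker (algebraMap P C)
  let K := IsLocalRing.ResidueField C
  letI : Algebra B K := ((IsLocalRing.residue C).comp ψ).toAlgebra
  haveI : IsScalarTower P B K := IsScalarTower.of_algebraMap_eq fun p => by
    rw [IsScalarTower.algebraMap_apply P C K, ← hψ]
    rfl
  haveI : Module.Free P Ω[P⁄A] := Module.free_of_flat_of_isLocalRing
  have hKsurj : Function.Surjective (algebraMap P K) := IsLocalRing.residue_surjective.comp hC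
  have hBK : IsLocalRing.maximalIdeal B ≤ RingHom.ker (algebraMap B K) := by
    have hs : Function.Surjective (algebraMap B K) := fun z => by
      obtain ⟨p, hp⟩ := hKsurj z
      exact ⟨algebraMap P B p, by rw [← IsScalarTower.algebraMap_apply P B K]; exact hp⟩
    exact (IsLocalRing.eq_maximalIdeal (RingHom.ker_isMaximal_of_surjective _ hs)).ge
  obtain ⟨rsP, hrsP⟩ := exists_map_eq (algebraMap P B) hB rs
  have hI : I = J ⊔ Ideal.ofList rsP := by
    show RingHom.ker (algebraMap P C) = _
    rw [← hψ, ← RingHom.comap_ker, hker, ← hrsP, ← Ideal.map_ofList,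
      Ideal.comap_map_of_surjective _ hB, sup_comm]
    rfl
  have hJI : J ≤ I := hI ▸ le_sup_left
  have hIfg : I.FG := by
    rw [hI]
    classical
    exact Submodule.FG.sup hJ ⟨rsP.toFinset, by simp [Ideal.ofList]⟩
  have hI1 : IsLocalRing.maximalIdeal C ≤ RingHom.ker (algebraMap C K) :=
    (IsLocalRing.ker_residue (R := C)).ge
  have hinjC := (Algebra.FormallySmooth.iff_injective_cotangentComplexBaseChange P K hC hIfg hI1).mp
    (inferInstance : Algebra.FormallySmooth A C)
  rw [Algebra.FormallySmooth.iff_injective_cotangentComplexBaseChange P K hB hJ hBK,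
    injective_iff_map_eq_zero]
  intro z hz
  obtain ⟨x, rfl⟩ := TensorProduct.mk_surjective P J K hKsurj z
  let x' : I := ⟨x, hJI x.2⟩
  have h0 : (1 : K) ⊗ₜ[P] x' = 0 := hinjC (by
    rw [map_zero]
    exact hz)
  let m := RingHom.ker (algebraMap P K)
  have hm : m = IsLocalRing.maximalIdeal P :=
    IsLocalRing.eq_maximalIdeal (RingHom.ker_isMaximal_of_surjective _ hKsurj)
  let e : (P ⧸ m) ≃ₐ[P] K := Ideal.quotientKerAlgEquivOfSurjective (f := Algebra.ofId P K) hKsurj
  let Φ : ∀ N : Ideal P, K ⊗[P] N ≃ₗ[P] N ⧸ (m • (⊤ : Submodule P N)) := fun N =>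
    (TensorProduct.congr e.symm.toLinearEquiv (LinearEquiv.refl P N)) ≪≫ₗ quotTensorEquivQuotSMul N m
  have hΦ : ∀ (N : Ideal P) (a : N), ((1 : K) ⊗ₜ[P] a = 0) ↔ (a : P) ∈ m * N := by
    intro N a
    have h2 : Φ N ((1 : K) ⊗ₜ[P] a) = Submodule.Quotient.mk a := by
      simp only [Φ, LinearEquiv.trans_apply, TensorProduct.congr_tmul, AlgEquiv.toLinearEquiv_apply, map_one,
        LinearEquiv.refl_apply]
      exact quotTensorEquivQuotSMul_mk_tmul m 1 a |>.trans (by rw [one_smul])
    rw [← (Φ N).map_eq_zero_iff, h2, Submodule.Quotient.mk_eq_zero, ← smul_eq_mul]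
    have h3 : Submodule.map N.subtype (m • ⊤) = m • N := by
      rw [Submodule.map_smul'', Submodule.map_top, Submodule.range_subtype]
    rw [← h3]
    exact ⟨fun h => Submodule.mem_map_of_mem h, fun ⟨b, hb, hba⟩ => N.injective_subtype hba ▸ hb⟩
  rw [TensorProduct.mk_apply, hΦ]
  have h1 : (x : P) ∈ m * I := (hΦ I x').mp h0
  rw [hI, Ideal.mul_sup] at h1
  obtain ⟨u, hu, v, hv, huv⟩ := Submodule.mem_sup.mp h1
  change u + v = (x : P) at huv
  have hml : ∀ N : Ideal P, m * N ≤ N := fun N => Ideal.mul_le.mpr fun a _ b hb => N.mul_mem_left a hb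
  have hv1 : v ∈ J ⊓ Ideal.ofList rsP := by
    refine ⟨?_, hml _ hv⟩
    rw [show v = (x : P) - u by rw [← huv, add_sub_cancel_left]]
    exact sub_mem x.2 (hml _ hu)
  have hv2 := ker_inf_le_mul (algebraMap P B) hB (hrsP ▸ hreg) hv1
  have hle : Ideal.ofList rsP ≤ m := by
    rw [hm]
    refine le_trans ?_ (IsLocalRing.le_maximalIdeal (RingHom.ker_ne_top (algebraMap P C)))
    exact hI.ge.trans' le_sup_right
  rw [← huv]
  refine add_mem hu ?_
  rw [mul_comm m J]
  exact Ideal.mul_mono_right hle hv2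

/-- Smoothness at a prime containing a regular sequence, from smoothness of the quotient. -/
theorem isSmoothAt_of_regular {A B C : Type u} [CommRing A] [CommRing B] [CommRing C]
    [Algebra A B] [Algebra.FinitePresentation A B] [Algebra A C] [Algebra B C] [IsScalarTower A B C]
    (hs : Function.Surjective (algebraMap B C)) (rs : List B) (hker : RingHom.ker (algebraMap B C) = Ideal.ofList rs)
    (hreg : RingTheory.Sequence.IsWeaklyRegular B rs) (p : Ideal C) [p.IsPrime] [Algebra.IsSmoothAt A p] :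
    Algebra.IsSmoothAt A (p.comap (algebraMap B C)) := by
  obtain ⟨n, π, hπ, hJ⟩ := Algebra.FinitePresentation.out (R := A) (A := B)
  let P := MvPolynomial (Fin n) A
  let q := p.comap (algebraMap B C)
  let q' := q.comap π.toRingHom
  let P' := Localization.AtPrime q'
  let B' := Localization.AtPrime q
  let C' := Localization.AtPrime p
  let ψ : B' →+* C' := Localization.localRingHom q p (algebraMap B C) rfl
  let θ : P' →+* B' := Localization.localRingHom q' q π.toRingHom rfl
  letI : Algebra P' B' := θ.toAlgebra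
  letI : Algebra P' C' := (ψ.comp θ).toAlgebra
  haveI : IsScalarTower A P' B' := IsScalarTower.of_algebraMap_eq fun c => by
    rw [IsScalarTower.algebraMap_apply A P P', IsScalarTower.algebraMap_apply A B B', RingHom.algebraMap_toAlgebra,
      Localization.localRingHom_to_map]
    exact congrArg (algebraMap B B') (π.commutes c).symm
  haveI : IsScalarTower A P' C' := IsScalarTower.of_algebraMap_eq fun c => by
    show _ = ψ (θ (algebraMap A P' c))
    rw [IsScalarTower.algebraMap_apply A P P', IsScalarTower.algebraMap_apply A C C', Localization.localRingHom_to_map,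
      Localization.localRingHom_to_map]
    refine congrArg (algebraMap C C') ?_
    show _ = algebraMap B C (π (algebraMap A P c))
    rw [π.commutes, ← IsScalarTower.algebraMap_apply A B C]
  haveI : Algebra.FormallySmooth A P' :=
    haveI : Algebra.FormallySmooth P P' := Algebra.FormallySmooth.of_isLocalization q'.primeCompl
    Algebra.FormallySmooth.comp A P P'
  haveI : Algebra.EssFiniteType A P' :=
    haveI : Algebra.EssFiniteType P P' := Algebra.EssFiniteType.of_isLocalization P' q'.primeCompl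
    Algebra.EssFiniteType.comp A P P'
  have hT : ∀ {R S : Type u} [CommRing R] [CommRing S] (f : R →+* S), Function.Surjective f →
      ∀ (Q : Ideal S) [Q.IsPrime], Submonoid.map f (Q.comap f).primeCompl = Q.primeCompl := by
    intro R S _ _ f hf Q _
    ext y
    refine ⟨?_, fun hy => ?_⟩
    · rintro ⟨x, hx, rfl⟩
      exact hx
    · obtain ⟨x, rfl⟩ := hf y
      exact ⟨x, hy, rfl⟩
  have hsurj : ∀ {R S : Type u} [CommRing R] [CommRing S] (f : R →+* S), Function.Surjective f →
      ∀ (Q : Ideal S) [Q.IsPrime], Function.Surjective (Localization.localRingHom (Q.comap f) Q f rfl) := by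
    intro R S _ _ f hf Q _ z
    obtain ⟨a, s, rfl⟩ := IsLocalization.exists_mk'_eq Q.primeCompl z
    obtain ⟨a, rfl⟩ := hf a
    obtain ⟨t, ht⟩ := hf s
    refine ⟨IsLocalization.mk' _ a (⟨t, fun h => s.2 (ht ▸ h)⟩ : (Q.comap f).primeCompl), ?_⟩
    refine (Localization.localRingHom_mk' _ Q f rfl a _).trans ?_
    exact congrArg (IsLocalization.mk' _ (f a)) (Subtype.ext ht)
  have hkθ : RingHom.ker θ = (RingHom.ker π.toRingHom).map (algebraMap P P') :=
    @IsLocalization.ker_map P P' B B' _ _ _ _ q'.primeCompl q.primeCompl _ _ _ _ π.toRingHom (hT _ hπ q)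
  have hkψ : RingHom.ker ψ = Ideal.ofList (rs.map (algebraMap B B')) := by
    rw [← Ideal.map_ofList, ← hker]
    exact @IsLocalization.ker_map B B' C C' _ _ _ _ q.primeCompl p.primeCompl _ _ _ _ (algebraMap B C) (hT _ hs p)
  show Algebra.FormallySmooth A B'
  haveI : Algebra.FormallySmooth A C' := ‹Algebra.IsSmoothAt A p›
  exact formallySmooth_local_of_regular (P := P') (C := C') ψ rfl (hsurj _ hπ q)
    ((hsurj _ hs p).comp (hsurj _ hπ q)) (hkθ ▸ hJ.map _) _ hkψ
    (regMod_map q.primeCompl (regMod_bot_of_isWeaklyRegular hreg))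

variable {X Y S : Scheme.{u}}

theorem smooth_nhd_of_regular (f : X ⟶ S) [LocallyOfFinitePresentation f] (j : Y ⟶ X) [IsClosedImmersion j]
    [LocallyOfFinitePresentation (j ≫ f)] (y : Y) (hy : ∃ V : Y.Opens, y ∈ V ∧ Smooth (V.ι ≫ j ≫ f))
    (hreg : ∃ (U : X.Opens) (hU : IsAffineOpen U), j y ∈ U ∧
      ∃ rs : List Γ(X, U), RingTheory.Sequence.IsRegular Γ(X, U) rs ∧ j.ker.ideal ⟨U, hU⟩ = Ideal.ofList rs) :
    ∃ U : X.Opens, j y ∈ U ∧ Smooth (U.ι ≫ f) := by
  obtain ⟨U, hU, hyU, rs, hrs, hker⟩ := hreg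
  obtain ⟨T, hT, hyT, -⟩ := exists_isAffineOpen_mem_and_subset (X := S) (x := f (j y)) (U := ⊤) trivial
  obtain ⟨g, hgT, hyg⟩ := hU.exists_basicOpen_le (V := f ⁻¹ᵁ T) ⟨j y, hyT⟩ hyU
  let U' := X.basicOpen g
  have hU' : IsAffineOpen U' := hU.basicOpen g
  haveI := hU.isLocalization_basicOpen g
  let rs' := rs.map (algebraMap Γ(X, U) Γ(X, U'))
  have hreg' : RingTheory.Sequence.IsWeaklyRegular Γ(X, U') rs' := by
    haveI := IsLocalization.flat Γ(X, U') (Submonoid.powers g)
    exact hrs.toIsWeaklyRegular.of_flat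
  have hV : IsAffineOpen (j ⁻¹ᵁ U') := hU'.preimage j
  let V := j ⁻¹ᵁ U'
  have e : V ≤ (j ≫ f) ⁻¹ᵁ T := fun z hz => hgT hz
  algebraize [(f.appLE T U' hgT).hom, (j.app U').hom, ((j ≫ f).appLE T V e).hom]
  haveI : IsScalarTower Γ(S, T) Γ(X, U') Γ(Y, V) := IsScalarTower.of_algebraMap_eq' (by
    show ((j ≫ f).appLE T V e).hom = ((j.app U').hom).comp (f.appLE T U' hgT).hom
    rw [← CommRingCat.hom_comp, Scheme.Hom.app_eq_appLE, Scheme.Hom.appLE_comp_appLE])
  haveI : Algebra.FinitePresentation Γ(S, T) Γ(X, U') := f.finitePresentation_appLE hT hU' hgT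
  have hker' : RingHom.ker (algebraMap Γ(X, U') Γ(Y, V)) = Ideal.ofList rs' := by
    show RingHom.ker (j.app U').hom = _
    rw [← Scheme.Hom.ker_apply j ⟨U', hU'⟩, ← Ideal.map_ofList, ← hker]
    exact (j.ker.map_ideal_basicOpen ⟨U, hU⟩ g).symm
  let p := (hV.primeIdealOf ⟨y, hyg⟩).asIdeal
  obtain ⟨W, hyW, hW⟩ := hy
  have hsY : y ∈ (j ≫ f).smoothLocus := by
    have h : (⟨y, hyW⟩ : (W : Scheme.{u})) ∈ W.ι ⁻¹ᵁ (j ≫ f).smoothLocus := by
      rw [Scheme.Hom.preimage_smoothLocus_eq, Scheme.Hom.smoothLocus_eq_top]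
      trivial
    exact h
  haveI : Algebra.IsSmoothAt Γ(S, T) p := (formallySmooth_stalkMap_iff T hT V hV e hyg).mp
    (Scheme.Hom.mem_smoothLocus.mp hsY)
  have key := isSmoothAt_of_regular (A := Γ(S, T)) (j.app_surjective U' hU') rs' hker' hreg' p
  have hq : p.comap (algebraMap Γ(X, U') Γ(Y, V)) = (hU'.primeIdealOf ⟨j y, hyg⟩).asIdeal := by
    have h := congrArg PrimeSpectrum.asIdeal
      (IsAffineOpen.comap_primeIdealOf_appLE U' hU' V hV le_rfl hyg (f := j))
    rw [Scheme.Hom.appLE_eq_app] at h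
    exact h
  have hsX : j y ∈ f.smoothLocus := by
    rw [Scheme.Hom.mem_smoothLocus, formallySmooth_stalkMap_iff T hT U' hU' hgT hyg]
    have : ∀ (q : Ideal Γ(X, U')) [q.IsPrime], p.comap (algebraMap Γ(X, U') Γ(Y, V)) = q →
        Algebra.IsSmoothAt Γ(S, T) q := by
      rintro q _ rfl
      exact key
    exact this _ hq
  refine ⟨f.smoothLocus, hsX, Scheme.Hom.smoothLocus_eq_top_iff.mp ?_⟩
  rw [← Scheme.Hom.preimage_smoothLocus_eq, eq_top_iff]
  rintro ⟨z, hz⟩ -
  exact hz

end Unram17Lib
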