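import Groth.Agent.SmoothDimLib.Criterion
import Groth.Agent.FibDimLib.Formula

/-!
# In characteristic zero free differentials imply smoothness
-/

set_option autoImplicit false
set_option linter.style.haveILetI false
universe u
open TensorProduct IsLocalRing MvPolynomial

noncomputable section

namespace Unram17Lib.CharZeroFree

variable {k : Type u} [Field k] [CharZero k]

/-- In characteristic zero a proper ideal stable under the partial derivatives is zero. -/
theorem eq_bot_of_pderiv_mem {σ : Type*} (I : Ideal (MvPolynomial σ k)) (hI : I ≠ ⊤)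
    (h : ∀ f ∈ I, ∀ i, pderiv i f ∈ I) : I = ⊥ := by
  refine (Submodule.eq_bot_iff _).mpr fun f hf => ?_
  suffices H : ∀ N : ℕ, ∀ g ∈ I, (∀ m, N ≤ m.degree → coeff m g = 0) → g = 0 by
    refine H ((f.support.sup fun m => m.degree) + 1) f hf fun m hm => ?_
    by_contra h0
    have := Finset.le_sup (f := fun m : σ →₀ ℕ => m.degree) (mem_support_iff.mpr h0)
    exact absurd (hm.trans this) (Nat.not_succ_le_self _)
  intro N
  induction N with
  | zero => exact fun g _ hg => MvPolynomial.ext _ _ fun m => by simpa using hg m (Nat.zero_le _)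
  | succ N ih =>
    intro g hg hN
    have hd : ∀ i, pderiv i g = 0 := fun i => ih _ (h g hg i) fun m hm => by
      rw [coeff_pderiv, hN _ (by simp; omega), zero_mul]
    have hm : ∀ m, m ≠ 0 → coeff m g = 0 := by
      intro m hm
      obtain ⟨i, hi⟩ : ∃ i, m i ≠ 0 := not_forall.mp fun h => hm (Finsupp.ext h)
      have hsplit : (m - Finsupp.single i 1) + Finsupp.single i 1 = m :=
        tsub_add_cancel_of_le (Finsupp.single_le_iff.mpr (Nat.one_le_iff_ne_zero.mpr hi))
      have h1 := coeff_pderiv (i := i) g (m - Finsupp.single i 1)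
      rw [hd i, coeff_zero, hsplit] at h1
      exact (mul_eq_zero.mp h1.symm).resolve_right (Nat.cast_add_one_ne_zero _)
    have hC : g = C (coeff 0 g) := by
      ext m
      classical
      rw [coeff_C]
      split_ifs with h0
      · rw [h0]
      · exact hm m (Ne.symm h0)
    by_contra h0
    refine hI (Ideal.eq_top_of_isUnit_mem _ hg ?_)
    rw [hC]
    exact (Ne.isUnit fun h1 => h0 (by rw [hC, h1, map_zero])).map C

variable {A : Type u} [CommRing A] [Algebra k A] [Algebra.FiniteType k A]

/-- Free differentials of a local ring of an affine algebra imply smoothness there. -/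
theorem isSmoothAt_of_free (q : Ideal A) [q.IsPrime]
    [Module.Free (Localization.AtPrime q) Ω[Localization.AtPrime q⁄k]] : Algebra.IsSmoothAt k q := by
  classical
  let L := Localization.AtPrime q
  let K := q.ResidueField
  haveI : IsNoetherianRing A := Algebra.FiniteType.isNoetherianRing k A
  haveI : IsNoetherianRing L := IsLocalization.isNoetherianRing q.primeCompl L inferInstance
  haveI : Algebra.FormallyEtale A L := Algebra.FormallyEtale.of_isLocalization q.primeCompl
  haveI : Algebra.EssFiniteType A L := Algebra.EssFiniteType.of_isLocalization L q.primeCompl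
  haveI : Algebra.EssFiniteType k L := Algebra.EssFiniteType.comp k A L
  haveI : Module.Finite L Ω[L⁄k] := inferInstance
  let n := Module.finrank L Ω[L⁄k]
  let b := Module.finBasis L Ω[L⁄k]
  -- residue
  let ψ : K ⊗[A] Ω[A⁄k] ≃ₗ[K] K ⊗[L] Ω[L⁄k] :=
    (AlgebraTensorModule.cancelBaseChange A L K K Ω[A⁄k]).symm ≪≫ₗ
      AlgebraTensorModule.congr (LinearEquiv.refl K K) (KaehlerDifferential.tensorKaehlerEquivOfFormallyEtale k A L)
  have hψ : ∀ a : A, ψ (1 ⊗ₜ KaehlerDifferential.D k A a) = 1 ⊗ₜ KaehlerDifferential.D k L (algebraMap A L a) :=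
    fun a => by simp [ψ]
  have hrank : Module.finrank K (K ⊗[A] Ω[A⁄k]) = n := by
    rw [ψ.finrank_eq, Module.finrank_eq_card_basis (b.baseChange K), Fintype.card_fin]
  -- choose coordinates
  let φ₀ : A → K ⊗[L] Ω[L⁄k] := fun a => 1 ⊗ₜ KaehlerDifferential.D k L (algebraMap A L a)
  have hspan : Submodule.span K (Set.range φ₀) = ⊤ := by
    have h1 : Submodule.span K (Set.range fun a => (1 : K) ⊗ₜ[A] KaehlerDifferential.D k A a) = ⊤ := by
      rw [show Set.range (fun a => (1 : K) ⊗ₜ[A] KaehlerDifferential.D k A a) =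
          TensorProduct.mk A K Ω[A⁄k] 1 '' Set.range (KaehlerDifferential.D k A) by rw [← Set.range_comp]; rfl,
        ← Submodule.baseChange_span, KaehlerDifferential.span_range_derivation, Submodule.baseChange_top]
    have h2 := congrArg (Submodule.map ψ.toLinearMap) h1
    rw [Submodule.map_span, Submodule.map_top, LinearMap.range_eq_top.mpr ψ.surjective, ← Set.range_comp] at h2
    convert h2 using 3
    exact funext fun a => (hψ a).symm
  obtain ⟨s, hss, hsspan, hsli⟩ := exists_linearIndependent K (Set.range φ₀)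
  rw [hspan] at hsspan
  let sb : Module.Basis s K (K ⊗[L] Ω[L⁄k]) := Module.Basis.mk hsli (by simpa using hsspan.ge)
  let e : s ≃ Fin n := sb.indexEquiv (b.baseChange K)
  choose x hx using fun i : Fin n => hss (e.symm i).2
  let w : Fin n → Ω[L⁄k] := fun i => KaehlerDifferential.D k L (algebraMap A L (x i))
  have hw : Submodule.span L (Set.range w) = ⊤ := by
    rw [← IsLocalRing.map_tensorProduct_mk_eq_top (R := L) (M := Ω[L⁄k]), Submodule.map_span, ← Set.range_comp,
      ← Submodule.restrictScalars_span L (ResidueField L) IsLocalRing.residue_surjective]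
    have hr : Set.range (fun i => φ₀ (x i)) = s := by
      ext z
      refine ⟨?_, fun hz => ⟨e ⟨z, hz⟩, ?_⟩⟩
      · rintro ⟨i, rfl⟩
        show φ₀ (x i) ∈ s
        rw [hx i]
        exact (e.symm i).2
      · show φ₀ (x (e ⟨z, hz⟩)) = z
        rw [hx, Equiv.symm_apply_apply]
    rw [Submodule.restrictScalars_eq_top_iff]
    show Submodule.span K (Set.range fun i => φ₀ (x i)) = ⊤
    rw [hr, hsspan]
  have hwb : Function.Bijective (b.constr ℕ w) := by
    have hs : Function.Surjective (b.constr ℕ w) := by
      rw [← LinearMap.range_eq_top, Module.Basis.constr_range, hw]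
    exact ⟨OrzechProperty.injective_of_surjective_endomorphism _ hs, hs⟩
  let bw : Module.Basis (Fin n) L Ω[L⁄k] := b.map (LinearEquiv.ofBijective _ hwb)
  have hbw : ∀ i, bw i = w i := fun i => by simp [bw]
  -- the map from the polynomial ring
  let θ : MvPolynomial (Fin n) k →ₐ[k] A := aeval x
  let φ : MvPolynomial (Fin n) k →ₐ[k] L := (IsScalarTower.toAlgHom k A L).comp θ
  have hinj : Function.Injective φ := by
    rw [RingHom.injective_iff_ker_eq_bot]
    refine eq_bot_of_pderiv_mem _ (RingHom.ker_ne_top _) fun f hf i => ?_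
    rw [RingHom.mem_ker] at hf ⊢
    have key : ∀ g, φ (pderiv i g) = bw.coord i (KaehlerDifferential.D k L (φ g)) := by
      intro g
      induction g using MvPolynomial.induction_on with
      | C c => rw [pderiv_C, map_zero, AlgHom.map_algebraMap φ c |> (fun h => show φ (C c) = _ from h),
          Derivation.map_algebraMap, map_zero]
      | add p q hp hq => simp only [map_add, hp, hq]
      | mul_X p j hp =>
        rw [pderiv_mul, map_mul φ p, Derivation.leibniz, map_add, map_mul, map_mul, hp, map_add, map_smul, map_smul,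
          show φ (X j) = algebraMap A L (x j) by simp [φ, θ], show KaehlerDifferential.D k L (algebraMap A L (x j)) = bw j from (hbw j).symm,
          Module.Basis.coord_apply, Module.Basis.coord_apply, Module.Basis.repr_self, pderiv_X]
        rw [Finsupp.single_apply, Pi.single_apply]
        split_ifs <;> simp_all <;> ring
    show φ (pderiv i f) = 0
    rw [key, show φ f = 0 from hf, map_zero, map_zero]
  -- a component of dimension at least n
  obtain ⟨Q, hQmin, hQ⟩ : ∃ Q ∈ minimalPrimes L, ∀ f, φ f ∈ Q → f = 0 := by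
    by_contra hc
    push Not at hc
    have hfin := minimalPrimes.finite_of_isNoetherianRing L
    haveI := hfin.fintype
    choose g hg hg0 using fun Q : minimalPrimes L => hc Q.1 Q.2
    have hnil : φ (∏ Q, g Q) ∈ nilradical L := by
      rw [nilradical, ← Ideal.sInf_minimalPrimes, Submodule.mem_sInf]
      intro Q hQ
      rw [map_prod, ← Finset.mul_prod_erase _ _ (Finset.mem_univ (⟨Q, hQ⟩ : minimalPrimes L))]
      exact Ideal.mul_mem_right _ _ (hg ⟨Q, hQ⟩)
    obtain ⟨m, hm⟩ := hnil
    replace hm : φ ((∏ Q, g Q) ^ m) = φ 0 := by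
      rw [map_pow, map_zero]
      exact hm
    exact Finset.prod_ne_zero_iff.mpr (fun Q _ => hg0 Q) (eq_zero_of_pow_eq_zero (hinj hm))
  haveI hQp : Q.IsPrime := hQmin.1.1
  let Q₀ : PrimeSpectrum A := ⟨Q.comap (algebraMap A L), inferInstance⟩
  have hQq : Q₀ ⤳ ⟨q, ‹_›⟩ := by
    rw [← PrimeSpectrum.le_iff_specializes]
    intro a ha
    by_contra haq
    exact hQp.ne_top (Ideal.eq_top_of_isUnit_mem _ ha (IsLocalization.map_units L (⟨a, haq⟩ : q.primeCompl)))
  have hai : AlgebraicIndependent k (fun i => algebraMap A Q₀.asIdeal.ResidueField (x i)) := by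
    rw [algebraicIndependent_iff]
    intro f hf
    refine hQ f ?_
    have h1 : algebraMap A Q₀.asIdeal.ResidueField (θ f) = 0 := by
      rw [← hf]
      exact (aeval_algebraMap_apply _ x f).symm
    exact (Ideal.algebraMap_residueField_eq_zero (I := Q₀.asIdeal)).mp h1
  obtain ⟨m, hm, hm'⟩ := FibDimLib.ringKrullDim_quotient_eq_trdeg k Q₀.asIdeal
  have hnm : n ≤ m := by
    have h1 := hai.lift_cardinalMk_le_trdeg
    rw [hm'] at h1
    simpa using h1
  refine SmoothDimLib.isSmoothAt_of_finrank_le q K (Ideal.ker_algebraMap_residueField q) ?_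
  rw [hrank]
  let qS : AlgebraicGeometry.Spec (CommRingCat.of A) ⟶ AlgebraicGeometry.Spec (CommRingCat.of k) :=
    AlgebraicGeometry.Spec.map (CommRingCat.ofHom (algebraMap k A))
  haveI : AlgebraicGeometry.LocallyOfFiniteType qS := by
    rw [AlgebraicGeometry.HasRingHomProperty.Spec_iff (P := @AlgebraicGeometry.LocallyOfFiniteType)]
    exact RingHom.finiteType_algebraMap.mpr inferInstance
  refine le_trans ?_ (FibDimLib.le_localDim_of_specializes qS hQq)
  refine le_trans ?_ (le_of_eq (FibDimLib.topologicalKrullDim_closure_prime Q₀).symm)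
  rw [hm]
  exact WithBot.coe_le_coe.mpr (Nat.cast_le.mpr hnm)

end Unram17Lib.CharZeroFree

end
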