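import Groth.Agent.UnrStalkLib.Locus
import Mathlib.AlgebraicGeometry.Morphisms.Etale

/-!
# Etale morphisms through flatness and fibre rings
-/

set_option autoImplicit false
universe u
open CategoryTheory CategoryTheory.Limits AlgebraicGeometry TopologicalSpace IsLocalRing
open RichLib.UnrLocus

noncomputable section

namespace Unram17Lib

variable {X Y : Scheme.{u}} (f : X ⟶ Y)

theorem residue_conditions_congr (x : X) (J : Ideal (X.presheaf.stalk x))
    (hle : maximalIdeal (Y.presheaf.stalk (f x)) ≤ J.comap (f.stalkMap x).hom)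
    (hJ : J = maximalIdeal (X.presheaf.stalk x)) :
    (letI := (Ideal.quotientMap J (f.stalkMap x).hom hle).toAlgebra
     Module.Finite (Y.presheaf.stalk (f x) ⧸ maximalIdeal (Y.presheaf.stalk (f x))) (X.presheaf.stalk x ⧸ J) ∧
      Algebra.IsSeparable (Y.presheaf.stalk (f x) ⧸ maximalIdeal (Y.presheaf.stalk (f x))) (X.presheaf.stalk x ⧸ J)) ↔
    (letI := (f.residueFieldMap x).hom.toAlgebra
     Module.Finite (Y.residueField (f x)) (X.residueField x) ∧
      Algebra.IsSeparable (Y.residueField (f x)) (X.residueField x)) := by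
  subst hJ
  have e : Ideal.quotientMap (maximalIdeal (X.presheaf.stalk x)) (f.stalkMap x).hom hle = (f.residueFieldMap x).hom := by
    refine Ideal.Quotient.ringHom_ext (RingHom.ext fun a => ?_)
    rfl
  rw [e]
  exact Iff.rfl

theorem etale_iff_fibre_rings [LocallyOfFinitePresentation f] :
    Etale f ↔ Flat f ∧ ∀ x : X,
      letI φ := (f.stalkMap x).hom
      letI 𝔪 := maximalIdeal (Y.presheaf.stalk (f.base x))
      letI := (Ideal.quotientMap (𝔪.map φ) φ Ideal.le_comap_map).toAlgebra
      IsField (X.presheaf.stalk x ⧸ 𝔪.map φ) ∧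
        Module.Finite (Y.presheaf.stalk (f.base x) ⧸ 𝔪) (X.presheaf.stalk x ⧸ 𝔪.map φ) ∧
        Algebra.IsSeparable (Y.presheaf.stalk (f.base x) ⧸ 𝔪) (X.presheaf.stalk x ⧸ 𝔪.map φ) := by
  rw [Etale.iff_flat_and_formallyUnramified, and_iff_left ‹LocallyOfFinitePresentation f›,
    ← locus_eq_univ_iff, Set.eq_univ_iff_forall]
  refine and_congr_right fun _ => forall_congr' fun x => ?_
  rw [UnrStalkLib.mem_locus_iff_stalkMap, UnrStalkLib.stalkMap_formallyUnramified_iff]
  constructor
  · rintro ⟨hm, h⟩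
    refine ⟨?_, (residue_conditions_congr f x _ Ideal.le_comap_map hm).mpr h⟩
    rw [← Ideal.Quotient.maximal_ideal_iff_isField_quotient]
    exact hm ▸ maximalIdeal.isMaximal _
  · rintro ⟨hF, h⟩
    have hm := IsLocalRing.eq_maximalIdeal ((Ideal.Quotient.maximal_ideal_iff_isField_quotient _).mpr hF)
    exact ⟨hm, (residue_conditions_congr f x _ Ideal.le_comap_map hm).mp h⟩

end Unram17Lib

end
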