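import Groth.Agent.Unram17Lib.EtaleOrigin
import Mathlib.RingTheory.Ideal.GoingDown
import Mathlib.RingTheory.Ideal.KrullsHeightTheorem

/-!
# Etale coordinates from parameters and residue differentials
-/

set_option autoImplicit false
set_option linter.style.haveILetI false
universe u
open TensorProduct

noncomputable section

namespace Unram17Lib

theorem isPrime_span_X_lt (k : Type u) [Field k] (n j : ℕ) :
    (Ideal.span ((MvPolynomial.X : Fin n → MvPolynomial (Fin n) k) '' {i | (i : ℕ) < j})).IsPrime ∧
      ∀ i : Fin n, j ≤ (i : ℕ) → MvPolynomial.X i ∉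
        Ideal.span ((MvPolynomial.X : Fin n → MvPolynomial (Fin n) k) '' {i | (i : ℕ) < j}) := by
  let P := MvPolynomial (Fin n) k
  let φ : P →ₐ[k] P := MvPolynomial.aeval fun i => if (i : ℕ) < j then 0 else MvPolynomial.X i
  have hker : RingHom.ker φ.toRingHom = Ideal.span ((MvPolynomial.X : Fin n → P) '' {i | (i : ℕ) < j}) := by
    refine le_antisymm (fun f hf => ?_) (Ideal.span_le.mpr ?_)
    · have key : ∀ f : P, f - φ f ∈ Ideal.span ((MvPolynomial.X : Fin n → P) '' {i | (i : ℕ) < j}) := by
        intro f
        induction f using MvPolynomial.induction_on with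
        | C a =>
          have : φ (MvPolynomial.C a) = MvPolynomial.C a := φ.commutes a
          rw [this, sub_self]
          exact zero_mem _
        | add a b ha hb => rw [map_add, add_sub_add_comm]; exact add_mem ha hb
        | mul_X a i ha =>
          have : a * MvPolynomial.X i - φ (a * MvPolynomial.X i) =
              (a - φ a) * MvPolynomial.X i + φ a * (MvPolynomial.X i - φ (MvPolynomial.X i)) := by rw [map_mul]; ring
          rw [this]
          refine add_mem (Ideal.mul_mem_right _ _ ha) (Ideal.mul_mem_left _ _ ?_)
          rw [show φ (MvPolynomial.X i) = if (i : ℕ) < j then 0 else MvPolynomial.X i from MvPolynomial.aeval_X _ i]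
          split
          · rw [sub_zero]; exact Ideal.subset_span ⟨i, ‹_›, rfl⟩
          · rw [sub_self]; exact zero_mem _
      have := key f
      rwa [show φ f = 0 from hf, sub_zero] at this
    · rintro _ ⟨i, hi, rfl⟩
      show φ (MvPolynomial.X i) = 0
      rw [show φ (MvPolynomial.X i) = if (i : ℕ) < j then 0 else MvPolynomial.X i from MvPolynomial.aeval_X _ i, if_pos (show (i : ℕ) < j from hi)]
  rw [← hker]
  refine ⟨RingHom.ker_isPrime _, fun i hi h => ?_⟩
  have h' : φ (MvPolynomial.X i) = 0 := h
  rw [show φ (MvPolynomial.X i) = if (i : ℕ) < j then 0 else MvPolynomial.X i from MvPolynomial.aeval_X _ i,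
    if_neg (not_lt.mpr hi)] at h'
  exact MvPolynomial.X_ne_zero i h'

theorem height_span_X_lt (k : Type u) [Field k] (n : ℕ) : ∀ j ≤ n,
    (j : ℕ∞) ≤ (Ideal.span ((MvPolynomial.X : Fin n → MvPolynomial (Fin n) k) '' {i | (i : ℕ) < j})).height := by
  intro j
  induction j with
  | zero => intro _; simp
  | succ j ih =>
    intro hj
    let Pj := Ideal.span ((MvPolynomial.X : Fin n → MvPolynomial (Fin n) k) '' {i | (i : ℕ) < j})
    let Pj1 := Ideal.span ((MvPolynomial.X : Fin n → MvPolynomial (Fin n) k) '' {i | (i : ℕ) < j + 1})
    haveI : Pj.IsPrime := (isPrime_span_X_lt k n j).1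
    haveI : Pj1.IsPrime := (isPrime_span_X_lt k n (j + 1)).1
    have hlt : Pj < Pj1 := by
      refine lt_of_le_of_ne (Ideal.span_mono (Set.image_mono fun i hi => Nat.lt_succ_of_lt hi)) fun h => ?_
      have hmem : MvPolynomial.X (⟨j, hj⟩ : Fin n) ∈ Pj1 := Ideal.subset_span ⟨⟨j, hj⟩, Nat.lt_succ_self j, rfl⟩
      rw [← h] at hmem
      exact (isPrime_span_X_lt k n j).2 ⟨j, hj⟩ le_rfl hmem
    calc ((j + 1 : ℕ) : ℕ∞) = (j : ℕ∞) + 1 := by norm_cast
      _ ≤ Pj.height + 1 := add_le_add (ih (by omega)) le_rfl
      _ ≤ Pj1.height := Order.add_one_le_of_lt (Ideal.height_strict_mono_of_isPrime hlt)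

theorem isEtaleAt_iff_parameters (k A : Type u) [Field k]
    [CommRing A] [Algebra k A] [Algebra.FiniteType k A] (n r : ℕ) [Algebra (MvPolynomial (Fin n) k) A]
    [IsScalarTower k (MvPolynomial (Fin n) k) A] (p : Ideal A) [p.IsPrime]
    (hn : FlatMor.localDim (PrimeSpectrum A) ⟨p, inferInstance⟩ = (n : WithBot ℕ∞))
    (hr : ringKrullDim (Localization.AtPrime p) = (r : WithBot ℕ∞)) (hrn : r ≤ n)
    (hg : ∀ i : Fin n, (i : ℕ) < r → algebraMap (MvPolynomial (Fin n) k) A (MvPolynomial.X i) ∈ p) :
    Algebra.IsEtaleAt (MvPolynomial (Fin n) k) p ↔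
      Ideal.span ((fun i : Fin n =>
          algebraMap A (Localization.AtPrime p) (algebraMap (MvPolynomial (Fin n) k) A (MvPolynomial.X i))) ''
            {i : Fin n | (i : ℕ) < r}) = IsLocalRing.maximalIdeal (Localization.AtPrime p) ∧
        Submodule.span p.ResidueField ((fun i : Fin n =>
          KaehlerDifferential.D k p.ResidueField
            (IsLocalRing.residue (Localization.AtPrime p)
              (algebraMap A (Localization.AtPrime p) (algebraMap (MvPolynomial (Fin n) k) A (MvPolynomial.X i))))) ''
            {i : Fin n | r ≤ (i : ℕ)}) = ⊤ := by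
  let P := MvPolynomial (Fin n) k
  let L := Localization.AtPrime p
  let K := p.ResidueField
  let g : Fin n → L := fun i => algebraMap A L (algebraMap P A (MvPolynomial.X i))
  haveI : Algebra.EssFiniteType P A := Algebra.EssFiniteType.of_comp k P A
  haveI : IsNoetherianRing A := Algebra.FiniteType.isNoetherianRing k A
  haveI : IsNoetherianRing L := IsLocalization.isNoetherianRing p.primeCompl L inferInstance
  have hgm : ∀ i : Fin n, (i : ℕ) < r → g i ∈ IsLocalRing.maximalIdeal L := fun i hi =>
    (IsLocalization.AtPrime.to_map_mem_maximal_iff L p _).mpr (hg i hi)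
  have hsurjK : Function.Surjective (algebraMap L K) := IsLocalRing.residue_surjective
  let W : Submodule K (K ⊗[L] Ω[L⁄k]) :=
    Submodule.span K (Set.range fun i => (1 : K) ⊗ₜ KaehlerDifferential.D k L (g i))
  constructor
  · intro h
    haveI : Algebra.FormallyEtale P L := h
    refine ⟨?_, ?_⟩
    · let q0 := p.comap (algebraMap P A)
      haveI : p.LiesOver q0 := ⟨rfl⟩
      letI := Localization.AtPrime.algebraOfLiesOver q0 p
      haveI : Algebra.IsUnramifiedAt P p := (inferInstance : Algebra.FormallyUnramified P L)
      have hm := ((Algebra.isUnramifiedAt_iff_map_eq P q0 p).mp ‹_›).2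
      let M := IsLocalRing.maximalIdeal L
      haveI : M.LiesOver q0 := ⟨by
        show q0 = M.comap (algebraMap P L)
        rw [IsScalarTower.algebraMap_eq P A L, ← Ideal.comap_comap,
          show M.comap (algebraMap A L) = p from IsLocalization.AtPrime.comap_maximalIdeal L p]⟩
      haveI : Module.Flat P L := by
        haveI : Algebra.FinitePresentation k A := Algebra.FinitePresentation.of_finiteType.mp ‹_›
        haveI : Algebra.FinitePresentation P A :=
          Algebra.FinitePresentation.of_restrict_scalars_finitePresentation k _ _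
        obtain ⟨_, ⟨f, rfl⟩, hpf, hsub⟩ := PrimeSpectrum.isTopologicalBasis_basic_opens.exists_subset_of_mem_open
          (show (⟨p, inferInstance⟩ : PrimeSpectrum A) ∈ Algebra.etaleLocus P A from h) Algebra.isOpen_etaleLocus
        haveI : Algebra.Etale P (Localization.Away f) := Algebra.basicOpen_subset_etaleLocus_iff_etale.mp hsub
        have hu : IsUnit (algebraMap A L f) := IsLocalization.map_units L (⟨f, hpf⟩ : p.primeCompl)
        letI : Algebra (Localization.Away f) L := (IsLocalization.Away.lift f hu).toAlgebra
        haveI : IsScalarTower A (Localization.Away f) L := IsScalarTower.of_algebraMap_eq fun a =>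
          (IsLocalization.Away.lift_eq f hu a).symm
        haveI : IsScalarTower P (Localization.Away f) L := IsScalarTower.of_algebraMap_eq fun a => by
          rw [IsScalarTower.algebraMap_apply P A (Localization.Away f), ← IsScalarTower.algebraMap_apply A,
            ← IsScalarTower.algebraMap_apply P A L]
        haveI := IsLocalization.isLocalization_of_submonoid_le (Localization.Away f) L (Submonoid.powers f) p.primeCompl
          (Submonoid.powers_le.mpr hpf)
        haveI : Module.Flat (Localization.Away f) L :=
          IsLocalization.flat L (p.primeCompl.map (algebraMap A (Localization.Away f)))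
        exact Module.Flat.trans P (Localization.Away f) L
      have hq : q0.height ≤ (r : ℕ∞) := by
        have h1 := Ideal.height_eq_height_add_of_liesOver_of_hasGoingDown (R := P) (S := L) q0 M
        have h2 : M.height = (r : ℕ∞) := by
          have h3 : (M.height : WithBot ℕ∞) = ringKrullDim L := IsLocalRing.maximalIdeal_height_eq_ringKrullDim
          rw [hr] at h3
          exact_mod_cast h3
        rw [← h2, h1]
        exact le_self_add
      let P0 := Ideal.span ((MvPolynomial.X : Fin n → P) '' {i | (i : ℕ) < r})
      haveI : P0.IsPrime := (isPrime_span_X_lt k n r).1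
      have hle : P0 ≤ q0 := Ideal.span_le.mpr (by rintro _ ⟨i, hi, rfl⟩; exact hg i hi)
      have heq : P0 = q0 := by
        by_contra hne
        have h1 := (height_span_X_lt k n r hrn).trans_lt (Ideal.height_strict_mono_of_isPrime (lt_of_le_of_ne hle hne))
        exact absurd (h1.trans_le hq) (lt_irrefl _)
      show Ideal.span (g '' {i : Fin n | (i : ℕ) < r}) = M
      rw [show M = q0.map (algebraMap P L) from hm.symm, ← heq, Ideal.map_span, ← Set.image_comp]
      congr 1
    · rw [eq_top_iff]
      rintro z -
      obtain ⟨w, rfl⟩ := KaehlerDifferential.map_surjective_of_surjective (R := k) (S := k) (A := L) (B := K) hsurjK z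
      have hw : w ∈ Submodule.span L (Set.range fun i => KaehlerDifferential.D k L (g i)) := by
        obtain ⟨y, rfl⟩ := (KaehlerDifferential.exact_mapBaseChange_map k P L w).mp (Subsingleton.elim _ _)
        induction y using TensorProduct.induction_on with
        | zero => rw [map_zero]; exact zero_mem _
        | add a b ha hb => rw [map_add]; exact add_mem ha hb
        | tmul c ω =>
          rw [KaehlerDifferential.mapBaseChange_tmul]
          refine Submodule.smul_mem _ c ?_
          have hω : ω ∈ Submodule.span P (Set.range fun i => KaehlerDifferential.D k P (MvPolynomial.X i)) := by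
            have h := (KaehlerDifferential.mvPolynomialBasis k (Fin n)).span_eq
            have he : ⇑(KaehlerDifferential.mvPolynomialBasis k (Fin n)) =
                fun i => KaehlerDifferential.D k P (MvPolynomial.X i) :=
              funext fun i => KaehlerDifferential.mvPolynomialBasis_apply (R := k) (Fin n) i
            rw [he] at h
            rw [h]
            exact Submodule.mem_top
          induction hω using Submodule.span_induction with
          | mem x hx =>
            obtain ⟨i, rfl⟩ := hx
            rw [KaehlerDifferential.map_D, IsScalarTower.algebraMap_apply P A L]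
            exact Submodule.subset_span ⟨i, rfl⟩
          | zero => rw [map_zero]; exact zero_mem _
          | add a b _ _ ha hb => rw [map_add]; exact add_mem ha hb
          | smul c a _ ha => rw [map_smul, ← algebraMap_smul L c]; exact Submodule.smul_mem _ _ ha
      induction hw using Submodule.span_induction with
      | mem x hx =>
        obtain ⟨i, rfl⟩ := hx
        rw [KaehlerDifferential.map_D]
        rcases lt_or_ge (i : ℕ) r with hi | hi
        · rw [show algebraMap L K (g i) = 0 from (IsLocalRing.residue_eq_zero_iff _).mpr (hgm i hi), map_zero]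
          exact zero_mem _
        · exact Submodule.subset_span ⟨i, hi, rfl⟩
      | zero => rw [map_zero]; exact zero_mem _
      | add a b _ _ ha hb => rw [map_add]; exact add_mem (ha) (hb)
      | smul c a _ ha => rw [map_smul, ← algebraMap_smul K c]; exact Submodule.smul_mem _ _ (ha)
  · rintro ⟨hm, hres⟩
    have hD : ∀ y ∈ IsLocalRing.maximalIdeal L, (1 : K) ⊗ₜ KaehlerDifferential.D k L y ∈ W := by
      intro y hy
      have h0 : ∀ x ∈ IsLocalRing.maximalIdeal L, ∀ m : K ⊗[L] Ω[L⁄k], x • m = 0 := fun x hx m => by
        rw [← algebraMap_smul K x m, show algebraMap L K x = 0 from (IsLocalRing.residue_eq_zero_iff _).mpr hx, zero_smul]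
      rw [← hm] at hy
      induction hy using Submodule.span_induction with
      | mem x hx => obtain ⟨i, -, rfl⟩ := hx; exact Submodule.subset_span ⟨i, rfl⟩
      | zero => rw [map_zero, tmul_zero]; exact zero_mem _
      | add a b _ _ ha hb => rw [map_add, tmul_add]; exact add_mem ha hb
      | smul c a hmem ha =>
        rw [smul_eq_mul, Derivation.leibniz, tmul_add, tmul_smul, tmul_smul]
        rw [h0 a (hm ▸ hmem), add_zero]
        exact Submodule.smul_of_tower_mem _ c ha
    have hW : W = ⊤ := by
      refine eq_top_iff.mpr fun x _ => ?_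
      have hx : KaehlerDifferential.mapBaseChange k L K x ∈ W.map (KaehlerDifferential.mapBaseChange k L K) := by
        refine (Submodule.span_le.mpr ?_) (hres.ge (Submodule.mem_top (x := KaehlerDifferential.mapBaseChange k L K x)))
        rintro _ ⟨i, -, rfl⟩
        refine ⟨1 ⊗ₜ KaehlerDifferential.D k L (g i), Submodule.subset_span ⟨i, rfl⟩, ?_⟩
        rw [KaehlerDifferential.mapBaseChange_tmul, one_smul, KaehlerDifferential.map_D]
        rfl
      obtain ⟨w, hw, hwx⟩ := hx
      obtain ⟨c, hc⟩ := (KaehlerDifferential.exact_kerCotangentToTensor_mapBaseChange k L K hsurjK (x - w)).mp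
        (by rw [map_sub, hwx, sub_self])
      obtain ⟨⟨y, hy⟩, rfl⟩ := Ideal.toCotangent_surjective _ c
      rw [KaehlerDifferential.kerCotangentToTensor_toCotangent] at hc
      have := add_mem (hc ▸ hD y ((IsLocalRing.residue_eq_zero_iff y).mp hy) : x - w ∈ W) hw
      rwa [sub_add_cancel] at this
    have hK : RingHom.ker (algebraMap A K) = p := Ideal.ker_algebraMap_residueField p
    let e := SmoothDimLib.tensorKaehlerLocEquiv (k := k) A L p.primeCompl K
    have hle : Module.finrank K (K ⊗[A] Ω[A⁄k]) ≤ n := by
      rw [e.finrank_eq, ← finrank_top, ← hW]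
      exact (finrank_range_le_card _).trans_eq (Fintype.card_fin n)
    haveI hsm : Algebra.IsSmoothAt k p := SmoothDimLib.isSmoothAt_of_finrank_le p K hK (by
      rw [hn]
      exact WithBot.coe_le_coe.mpr (Nat.cast_le.mpr hle))
    haveI : Algebra.FormallySmooth k L := hsm
    obtain ⟨_, -, -, -, hdim⟩ := SmoothDimLib.exists_chart (k := k) p K hK
    have heq : Module.finrank K (K ⊗[A] Ω[A⁄k]) = n := by
      have h := hdim.symm.trans hn
      exact_mod_cast h
    haveI : Module.Free L Ω[L⁄k] := Module.free_of_flat_of_isLocalRing
    have hL : Module.finrank L Ω[L⁄k] = n := by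
      rw [← heq, e.finrank_eq, Module.finrank_baseChange]
    refine formallyEtale_mvPolynomial_of_surjective k L n hL ?_
    rw [← LinearMap.range_eq_top, ← IsLocalRing.map_tensorProduct_mk_eq_top]
    refine eq_top_iff.mpr fun z _ => ?_
    have hz : z ∈ W := hW ▸ Submodule.mem_top
    induction hz using Submodule.span_induction with
    | mem x hx =>
      obtain ⟨i, rfl⟩ := hx
      refine ⟨KaehlerDifferential.D k L (algebraMap P L (MvPolynomial.X i)),
        ⟨1 ⊗ₜ KaehlerDifferential.D k P (MvPolynomial.X i), ?_⟩, ?_⟩
      · rw [KaehlerDifferential.mapBaseChange_tmul, one_smul, KaehlerDifferential.map_D]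
      · rw [IsScalarTower.algebraMap_apply P A L]
        rfl
    | zero => exact zero_mem _
    | add x y _ _ hx hy => exact add_mem (hx trivial) (hy trivial)
    | smul c x _ hx =>
      obtain ⟨c, rfl⟩ := IsLocalRing.residue_surjective c
      exact Submodule.smul_mem _ c (hx trivial)

end Unram17Lib

namespace Unram17Lib

theorem ringKrullDim_atPrime_le_localDim {A : Type u} [CommRing A] (p : Ideal A) [p.IsPrime] :
    ringKrullDim (Localization.AtPrime p) ≤ FlatMor.localDim (PrimeSpectrum A) ⟨p, inferInstance⟩ := by
  obtain ⟨U, hU, hd⟩ := FibDimLib.exists_open_localDim (⟨p, inferInstance⟩ : PrimeSpectrum A)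
  rw [← hd, ← PrimeSpectrum.topologicalKrullDim_eq_ringKrullDim]
  have hmem : ∀ z : PrimeSpectrum (Localization.AtPrime p),
      PrimeSpectrum.comap (algebraMap A (Localization.AtPrime p)) z ∈ U := fun z => by
    refine ((PrimeSpectrum.le_iff_specializes _ _).mp ?_).mem_open U.isOpen hU
    show z.asIdeal.comap (algebraMap A (Localization.AtPrime p)) ≤ p
    calc z.asIdeal.comap (algebraMap A (Localization.AtPrime p))
        ≤ (IsLocalRing.maximalIdeal (Localization.AtPrime p)).comap (algebraMap A (Localization.AtPrime p)) :=
          Ideal.comap_mono (IsLocalRing.le_maximalIdeal z.isPrime.ne_top)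
      _ = p := IsLocalization.AtPrime.comap_maximalIdeal _ p
  exact ((PrimeSpectrum.localization_comap_isEmbedding (Localization.AtPrime p) p.primeCompl).isInducing.codRestrict
    (s := (U : Set (PrimeSpectrum A))) hmem).topologicalKrullDim_le

end Unram17Lib
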