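import Mathlib

/-!
# Irreducible components under flat quasi-finite morphisms
-/

set_option autoImplicit false
universe u
open CategoryTheory AlgebraicGeometry TopologicalSpace

namespace Unram17Lib.QFComponents

/-- A point with closure an irreducible component has no proper generization. -/
theorem eq_of_specializes {α : Type*} [TopologicalSpace α] [T0Space α] {x z : α}
    (hx : closure ({x} : Set α) ∈ irreducibleComponents α) (h : z ⤳ x) : z = x :=
  h.antisymm (specializes_iff_mem_closure.mpr
    (hx.2 isIrreducible_singleton.closure (closure_minimal (Set.singleton_subset_iff.mpr h.mem_closure) isClosed_closure)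
      (subset_closure rfl))) |>.eq

theorem closure_mem_irreducibleComponents {α : Type*} [TopologicalSpace α] [QuasiSober α] {x : α}
    (h : ∀ z, z ⤳ x → z = x) : closure ({x} : Set α) ∈ irreducibleComponents α := by
  refine ⟨isIrreducible_singleton.closure, fun Z hZ hxZ => ?_⟩
  obtain ⟨z, hz⟩ := QuasiSober.sober hZ.closure isClosed_closure
  have : z ⤳ x := hz.specializes (subset_closure (hxZ (subset_closure rfl)))
  rw [h z this] at hz
  exact subset_closure.trans hz.def.ge

variable {X Y : Scheme.{u}} (f : X ⟶ Y) [Flat f] [LocallyQuasiFinite f]

/-- Generic points of components map to generic points of components. -/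
theorem closure_image_mem [LocallyOfFiniteType f] {x : X} (hx : closure ({x} : Set X) ∈ irreducibleComponents X) :
    closure ({f x} : Set Y) ∈ irreducibleComponents Y := by
  refine closure_mem_irreducibleComponents fun w hw => ?_
  obtain ⟨z, hz, rfl⟩ := Flat.generalizingMap f hw
  rw [eq_of_specializes hx hz]

/-- No proper generization inside a fibre. -/
theorem eq_of_specializes_of_eq {x z : X} (h : z ⤳ x) (he : f z = f x) : z = x := by
  have hd := (f.isDiscrete_preimage_singleton (f x)).to_subtype
  haveI := hd
  have h' : (⟨z, he⟩ : f ⁻¹' {f x}) ⤳ (⟨x, rfl⟩ : f ⁻¹' {f x}) := (subtype_specializes_iff _ _).mpr h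
  exact congrArg Subtype.val h'.eq

end Unram17Lib.QFComponents
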