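import Groth.Agent.Unram17Lib.SmoothNormal
import Mathlib.RingTheory.QuasiFinite.Basic
import Mathlib.RingTheory.LocalProperties.IntegrallyClosed
import Mathlib.RingTheory.Ideal.GoingUp
import Mathlib.RingTheory.Localization.Away.Lemmas
import Mathlib.RingTheory.Etale.Basic
import Mathlib.RingTheory.Flat.TorsionFree

/-!
# Finite etale algebras over normal domains and composita
-/

set_option autoImplicit false
set_option linter.style.haveILetI false
universe u
open TensorProduct

namespace Unram17Lib.Compositum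

variable {R T : Type u} [CommRing R] [IsDomain R] [IsIntegrallyClosed R] [CommRing T] [Algebra R T]
  [Algebra.Etale R T] [Module.Finite R T]

variable (R) in
include R in
theorem isDomain_isIntegrallyClosed_localization (Q : Ideal T) [Q.IsPrime] :
    IsDomain (Localization.AtPrime Q) ∧ IsIntegrallyClosed (Localization.AtPrime Q) :=
  Unram17Lib.normal_localization_of_smooth R T Q
    ⟨inferInstance, isIntegrallyClosed_of_isLocalization _ (Q.comap (algebraMap R T)).primeCompl
      (Q.comap (algebraMap R T)).primeCompl_le_nonZeroDivisors⟩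

/-- A prime over zero inside a given prime is the kernel of the localization. -/
theorem ker_localization_eq (P Q : Ideal T) [P.IsPrime] [Q.IsPrime] (hPQ : P ≤ Q)
    (hP : P.comap (algebraMap R T) = ⊥) :
    RingHom.ker (algebraMap T (Localization.AtPrime Q)) = P := by
  haveI := (isDomain_isIntegrallyClosed_localization R Q).1
  haveI := RingHom.ker_isPrime (algebraMap T (Localization.AtPrime Q))
  have hle : RingHom.ker (algebraMap T (Localization.AtPrime Q)) ≤ P := by
    intro x hx
    obtain ⟨⟨u, hu⟩, hux⟩ := (IsLocalization.map_eq_zero_iff Q.primeCompl _ x).1 hx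
    exact ((Ideal.IsPrime.mem_or_mem ‹_› (hux ▸ P.zero_mem : u * x ∈ P)).resolve_left
      fun h => hu (hPQ h))
  refine le_antisymm hle fun x hx => ?_
  by_contra h
  exact (Ideal.comap_lt_comap_of_integral_mem_sdiff hle ⟨hx, h⟩
    (Algebra.IsIntegral.isIntegral (R := R) x)).ne
    (le_antisymm (Ideal.comap_mono hle) (hP ▸ bot_le))

theorem comap_ker_localization (Q : Ideal T) [Q.IsPrime] :
    (RingHom.ker (algebraMap T (Localization.AtPrime Q))).comap (algebraMap R T) = ⊥ := by
  refine le_antisymm (fun a ha => ?_) bot_le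
  obtain ⟨⟨u, hu⟩, hua⟩ := (IsLocalization.map_eq_zero_iff Q.primeCompl _ _).1 ha
  by_contra h0
  have ha0 : a ≠ 0 := h0
  apply hu
  have h1 : a • u = 0 := by rw [Algebra.smul_def, mul_comm]; exact hua
  rw [(smul_eq_zero_iff_right ha0).1 h1]
  exact Q.zero_mem

/-- The quotient of a finite etale algebra over a normal domain by a prime over zero is finite etale
and integrally closed. -/
theorem etale_and_isIntegrallyClosed_quotient (P : Ideal T) [P.IsPrime]
    (hP : P.comap (algebraMap R T) = ⊥) :
    Algebra.Etale R (T ⧸ P) ∧ IsIntegrallyClosed (T ⧸ P) := by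
  classical
  constructor
  · let S := (Algebra.QuasiFinite.finite_primesOver (S := T) (⊥ : Ideal R)).toFinset.erase P
    have hS : ∀ K ∈ S, K ≠ P ∧ K.IsPrime ∧ K.comap (algebraMap R T) = ⊥ := fun K hK => by
      obtain ⟨h1, h2⟩ := Finset.mem_erase.1 hK
      obtain ⟨h3, h4⟩ := (Set.Finite.mem_toFinset _).1 h2
      exact ⟨h1, h3, h4.over.symm⟩
    have htop : P ⊔ S.inf id = ⊤ := by
      by_contra h
      obtain ⟨Q, hQ, hle⟩ := Ideal.exists_le_maximal _ h
      haveI := hQ.isPrime
      obtain ⟨K, hK, hKQ⟩ := (Ideal.IsPrime.inf_le' ‹Q.IsPrime›).1 (le_sup_right.trans hle)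
      obtain ⟨hne, hKp, hK0⟩ := hS K hK
      haveI := hKp
      exact hne ((ker_localization_eq K Q hKQ hK0).symm.trans
        (ker_localization_eq P Q (le_sup_left.trans hle) hP))
    have hzero : ∀ x : T, x ∈ P → (∀ K ∈ S, x ∈ K) → x = 0 := by
      intro x hxP hxS
      refine eq_zero_of_localization x fun Q hQ => ?_
      haveI := hQ.isPrime
      haveI := (isDomain_isIntegrallyClosed_localization R Q).1
      let K := RingHom.ker (algebraMap T (Localization.AtPrime Q))
      haveI : K.IsPrime := RingHom.ker_isPrime _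
      change x ∈ K
      by_cases hKP : K = P
      · exact hKP ▸ hxP
      · refine hxS K (Finset.mem_erase.2 ⟨hKP, (Set.Finite.mem_toFinset _).2 ⟨inferInstance, ⟨?_⟩⟩⟩)
        exact (comap_ker_localization Q).symm
    obtain ⟨p, hp, e, he, hpe⟩ := Submodule.mem_sup.1 (htop ▸ Submodule.mem_top : (1 : T) ∈ P ⊔ S.inf id)
    have heS : ∀ K ∈ S, e ∈ K := fun K hK => (Finset.inf_le hK : S.inf id ≤ K) he
    have hPe : ∀ y ∈ P, y * e = 0 := fun y hy =>
      hzero _ (P.mul_mem_right e hy) fun K hK => K.mul_mem_left y (heS K hK)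
    have hidem : IsIdempotentElem e := by
      have := hPe p hp
      have hp' : p = 1 - e := eq_sub_of_add_eq hpe
      rw [hp', sub_mul, one_mul, sub_eq_zero] at this
      exact this.symm
    have hspan : P = Ideal.span {1 - e} := by
      refine le_antisymm (fun y hy => Ideal.mem_span_singleton.2 ⟨y, ?_⟩) ?_
      · rw [sub_mul, one_mul, mul_comm e, hPe y hy, sub_zero]
      · rw [Ideal.span_le, Set.singleton_subset_iff, SetLike.mem_coe, ← eq_sub_of_add_eq hpe]
        exact hp
    haveI : IsLocalization.Away e (T ⧸ P) := by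
      rw [hspan]
      exact IsLocalization.Away.quotient_of_isIdempotentElem hidem
    haveI : Algebra.Etale T (T ⧸ P) := Algebra.Etale.of_isLocalizationAway e
    exact Algebra.Etale.comp R T (T ⧸ P)
  · refine IsIntegrallyClosed.of_localization_maximal fun Q _ hQ => ?_
    haveI := hQ.isPrime
    let Q' := Q.comap (Ideal.Quotient.mk P)
    haveI : Q'.IsPrime := Ideal.comap_isPrime _ Q
    obtain ⟨_, _⟩ := isDomain_isIntegrallyClosed_localization R Q'
    have hPQ : P ≤ Q' := fun x hx => by
      rw [Ideal.mem_comap, Ideal.Quotient.eq_zero_iff_mem.2 hx]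
      exact Q.zero_mem
    refine IsIntegrallyClosed.of_equiv (RingEquiv.ofBijective
      (Localization.localRingHom Q' Q (Ideal.Quotient.mk P) rfl) ⟨?_, ?_⟩)
    · rw [injective_iff_map_eq_zero]
      intro z hz
      obtain ⟨x, s, rfl⟩ := IsLocalization.exists_mk'_eq Q'.primeCompl z
      rw [Localization.localRingHom_mk', IsLocalization.mk'_eq_zero_iff] at hz
      obtain ⟨⟨c, hc⟩, hcx⟩ := hz
      obtain ⟨c, rfl⟩ := Ideal.Quotient.mk_surjective c
      rw [← map_mul, Ideal.Quotient.eq_zero_iff_mem] at hcx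
      have hx : x ∈ P := (Ideal.IsPrime.mem_or_mem ‹_› hcx).resolve_left fun h => hc (by
        rw [Ideal.Quotient.eq_zero_iff_mem.2 h]; exact Q.zero_mem)
      rw [IsLocalization.mk'_eq_mul_mk'_one, RingHom.mem_ker.1
        ((ker_localization_eq P Q' hPQ hP).ge hx), zero_mul]
    · intro z
      obtain ⟨x, ⟨s, hs⟩, rfl⟩ := IsLocalization.exists_mk'_eq Q.primeCompl z
      obtain ⟨x, rfl⟩ := Ideal.Quotient.mk_surjective x
      obtain ⟨s, rfl⟩ := Ideal.Quotient.mk_surjective s
      exact ⟨IsLocalization.mk' _ x (⟨s, hs⟩ : Q'.primeCompl), by rw [Localization.localRingHom_mk']⟩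

/-- Integral closure in a compositum with a field whose integral closure is finite etale. -/
theorem integralClosure_compositum (A A' L L₁ : Type u) [CommRing A] [IsDomain A] [CommRing A']
    [IsDomain A'] [IsIntegrallyClosed A'] [Algebra A A'] [Field L] [Algebra A L]
    [Algebra.IsAlgebraic A L] (hinj : Function.Injective (algebraMap A L))
    [Algebra.Etale A ↥(integralClosure A L)]
    [Field L₁] [Algebra A' L₁] [Algebra L L₁] [Algebra A L₁] [IsScalarTower A A' L₁] [IsScalarTower A L L₁]
    (hinj' : Function.Injective (algebraMap A' L₁))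
    (hgen : Subfield.closure (Set.range (algebraMap A' L₁) ∪ Set.range (algebraMap L L₁)) = ⊤) :
    Algebra.Etale A' ↥(integralClosure A' L₁) ∧
      integralClosure A' L₁ = Algebra.adjoin A' ((algebraMap L L₁) '' {x : L | IsIntegral A x}) := by
  haveI : Algebra.IsIntegral A (integralClosure A L) := ⟨integralClosure.isIntegral⟩
  haveI : Module.Finite A (integralClosure A L) := Algebra.IsIntegral.finite
  let g : integralClosure A L →ₐ[A] L₁ :=
    (IsScalarTower.toAlgHom A L L₁).comp (integralClosure A L).val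
  let ν : A' ⊗[A] integralClosure A L →ₐ[A'] L₁ :=
    Algebra.TensorProduct.lift (Algebra.ofId A' L₁) g fun _ _ => mul_comm _ _
  haveI : (RingHom.ker ν).IsPrime := RingHom.ker_isPrime _
  have hP : (RingHom.ker ν).comap (algebraMap A' (A' ⊗[A] integralClosure A L)) = ⊥ := by
    refine le_antisymm (fun a ha => hinj' ?_) bot_le
    rw [map_zero, ← ν.commutes a]
    exact ha
  obtain ⟨_, _⟩ := etale_and_isIntegrallyClosed_quotient (R := A') (RingHom.ker ν) hP
  let B := ν.range
  let eB : ((A' ⊗[A] integralClosure A L) ⧸ RingHom.ker ν) ≃ₐ[A'] B :=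
    (Ideal.quotientKerEquivRange ν)
  haveI : Algebra.Etale A' B :=
    Algebra.Etale.of_equiv (A := (A' ⊗[A] integralClosure A L) ⧸ RingHom.ker ν) eB
  haveI : IsIntegrallyClosed B := IsIntegrallyClosed.of_equiv (R := (A' ⊗[A] integralClosure A L) ⧸ RingHom.ker ν) eB.toRingEquiv
  have hgB : ∀ c, g c ∈ B := fun c => ⟨1 ⊗ₜ c, by simp [ν]⟩
  haveI : IsFractionRing B L₁ := by
    refine IsFractionRing.of_field (R := B) (K := L₁) fun z => ?_
    let K := (IsFractionRing.lift (A := B) (K := FractionRing B) (g := algebraMap B L₁)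
      Subtype.val_injective : FractionRing B →+* L₁).fieldRange
    have hK : ∀ b : B, (b : L₁) ∈ K := fun b =>
      ⟨algebraMap B _ b, IsFractionRing.lift_algebraMap _ b⟩
    have hz : z ∈ K := by
      refine (Subfield.closure_le (t := K)).2 ?_ (hgen ▸ Subfield.mem_top z)
      rintro _ (⟨a, rfl⟩ | ⟨l, rfl⟩)
      · exact hK ⟨_, B.algebraMap_mem a⟩
      · obtain ⟨y, hy, hint⟩ := (Algebra.IsAlgebraic.isAlgebraic (R := A) l).exists_integral_multiple
        have hy' : algebraMap A L₁ y ≠ 0 := by
          rw [IsScalarTower.algebraMap_apply A L L₁, map_ne_zero]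
          exact (map_ne_zero_iff _ hinj).2 hy
        have h1 : algebraMap L L₁ (y • l) ∈ K := hK ⟨_, hgB ⟨y • l, hint⟩⟩
        have h2 : algebraMap A L₁ y ∈ K := by
          rw [IsScalarTower.algebraMap_apply A A' L₁]
          exact hK ⟨_, B.algebraMap_mem _⟩
        rw [show algebraMap L L₁ l = (algebraMap A L₁ y)⁻¹ * algebraMap L L₁ (y • l) by
          rw [Algebra.smul_def, map_mul, ← IsScalarTower.algebraMap_apply,
            inv_mul_cancel_left₀ hy']]
        exact K.mul_mem (K.inv_mem h2) h1
    obtain ⟨w, rfl⟩ := hz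
    obtain ⟨x, y, -, rfl⟩ := IsFractionRing.div_surjective (A := B) w
    exact ⟨x, y, by rw [map_div₀, IsFractionRing.lift_algebraMap, IsFractionRing.lift_algebraMap]⟩
  have heq : integralClosure A' L₁ = B := by
    refine le_antisymm (fun x hx => ?_) ?_
    · obtain ⟨y, hy⟩ := (IsIntegrallyClosed.isIntegral_iff (R := B) (K := L₁)).1
        (IsIntegral.tower_top (A := B) (show IsIntegral A' x from hx))
      exact hy ▸ y.2
    · rintro _ ⟨t, rfl⟩
      exact IsIntegral.map ν (Algebra.IsIntegral.isIntegral t)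
  refine ⟨heq ▸ ‹Algebra.Etale A' B›, ?_⟩
  rw [heq]
  refine le_antisymm ?_ (Algebra.adjoin_le ?_)
  · rintro _ ⟨t, rfl⟩
    change ν t ∈ _
    induction t using TensorProduct.induction_on with
    | zero => rw [map_zero]; exact zero_mem _
    | tmul a c =>
      rw [show a ⊗ₜ[A] c = a • ((1 : A') ⊗ₜ[A] c) by rw [smul_tmul', smul_eq_mul, mul_one], map_smul]
      refine Subalgebra.smul_mem _ (Algebra.subset_adjoin ?_) a
      exact ⟨c, c.2, by simp [ν, g]⟩
    | add s t hs ht => rw [map_add]; exact add_mem hs ht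
  · rintro _ ⟨l, hl, rfl⟩
    exact hgB ⟨l, hl⟩

end Unram17Lib.Compositum
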