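import Groth.Agent.CohCmpLib.ConormalChart
import Groth.Agent.DevissLib.Stalk
import Mathlib.LinearAlgebra.TensorProduct.Quotient
import Mathlib.RingTheory.Nakayama

/-!
# Vanishing of the conormal sheaf
-/

set_option autoImplicit false
set_option linter.style.haveILetI false
universe u
open CategoryTheory CategoryTheory.Limits AlgebraicGeometry TopologicalSpace Opposite TensorProduct

noncomputable section

namespace Unram17Lib

theorem subsingleton_stalk_congr {X : Scheme.{u}} {M N : X.Modules} (e : M ≅ N) (x : X) :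
    Subsingleton (M.presheaf.stalk x) ↔ Subsingleton (N.presheaf.stalk x) := by
  have h : x ∈ CohB1.support M ↔ x ∈ CohB1.support N := by rw [DevissLib.support_iso e]
  exact not_iff_not.mp h

theorem subsingleton_stalk_pullback_openImm {X Y : Scheme.{u}} (a : X ⟶ Y) [IsOpenImmersion a]
    (M : Y.Modules) (x : X) :
    Subsingleton (((Scheme.Modules.pullback a).obj M).presheaf.stalk x) ↔ Subsingleton (M.presheaf.stalk (a x)) := by
  rw [← subsingleton_stalk_congr ((Scheme.Modules.restrictFunctorIsoPullback a).app M) x]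
  exact ((Scheme.Modules.restrictStalkNatIso a x).app M).addCommGroupIsoToAddEquiv.toEquiv.subsingleton_congr

theorem subsingleton_tilde_stalk_iff {R : CommRingCat.{u}} (M : ModuleCat.{u} R) (x : Spec R) :
    Subsingleton ((tilde M).presheaf.stalk x) ↔ ∀ m : M, ∃ s ∉ x.asIdeal, s • m = 0 := by
  let f := (tilde.toStalk M x).hom
  constructor
  · intro h m
    obtain ⟨⟨s, hs⟩, hsm⟩ := (IsLocalizedModule.eq_zero_iff x.asIdeal.primeCompl f).mp (@Subsingleton.elim _ h (f m) 0)
    exact ⟨s, hs, hsm⟩
  · intro h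
    refine subsingleton_of_forall_eq 0 fun z => ?_
    obtain ⟨⟨m, s⟩, rfl⟩ := IsLocalizedModule.mk'_surjective x.asIdeal.primeCompl f z
    obtain ⟨t, ht, htm⟩ := h m
    exact (IsLocalizedModule.mk'_eq_zero' f s).mpr ⟨⟨t, ht⟩, htm⟩

/-- For a finitely generated kernel, `I / I²` vanishes at a prime exactly when `I` does. -/
theorem kernel_zero_at_iff {B A : Type u} [CommRing B] [CommRing A] [Algebra B A]
    (hs : Function.Surjective (algebraMap B A)) (hfg : (RingHom.ker (algebraMap B A)).FG)
    (p : Ideal A) [p.IsPrime] :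
    (∀ m : A ⊗[B] RingHom.ker (algebraMap B A), ∃ s ∉ p, s • m = 0) ↔
      ∃ g ∉ p.comap (algebraMap B A), ∀ x ∈ RingHom.ker (algebraMap B A), g * x = 0 := by
  classical
  let I := RingHom.ker (algebraMap B A)
  constructor
  · intro h
    let eA : (B ⧸ I) ≃ₐ[B] A := Ideal.quotientKerAlgEquivOfSurjective (f := Algebra.ofId B A) hs
    let Φ : A ⊗[B] I ≃ₗ[B] I ⧸ (I • (⊤ : Submodule B I)) :=
      (TensorProduct.congr eA.symm.toLinearEquiv (LinearEquiv.refl B I)) ≪≫ₗ quotTensorEquivQuotSMul I I
    have key : ∀ x : I, ∃ t ∉ p.comap (algebraMap B A), t * (x : B) ∈ I * I := by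
      intro x
      obtain ⟨s, hsp, hsx⟩ := h ((1 : A) ⊗ₜ x)
      obtain ⟨t, rfl⟩ := hs s
      refine ⟨t, hsp, ?_⟩
      rw [algebraMap_smul] at hsx
      have h1 : Φ (t • ((1 : A) ⊗ₜ[B] x)) = 0 := by rw [hsx, map_zero]
      have h2 : Φ ((1 : A) ⊗ₜ[B] x) = Submodule.Quotient.mk x := by
        simp only [Φ, LinearEquiv.trans_apply, TensorProduct.congr_tmul, AlgEquiv.toLinearEquiv_apply, map_one,
          LinearEquiv.refl_apply]
        exact quotTensorEquivQuotSMul_mk_tmul I 1 x |>.trans (by rw [one_smul])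
      rw [map_smul, h2, ← Submodule.Quotient.mk_smul, Submodule.Quotient.mk_eq_zero] at h1
      have h3 := Submodule.mem_map_of_mem (f := I.subtype) h1
      rw [Submodule.map_smul'', Submodule.map_top, Submodule.range_subtype] at h3
      exact h3
    let q := p.comap (algebraMap B A)
    let L := Localization.AtPrime q
    have hIq : I ≤ q := fun x hx => by
      show algebraMap B A x ∈ p
      rw [RingHom.mem_ker.mp hx]
      exact zero_mem p
    have hbot : I.map (algebraMap B L) = ⊥ := by
      refine Submodule.eq_bot_of_le_smul_of_le_jacobson_bot (I.map (algebraMap B L)) _ (hfg.map _) ?_ ?_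
      · rw [smul_eq_mul, ← Ideal.map_mul]
        refine Ideal.map_le_iff_le_comap.mpr fun x hx => ?_
        obtain ⟨t, ht, htx⟩ := key ⟨x, hx⟩
        rw [Ideal.mem_comap]
        have hu : IsUnit (algebraMap B L t) := IsLocalization.map_units L (⟨t, ht⟩ : q.primeCompl)
        refine (Ideal.unit_mul_mem_iff_mem _ hu).mp ?_
        rw [← map_mul]
        exact Ideal.mem_map_of_mem _ htx
      · refine le_trans ?_ (IsLocalRing.maximalIdeal_le_jacobson _)
        rw [← Localization.AtPrime.map_eq_maximalIdeal]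
        exact Ideal.map_mono hIq
    have hz : ∀ x ∈ I, ∃ t ∉ q, t * x = 0 := fun x hx => by
      have h0 : algebraMap B L x = 0 := by
        have := Ideal.mem_map_of_mem (algebraMap B L) hx
        rwa [hbot] at this
      obtain ⟨⟨t, ht⟩, htx⟩ := (IsLocalization.map_eq_zero_iff q.primeCompl L x).mp h0
      exact ⟨t, ht, htx⟩
    obtain ⟨S, hS⟩ := hfg
    choose! t ht htx using hz
    refine ⟨∏ x ∈ S, t x, fun hmem => ?_, fun x hx => ?_⟩
    · obtain ⟨x, hxS, hxt⟩ := Ideal.IsPrime.prod_mem_iff.mp hmem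
      exact ht x (hS.le (Submodule.subset_span hxS)) hxt
    · change x ∈ I at hx
      rw [show I = Ideal.span (S : Set B) from hS.symm] at hx
      induction hx using Submodule.span_induction with
      | mem x hx =>
        obtain ⟨c, hc⟩ := Finset.dvd_prod_of_mem t hx
        rw [hc, mul_right_comm, htx x (hS.le (Submodule.subset_span hx)), zero_mul]
      | zero => exact mul_zero _
      | add a b _ _ ha hb => rw [mul_add, ha, hb, add_zero]
      | smul c a _ ha => rw [smul_eq_mul, mul_left_comm, ha, mul_zero]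
  · rintro ⟨g, hg, hgI⟩ m
    refine ⟨algebraMap B A g, hg, ?_⟩
    rw [algebraMap_smul]
    induction m using TensorProduct.induction_on with
    | zero => exact smul_zero _
    | add a b ha hb => rw [smul_add, ha, hb, add_zero]
    | tmul a x => rw [← TensorProduct.tmul_smul, show g • x = 0 from Subtype.ext (hgI x x.2), TensorProduct.tmul_zero]

theorem isIso_stalkMap_comp_left {A B C : Scheme.{u}} (i : A ⟶ B) [IsOpenImmersion i] (f : B ⟶ C) (x : A) :
    IsIso ((i ≫ f).stalkMap x) ↔ IsIso (f.stalkMap (i x)) := by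
  haveI : IsIso (i.stalkMap x) := inferInstance
  rw [Scheme.Hom.stalkMap_comp]
  exact isIso_comp_right_iff (f.stalkMap (i x)) (i.stalkMap x)

theorem isIso_stalkMap_comp_right {A B C : Scheme.{u}} (f : A ⟶ B) (i : B ⟶ C) [IsOpenImmersion i] (x : A) :
    IsIso ((f ≫ i).stalkMap x) ↔ IsIso (f.stalkMap x) := by
  haveI : IsIso (i.stalkMap (f x)) := inferInstance
  rw [Scheme.Hom.stalkMap_comp]
  exact isIso_comp_left_iff (i.stalkMap (f x)) (f.stalkMap x)

theorem isOpenImmersion_SpecMap_away (R : CommRingCat.{u}) (g : R) :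
    IsOpenImmersion (Spec.map (CommRingCat.ofHom (algebraMap R (Localization.Away g)))) :=
  IsOpenImmersion.of_isLocalization g

theorem isOpenImmersion_nhd_iff {Y X : Scheme.{u}} (j : Y ⟶ X) [IsImmersion j]
    [QuasiCompact j] [LocallyOfFinitePresentation j] (y : Y) :
    (∃ U : Y.Opens, y ∈ U ∧ IsOpenImmersion (U.ι ≫ j)) ↔
      Subsingleton ((Omega.conormal j).presheaf.stalk y) := by
  let k := j.liftCoborder
  let ι := j.coborderRange.ι
  haveI : LocallyOfFinitePresentation k := by
    haveI : LocallyOfFinitePresentation (k ≫ ι) := by rw [Scheme.Hom.liftCoborder_ι]; infer_instance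
    exact MorphismProperty.of_postcomp (W := @LocallyOfFinitePresentation) k ι
      (inferInstance : IsOpenImmersion ι) ‹_›
  obtain ⟨W, hW, hyW, -⟩ := exists_isAffineOpen_mem_and_subset (x := k y) (U := ⊤) trivial
  have hV : IsAffineOpen (k ⁻¹ᵁ W) := hW.preimage k
  let φ := k.app W
  have hφ : Function.Surjective φ := k.app_surjective W hW
  let a : Spec Γ(Y, k ⁻¹ᵁ W) ⟶ Y := hV.fromSpec
  let e : Spec Γ((j.coborderRange : Scheme.{u}), W) ⟶ X := hW.fromSpec ≫ ι
  have hcomm : a ≫ j = Spec.map φ ≫ e := by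
    show hV.fromSpec ≫ j = Spec.map φ ≫ hW.fromSpec ≫ ι
    rw [← Category.assoc, show Spec.map φ = Spec.map (k.appLE W (k ⁻¹ᵁ W) le_rfl) by
      rw [Scheme.Hom.appLE_eq_app], IsAffineOpen.SpecMap_appLE_fromSpec, Category.assoc, Scheme.Hom.liftCoborder_ι]
  have hrange : ∀ x, j x ∈ Set.range e → x ∈ Set.range a := by
    rintro x ⟨z, hz⟩
    show x ∈ Set.range hV.fromSpec
    rw [hV.range_fromSpec]
    have h1 : ι (k x) = ι (hW.fromSpec z) := by
      rw [← Scheme.Hom.comp_apply, Scheme.Hom.liftCoborder_ι, ← hz, Scheme.Hom.comp_apply]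
    show k x ∈ W
    rw [ι.isOpenEmbedding.injective h1]
    have := Set.mem_range_self (f := hW.fromSpec) z
    rwa [hW.range_fromSpec] at this
  obtain ⟨p, hp⟩ : y ∈ Set.range a := by
    show y ∈ Set.range hV.fromSpec
    rw [hV.range_fromSpec]
    exact hyW
  haveI : IsOpenImmersion e := inferInstanceAs (IsOpenImmersion (hW.fromSpec ≫ ι))
  obtain ⟨ec⟩ := CohCmpLib.ConormalChart.nonempty_conormal_chart e φ j a hcomm hrange
  rw [← hp, ← subsingleton_stalk_pullback_openImm, subsingleton_stalk_congr ec, subsingleton_tilde_stalk_iff]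
  letI := φ.hom.toAlgebra
  have hfg : (RingHom.ker φ.hom).FG := by
    haveI : Algebra.FinitePresentation Γ((j.coborderRange : Scheme.{u}), W) Γ(Y, k ⁻¹ᵁ W) := by
      have h := k.finitePresentation_appLE hW hV le_rfl
      rwa [Scheme.Hom.appLE_eq_app] at h
    exact Algebra.FinitePresentation.ker_fG_of_surjective (Algebra.ofId _ Γ(Y, k ⁻¹ᵁ W)) hφ
  refine Iff.trans ?_ (kernel_zero_at_iff hφ hfg p.asIdeal).symm
  constructor
  · rintro ⟨U, hyU, hU⟩
    haveI hj : IsIso (j.stalkMap (a p)) :=
      (isIso_stalkMap_comp_left U.ι j ⟨a p, hyU⟩).mp inferInstance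
    haveI : IsIso ((Spec.map φ).stalkMap p) := by
      have h1 : IsIso ((a ≫ j).stalkMap p) := (isIso_stalkMap_comp_left a j p).mpr hj
      refine (isIso_stalkMap_comp_right (Spec.map φ) e p).mp ?_
      rw [← hcomm]; exact h1
    have hbij : Function.Bijective
        (Localization.localRingHom (PrimeSpectrum.comap φ.hom p).asIdeal p.asIdeal φ.hom rfl) := by
      have h : IsIso (CommRingCat.ofHom
          (Localization.localRingHom (PrimeSpectrum.comap φ.hom p).asIdeal p.asIdeal φ.hom rfl)) :=
        ((MorphismProperty.isomorphisms _).arrow_mk_iso_iff (Scheme.arrowStalkMapSpecIso φ p)).mp ‹_›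
      exact (ConcreteCategory.isIso_iff_bijective _).mp h
    obtain ⟨S, hS⟩ := hfg
    have hz : ∀ x ∈ RingHom.ker φ.hom, ∃ t ∉ (PrimeSpectrum.comap φ.hom p).asIdeal, t * x = 0 := fun x hx => by
      obtain ⟨⟨t, ht⟩, htx⟩ := (IsLocalization.map_eq_zero_iff (PrimeSpectrum.comap φ.hom p).asIdeal.primeCompl _ x).mp
        (hbij.1 (by rw [Localization.localRingHom_to_map, RingHom.mem_ker.mp hx, map_zero, map_zero]))
      exact ⟨t, ht, htx⟩
    classical
    choose! t ht htx using hz
    refine ⟨∏ x ∈ S, t x, fun hmem => ?_, fun x hx => ?_⟩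
    · obtain ⟨x, hxS, hxt⟩ := Ideal.IsPrime.prod_mem_iff.mp hmem
      exact ht x (hS ▸ Submodule.subset_span hxS) hxt
    · rw [show RingHom.ker (algebraMap _ Γ(Y, k ⁻¹ᵁ W)) = Ideal.span (S : Set _) from hS.symm] at hx
      induction hx using Submodule.span_induction with
      | mem x hx =>
        obtain ⟨c, hc⟩ := Finset.dvd_prod_of_mem t hx
        rw [hc, mul_right_comm, htx x (hS ▸ Submodule.subset_span hx), zero_mul]
      | zero => exact mul_zero _
      | add a b _ _ ha hb => rw [mul_add, ha, hb, add_zero]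
      | smul c a _ ha => rw [smul_eq_mul, mul_left_comm, ha, mul_zero]
  · rintro ⟨g, hg, hgI⟩
    let α := Localization.awayMap φ.hom g
    have hα : Function.Bijective α := by
      refine ⟨(injective_iff_map_eq_zero _).mpr fun z hz => ?_, Localization.awayMap_surjective_iff.mpr fun b => ?_⟩
      · obtain ⟨b, ⟨_, n, rfl⟩, rfl⟩ := IsLocalization.exists_mk'_eq (Submonoid.powers g) z
        rw [show α (IsLocalization.mk' _ b _) = _ from IsLocalization.map_mk' _ _ _,
          IsLocalization.mk'_eq_zero_iff] at hz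
        obtain ⟨⟨_, m, rfl⟩, hm⟩ := hz
        rw [IsLocalization.mk'_eq_zero_iff]
        refine ⟨⟨g ^ (m + 1), m + 1, rfl⟩, ?_⟩
        have : φ.hom (g ^ m * b) = 0 := by rw [map_mul, map_pow]; exact hm
        show g ^ (m + 1) * b = 0
        rw [pow_succ', mul_assoc, hgI _ this]
      · obtain ⟨b', rfl⟩ := hφ b
        exact ⟨b', 0, by simp⟩
    let A' := CommRingCat.of (Localization.Away (φ.hom g))
    let c : Spec A' ⟶ Y := Spec.map (CommRingCat.ofHom (algebraMap Γ(Y, k ⁻¹ᵁ W) A')) ≫ a
    haveI : IsOpenImmersion c := by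
      haveI := IsOpenImmersion.of_isLocalization (S := A') (φ.hom g)
      infer_instance
    haveI : IsOpenImmersion (c ≫ j) := by
      haveI : IsIso (CommRingCat.ofHom α) := (ConcreteCategory.isIso_iff_bijective _).mpr hα
      let ψ : Γ((j.coborderRange : Scheme.{u}), W) ⟶ CommRingCat.of (Localization.Away g) :=
        CommRingCat.ofHom (algebraMap Γ((j.coborderRange : Scheme.{u}), W) (Localization.Away g))
      haveI : IsOpenImmersion (Spec.map ψ) := isOpenImmersion_SpecMap_away _ g
      have : c ≫ j = (Spec.map (CommRingCat.ofHom α) ≫ Spec.map ψ) ≫ e := by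
        rw [Category.assoc, hcomm, ← Category.assoc, ← Spec.map_comp, ← Spec.map_comp]
        congr 2
        ext b
        show algebraMap _ _ (φ.hom b) = Localization.awayMap φ.hom g (algebraMap _ _ b)
        exact (IsLocalization.map_eq _ b).symm
      rw [this]
      haveI : IsOpenImmersion e := inferInstanceAs (IsOpenImmersion (hW.fromSpec ≫ ι))
      infer_instance
    refine ⟨c.opensRange, ?_, ?_⟩
    · obtain ⟨z, hz⟩ : p ∈ Set.range (Spec.map (CommRingCat.ofHom (algebraMap Γ(Y, k ⁻¹ᵁ W) A'))) := by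
        show p ∈ Set.range (PrimeSpectrum.comap (algebraMap Γ(Y, k ⁻¹ᵁ W) (Localization.Away (φ.hom g))))
        rw [PrimeSpectrum.localization_away_comap_range (Localization.Away (φ.hom g)) (φ.hom g)]
        exact hg
      exact ⟨z, by rw [← hz]; rfl⟩
    · rw [← MorphismProperty.cancel_left_of_respectsIso @IsOpenImmersion c.isoOpensRange.hom, ← Category.assoc,
        Scheme.Hom.isoOpensRange_hom_ι]
      infer_instance

end Unram17Lib
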