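import Mathlib.RingTheory.Smooth.Local
import Mathlib.RingTheory.Etale.Kaehler
import Mathlib.RingTheory.LocalRing.ResidueField.Ideal
import Mathlib.RingTheory.LocalRing.Module
import Mathlib.RingTheory.Localization.Algebra
import Mathlib.RingTheory.Smooth.Locus

/-!
# The Jacobian criterion at a prime
-/

set_option autoImplicit false
set_option linter.style.haveILetI false
universe u
open TensorProduct

noncomputable section

namespace Unram17Lib

/-- Smoothness of a quotient at a prime: generators with independent differentials. -/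
theorem isSmoothAt_quotient_iff (R A : Type u) [CommRing R] [CommRing A] [Algebra R A]
    (I : Ideal A) (hI : I.FG) (P : Ideal (A ⧸ I)) [P.IsPrime]
    [Algebra.EssFiniteType R (Localization.AtPrime (P.comap (Ideal.Quotient.mk I)))]
    [Algebra.FormallySmooth R (Localization.AtPrime (P.comap (Ideal.Quotient.mk I)))] :
    letI q : Ideal A := P.comap (Ideal.Quotient.mk I)
    Algebra.IsSmoothAt R P ↔ ∃ s : Finset A, (↑s : Set A) ⊆ (I : Set A) ∧
      Ideal.map (algebraMap A (Localization.AtPrime q)) I =
        Ideal.span ((algebraMap A (Localization.AtPrime q)) '' (↑s : Set A)) ∧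
      LinearIndependent q.ResidueField
        (fun g : ↥s => (1 : q.ResidueField) ⊗ₜ[A] KaehlerDifferential.D R A (g : A)) := by
  classical
  let q : Ideal A := P.comap (Ideal.Quotient.mk I)
  let A' := Localization.AtPrime q
  let S := Localization.AtPrime P
  let K := q.ResidueField
  letI algS : Algebra A' S := (Localization.localRingHom q P (Ideal.Quotient.mk I) rfl).toAlgebra
  haveI : IsScalarTower R A' S := IsScalarTower.of_algebraMap_eq fun c => by
    rw [IsScalarTower.algebraMap_apply R A A', IsScalarTower.algebraMap_apply R (A ⧸ I) S,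
      RingHom.algebraMap_toAlgebra, Localization.localRingHom_to_map]
    rfl
  have hIq : I ≤ q := fun a ha => by
    show Ideal.Quotient.mk I a ∈ P
    rw [Ideal.Quotient.eq_zero_iff_mem.mpr ha]
    exact zero_mem P
  let θ : A ⧸ I →+* K := Ideal.Quotient.lift I (algebraMap A K) fun a ha =>
    Ideal.algebraMap_residueField_eq_zero.mpr (hIq ha)
  have huQ : ∀ y : P.primeCompl, IsUnit (θ y) := by
    rintro ⟨y, hy⟩
    obtain ⟨a, rfl⟩ := Ideal.Quotient.mk_surjective y
    exact IsUnit.mk0 _ fun h => hy (Ideal.algebraMap_residueField_eq_zero.mp h : a ∈ q)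
  letI algSK : Algebra S K := (IsLocalization.lift huQ).toAlgebra
  haveI : IsScalarTower A' S K := IsScalarTower.of_algebraMap_eq' <| IsLocalization.ringHom_ext q.primeCompl <|
    RingHom.ext fun r => by
      show algebraMap A' K (algebraMap A A' r) =
        IsLocalization.lift huQ (Localization.localRingHom q P (Ideal.Quotient.mk I) rfl (algebraMap A A' r))
      rw [Localization.localRingHom_to_map, IsLocalization.lift_eq, ← IsScalarTower.algebraMap_apply A A' K]
      rfl
  haveI : Module.Free A' Ω[A'⁄R] := Module.free_of_flat_of_isLocalRing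
  have hT : Submonoid.map (Ideal.Quotient.mk I) q.primeCompl = P.primeCompl := by
    ext y
    refine ⟨?_, fun hy => ?_⟩
    · rintro ⟨x, hx, rfl⟩
      exact hx
    · obtain ⟨x, rfl⟩ := Ideal.Quotient.mk_surjective y
      exact ⟨x, hy, rfl⟩
  have h₁ : Function.Surjective (algebraMap A' S) := by
    intro z
    obtain ⟨a, s, rfl⟩ := IsLocalization.exists_mk'_eq P.primeCompl z
    obtain ⟨a, rfl⟩ := Ideal.Quotient.mk_surjective a
    obtain ⟨t, ht⟩ := Ideal.Quotient.mk_surjective (s : A ⧸ I)
    refine ⟨IsLocalization.mk' A' a (⟨t, fun h => s.2 (ht ▸ h : (s : A ⧸ I) ∈ P)⟩ : q.primeCompl), ?_⟩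
    refine (Localization.localRingHom_mk' q P (Ideal.Quotient.mk I) rfl a _).trans ?_
    exact congrArg (IsLocalization.mk' S (Ideal.Quotient.mk I a)) (Subtype.ext ht)
  have hker : RingHom.ker (algebraMap A' S) = I.map (algebraMap A A') := by
    refine (@IsLocalization.ker_map A A' (A ⧸ I) S _ _ _ _ q.primeCompl P.primeCompl _ _ _ _
      (Ideal.Quotient.mk I) hT).trans ?_
    rw [Ideal.mk_ker]
  have h₂ : (RingHom.ker (algebraMap A' S)).FG := hker ▸ hI.map _
  have h₃ : IsLocalRing.maximalIdeal S ≤ RingHom.ker (algebraMap S K) := by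
    intro z hz
    obtain ⟨a, s, rfl⟩ := IsLocalization.exists_mk'_eq P.primeCompl z
    replace hz := (IsLocalization.AtPrime.mk'_mem_maximal_iff S P a s).mp hz
    obtain ⟨a, rfl⟩ := Ideal.Quotient.mk_surjective a
    rw [RingHom.mem_ker]
    show IsLocalization.lift huQ (IsLocalization.mk' S _ s) = 0
    rw [IsLocalization.lift_mk'_spec, mul_zero]
    exact Ideal.algebraMap_residueField_eq_zero.mpr (hz : a ∈ q)
  haveI := Algebra.FormallyEtale.of_isLocalization (Rₘ := A') q.primeCompl
  let e : K ⊗[A] Ω[A⁄R] ≃ₗ[K] K ⊗[A'] Ω[A'⁄R] :=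
    (AlgebraTensorModule.cancelBaseChange A A' K K Ω[A⁄R]).symm ≪≫ₗ
      AlgebraTensorModule.congr (LinearEquiv.refl K K) (KaehlerDifferential.tensorKaehlerEquivOfFormallyEtale R A A')
  have he : ∀ a : A, e (1 ⊗ₜ KaehlerDifferential.D R A a) = 1 ⊗ₜ KaehlerDifferential.D R A' (algebraMap A A' a) :=
    fun a => by simp [e]
  show Algebra.FormallySmooth R S ↔ _
  rw [Algebra.FormallySmooth.iff_injective_cotangentComplexBaseChange A' K h₁ h₂ h₃]
  let J := RingHom.ker (algebraMap A' S)
  let g : I → J := fun a => ⟨algebraMap A A' a, hker.ge (Ideal.mem_map_of_mem _ a.2)⟩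
  let φ : K ⊗[A'] J →ₗ[K] K ⊗[A'] Ω[A'⁄R] := KaehlerDifferential.cotangentComplexBaseChange R S A' K
  have hφ : ∀ a : I, φ (1 ⊗ₜ g a) = e (1 ⊗ₜ KaehlerDifferential.D R A (a : A)) := fun a => by
    rw [he]
    refine (KaehlerDifferential.cotangentComplexBaseChange_tmul (R := R) (S := S) (P := A') (A := K) 1 (g a)).trans ?_
    rw [one_smul]
    rfl
  constructor
  · intro hinj
    have hgtop : Submodule.span A' (Set.range g) = ⊤ := by
      apply Submodule.map_injective_of_injective J.injective_subtype
      rw [Submodule.map_span, Submodule.map_top, Submodule.range_subtype, ← Set.range_comp]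
      refine Eq.trans ?_ hker.symm
      rw [Ideal.map]
      congr 1
      ext z
      constructor
      · rintro ⟨a, rfl⟩
        exact ⟨a, a.2, rfl⟩
      · rintro ⟨a, ha, rfl⟩
        exact ⟨⟨a, ha⟩, rfl⟩
    have hspan : Submodule.span K (Set.range fun a => (1 : K) ⊗ₜ[A'] g a) = ⊤ := by
      rw [show Set.range (fun a => (1 : K) ⊗ₜ[A'] g a) = TensorProduct.mk A' K J 1 '' Set.range g by
        rw [← Set.range_comp]; rfl, ← Submodule.baseChange_span, hgtop, Submodule.baseChange_top]
    haveI : Module.Finite A' J := Module.Finite.of_fg h₂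
    obtain ⟨b, hbsub, hbspan, hbind⟩ := exists_linearIndependent K (Set.range fun a => (1 : K) ⊗ₜ[A'] g a)
    haveI : Finite b := hbind.finite
    haveI := Fintype.ofFinite b
    choose a ha using fun y : b => hbsub y.2
    have hbtop : Submodule.span K (b : Set (K ⊗[A'] J)) = ⊤ := hbspan.trans hspan
    let bb : Module.Basis b K (K ⊗[A'] J) := Module.Basis.mk hbind (by rw [Subtype.range_coe, hbtop])
    have hgen : Submodule.span A' (Set.range (g ∘ a)) = ⊤ :=
      IsLocalRing.span_eq_top_of_tmul_eq_basis (g ∘ a) bb fun i => by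
        rw [Module.Basis.mk_apply]
        exact ha i
    have hainj : Function.Injective fun i => ((a i : I) : A) := fun i j h =>
      Subtype.ext (by rw [← ha i, ← ha j, Subtype.ext h])
    refine ⟨Finset.univ.image fun i => ((a i : I) : A), ?_, ?_, ?_⟩
    · intro x hx
      obtain ⟨i, -, rfl⟩ := Finset.mem_image.mp (Finset.mem_coe.mp hx)
      exact (a i).2
    · rw [Finset.coe_image, Finset.coe_univ, Set.image_univ, ← Set.range_comp, ← hker]
      have := congrArg (Submodule.map J.subtype) hgen
      rw [Submodule.map_span, Submodule.map_top, Submodule.range_subtype, ← Set.range_comp] at this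
      exact this.symm
    · have hli : LinearIndependent K fun i => (1 : K) ⊗ₜ[A] KaehlerDifferential.D R A ((a i : I) : A) := by
        have h := hbind.map' φ (LinearMap.ker_eq_bot.mpr hinj)
        have h' := h.map' e.symm.toLinearMap (LinearEquiv.ker _)
        have hf : (fun i => (1 : K) ⊗ₜ[A] KaehlerDifferential.D R A ((a i : I) : A)) =
            e.symm.toLinearMap ∘ φ ∘ Subtype.val := funext fun i => by
          show _ = e.symm (φ (i : K ⊗[A'] J))
          rw [← ha i, hφ, LinearEquiv.symm_apply_apply]
        rw [hf]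
        exact h'
      have himg : ∀ x : ↥(Finset.univ.image fun i => ((a i : I) : A)), ∃ i, ((a i : I) : A) = x := fun x => by
        obtain ⟨i, -, hi⟩ := Finset.mem_image.mp x.2
        exact ⟨i, hi⟩
      choose σ hσ using himg
      have := hli.comp σ fun x y h => Subtype.ext (by rw [← hσ x, ← hσ y, h])
      simpa only [Function.comp_def, hσ] using this
  · rintro ⟨s, hsI, hs, hli⟩
    let gs : ↥s → J := fun x => g ⟨x, hsI x.2⟩
    have hgtop : Submodule.span A' (Set.range gs) = ⊤ := by
      apply Submodule.map_injective_of_injective J.injective_subtype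
      rw [Submodule.map_span, Submodule.map_top, Submodule.range_subtype, ← Set.range_comp]
      refine Eq.trans ?_ (hker.trans hs).symm
      congr 1
      ext z
      constructor
      · rintro ⟨a, rfl⟩
        exact ⟨a, a.2, rfl⟩
      · rintro ⟨a, ha, rfl⟩
        exact ⟨⟨a, ha⟩, rfl⟩
    have hspan : Submodule.span K (Set.range fun x => (1 : K) ⊗ₜ[A'] gs x) = ⊤ := by
      rw [show Set.range (fun x => (1 : K) ⊗ₜ[A'] gs x) = TensorProduct.mk A' K J 1 '' Set.range gs by
        rw [← Set.range_comp]; rfl, ← Submodule.baseChange_span, hgtop, Submodule.baseChange_top]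
    have hli' : LinearIndependent K fun x => φ ((1 : K) ⊗ₜ gs x) := by
      have h := hli.map' e.toLinearMap (LinearEquiv.ker _)
      have hf : (fun x => φ ((1 : K) ⊗ₜ gs x)) =
          e.toLinearMap ∘ fun x : ↥s => (1 : K) ⊗ₜ[A] KaehlerDifferential.D R A (x : A) := funext fun x => hφ _
      rw [hf]
      exact h
    refine (injective_iff_map_eq_zero φ).mpr fun z hz => ?_
    obtain ⟨c, rfl⟩ := (Submodule.mem_span_range_iff_exists_fun K).mp (hspan.ge (Submodule.mem_top (x := z)))
    simp only [map_sum, map_smul] at hz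
    have hc := Fintype.linearIndependent_iff.mp hli' c hz
    exact Finset.sum_eq_zero fun i _ => by rw [hc i, zero_smul]

theorem linearIndependent_singleton_finset {K : Type u} [Field K] {M : Type u} [AddCommGroup M] [Module K M]
    {ι : Type u} (f : ι → M) (a : ι) (h : f a ≠ 0) :
    LinearIndependent K fun g : ↥({a} : Finset ι) => f g :=
  haveI : Unique ↥({a} : Finset ι) :=
    ⟨⟨⟨a, Finset.mem_singleton_self a⟩⟩, fun x => Subtype.ext (Finset.mem_singleton.mp x.2)⟩
  linearIndependent_unique_iff.mpr (by
    rw [Finset.mem_singleton.mp (default : ↥({a} : Finset ι)).2]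
    exact h)

end Unram17Lib
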