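import Groth.Agent.Unram17Lib.AdaptedCoord
import Mathlib.RingTheory.TensorProduct.Quotient
import Mathlib.RingTheory.Flat.TorsionFree
import Mathlib.AlgebraicGeometry.Morphisms.Smooth

/-!
# Smooth effective Cartier divisors from a nonzero differential
-/

set_option autoImplicit false
set_option linter.style.haveILetI false
universe u
open TensorProduct CategoryTheory AlgebraicGeometry

noncomputable section

namespace Unram17Lib

/-- The quotient of a polynomial ring by the first group of variables. -/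
def quotientVarsEquiv (A : Type u) [CommRing A] (r m : ℕ) :
    (MvPolynomial (Fin r ⊕ Fin m) A ⧸
      Ideal.span (Set.range fun i : Fin r => (MvPolynomial.X (Sum.inl i) : MvPolynomial (Fin r ⊕ Fin m) A)))
        ≃ₐ[A] MvPolynomial (Fin m) A :=
  AlgEquiv.ofAlgHom
    (Ideal.Quotient.liftₐ _ (MvPolynomial.aeval (Sum.elim 0 MvPolynomial.X)) fun a ha => by
      have hle : Ideal.span (Set.range fun i : Fin r => (MvPolynomial.X (Sum.inl i) : MvPolynomial (Fin r ⊕ Fin m) A)) ≤
          RingHom.ker (MvPolynomial.aeval (Sum.elim 0 MvPolynomial.X) :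
            MvPolynomial (Fin r ⊕ Fin m) A →ₐ[A] MvPolynomial (Fin m) A) := by
        rw [Ideal.span_le]
        rintro _ ⟨i, rfl⟩
        simp
      exact hle ha)
    ((Ideal.Quotient.mkₐ A _).comp (MvPolynomial.rename Sum.inr))
    (MvPolynomial.algHom_ext fun i => by simp)
    (Ideal.Quotient.algHom_ext A (MvPolynomial.algHom_ext fun i => by
      rcases i with i | i
      · simp only [AlgHom.comp_apply, Ideal.Quotient.mkₐ_eq_mk, Ideal.Quotient.liftₐ_apply, Ideal.Quotient.lift_mk]
        simp only [RingHom.coe_coe, MvPolynomial.aeval_X, Sum.elim_inl, Pi.zero_apply, map_zero, AlgHom.coe_id, id_eq]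
        exact (Ideal.Quotient.eq_zero_iff_mem.mpr (Ideal.subset_span (Set.mem_range_self (f := fun j : Fin r => (MvPolynomial.X (Sum.inl j) : MvPolynomial (Fin r ⊕ Fin m) A)) i))).symm
      · simp))

theorem exists_smooth_quotient_span_singleton {A B : Type u} [CommRing A] [CommRing B] [Algebra A B]
    [Algebra.FinitePresentation A B] (q : Ideal B) [q.IsPrime] [Algebra.IsSmoothAt A q] (b : B) (hb : b ∈ q)
    (hdb : (1 : q.ResidueField) ⊗ₜ[B] KaehlerDifferential.D A B b ≠ 0) :
    ∃ f : B, f ∉ q ∧ algebraMap B (Localization.Away f) b ∈ nonZeroDivisors (Localization.Away f) ∧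
      Algebra.Smooth A (Localization.Away f ⧸ Ideal.span {algebraMap B (Localization.Away f) b}) := by
  have hr : Set.range (fun _ : Fin 1 => b) = {b} := Set.range_const
  obtain ⟨f, hf, m, g', het, hspan⟩ := exists_etale_coordinates_of_linearIndependent A B (Ideal.span {b})
    ⟨{b}, by simp⟩ q 1 (fun _ => b) (fun _ => Ideal.mem_span_singleton_self b)
    (by rw [Ideal.map_span, Set.image_singleton, Set.range_const])
    (linearIndependent_unique_iff.mpr hdb)
  let P := MvPolynomial (Fin 1 ⊕ Fin m) A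
  let L := Localization.Away f
  let π : P →ₐ[A] L := MvPolynomial.aeval (Sum.elim (fun _ => algebraMap B L b) g')
  letI : Algebra P L := π.toRingHom.toAlgebra
  haveI : IsScalarTower A P L := IsScalarTower.of_algebraMap_eq fun a => (π.commutes a).symm
  haveI : Algebra.Etale P L := RingHom.etale_algebraMap.mp het
  let I : Ideal P := Ideal.span (Set.range fun i : Fin 1 => (MvPolynomial.X (Sum.inl i) : P))
  have hX : algebraMap P L (MvPolynomial.X (Sum.inl 0)) = algebraMap B L b := MvPolynomial.aeval_X _ _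
  have hIL : I.map (algebraMap P L) = Ideal.span {algebraMap B L b} := by
    rw [Ideal.map_span, ← Set.range_comp, ← hX]
    congr 1
    ext z
    simp [Fin.exists_fin_one, eq_comm]
  refine ⟨f, hf, ?_, ?_⟩
  · have hreg : IsSMulRegular L (MvPolynomial.X (Sum.inl 0) : P) :=
      Module.Flat.isSMulRegular_of_isRegular MvPolynomial.isRegular_X
    rw [mem_nonZeroDivisors_iff_right]
    intro z hz
    refine hreg (a₁ := z) (a₂ := 0) ?_
    show MvPolynomial.X (Sum.inl 0) • z = (MvPolynomial.X (Sum.inl 0) : P) • (0 : L)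
    rw [smul_zero, Algebra.smul_def, hX, mul_comm, hz]
  · rw [← hIL]
    haveI : Algebra.Smooth A (P ⧸ I) :=
      haveI : Algebra.Smooth A (MvPolynomial (Fin m) A) := ⟨inferInstance, inferInstance⟩
      Algebra.Smooth.of_equiv (quotientVarsEquiv A 1 m).symm
    haveI : Algebra.Etale (P ⧸ I) ((P ⧸ I) ⊗[P] L) := inferInstance
    haveI : Algebra.Etale (P ⧸ I) (L ⧸ I.map (algebraMap P L)) :=
      Algebra.Etale.of_equiv (A := (P ⧸ I) ⊗[P] L) (Algebra.TensorProduct.quotIdealMapEquivQuotTensor L I).symm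
    haveI : IsScalarTower A (P ⧸ I) (L ⧸ I.map (algebraMap P L)) :=
      IsScalarTower.of_algebraMap_eq (R := A) (S := P ⧸ I) (A := L ⧸ I.map (algebraMap P L)) fun a => by
      rw [IsScalarTower.algebraMap_apply A L (L ⧸ I.map (algebraMap P L)), IsScalarTower.algebraMap_apply A P L]
      rfl
    exact Algebra.Smooth.comp A (P ⧸ I) _

/-- A section with nonzero differential at a point of the smooth locus cuts out a smooth Cartier divisor. -/
theorem exists_smooth_effCartier {X S : Scheme.{u}} (f : X ⟶ S) (x : X)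
    (W : X.Opens) (hxW : x ∈ W) (hW : Smooth (W.ι ≫ f))
    (h : ↑(X.presheaf.stalk x)) (hm : h ∈ IsLocalRing.maximalIdeal ↑(X.presheaf.stalk x))
    (hd : letI := (f.stalkMap x).hom.toAlgebra
      (1 : IsLocalRing.ResidueField ↑(X.presheaf.stalk x)) ⊗ₜ[↑(X.presheaf.stalk x)]
          (KaehlerDifferential.D ↑(S.presheaf.stalk (f x)) ↑(X.presheaf.stalk x) h) ≠ 0) :
    ∃ (U : X.Opens) (hU : IsAffineOpen U) (hx : x ∈ U) (h' : Γ(X, U)), X.presheaf.germ U x hx h' = h ∧
      h' ∈ nonZeroDivisors Γ(X, U) ∧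
      Smooth (Spec.map (CommRingCat.ofHom (Ideal.Quotient.mk (Ideal.span {h'}))) ≫ hU.fromSpec ≫ f) := by
  obtain ⟨_, ⟨W₀, hW₀, rfl⟩, hxW₀, -⟩ :=
    S.isBasis_affineOpens.exists_subset_of_mem_open (Set.mem_univ (f x)) isOpen_univ
  obtain ⟨V, hxV, c, hc⟩ := X.presheaf.exists_germ_eq h
  obtain ⟨_, ⟨U, hU, rfl⟩, hxU, hUle⟩ := X.isBasis_affineOpens.exists_subset_of_mem_open
    (show x ∈ W ⊓ V ⊓ f ⁻¹ᵁ W₀ from ⟨⟨hxW, hxV⟩, hxW₀⟩) (W ⊓ V ⊓ f ⁻¹ᵁ W₀).isOpen
  have e : U ≤ f ⁻¹ᵁ W₀ := fun z hz => (hUle hz).2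
  have eW : U ≤ W := fun z hz => (hUle hz).1.1
  let A := Γ(S, W₀)
  let B := Γ(X, U)
  let O := X.presheaf.stalk x
  let b : B := X.presheaf.map (homOfLE (show U ≤ V from fun z hz => (hUle hz).1.2)).op c
  have hgb : X.presheaf.germ U x hxU b = h := by
    rw [← hc]; exact X.presheaf.germ_res_apply _ x hxU c
  have hsm : (f.appLE W₀ U e).hom.Smooth := by
    haveI := hW
    have hr : U ≤ W.ι.opensRange := by rw [Scheme.Opens.opensRange_ι]; exact eW
    haveI := W.ι.isIso_app U hr
    have h2 := (W.ι ≫ f).smooth_appLE hW₀ (hU.preimage_of_isOpenImmersion W.ι hr) (fun z hz => e hz)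
    have h3 : f.appLE W₀ U e ≫ W.ι.app U = (W.ι ≫ f).appLE W₀ (W.ι ⁻¹ᵁ U) (fun z hz => e hz) := by
      rw [Scheme.Hom.app_eq_appLE, Scheme.Hom.appLE_comp_appLE]
    rw [← h3] at h2
    exact (RingHom.Smooth.propertyIsLocal.respectsIso.cancel_right_isIso (f.appLE W₀ U e) (W.ι.app U)).mp h2
  letI : Algebra A B := (f.appLE W₀ U e).hom.toAlgebra
  haveI : Algebra.Smooth A B := hsm
  let q := (hU.primeIdealOf ⟨x, hxU⟩).asIdeal
  letI aB : Algebra B O := TopCat.Presheaf.algebra_section_stalk X.presheaf (⟨x, hxU⟩ : U)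
  haveI hlocO : IsLocalization.AtPrime O q := hU.isLocalization_stalk ⟨x, hxU⟩
  let OS := S.presheaf.stalk (f x)
  letI : Algebra A OS := TopCat.Presheaf.algebra_section_stalk S.presheaf (⟨f x, hxW₀⟩ : W₀)
  letI : Algebra OS O := (f.stalkMap x).hom.toAlgebra
  letI : Algebra A O := ((algebraMap B O).comp (algebraMap A B)).toAlgebra
  haveI : IsScalarTower A B O := IsScalarTower.of_algebraMap_eq fun _ => rfl
  haveI : IsScalarTower A OS O := IsScalarTower.of_algebraMap_eq fun a => by
    show X.presheaf.germ U x hxU (f.appLE W₀ U e a) = f.stalkMap x (S.presheaf.germ W₀ (f x) hxW₀ a)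
    rw [← CommRingCat.comp_apply, ← CommRingCat.comp_apply, Scheme.Hom.germ_stalkMap, Scheme.Hom.appLE,
      Category.assoc, TopCat.Presheaf.germ_res]
  have hbq : b ∈ q := by
    rw [← IsLocalization.AtPrime.to_map_mem_maximal_iff O q b]
    exact (show algebraMap B O b = h from hgb) ▸ hm
  let κ := IsLocalRing.ResidueField O
  have hdb : (1 : q.ResidueField) ⊗ₜ[B] KaehlerDifferential.D A B b ≠ 0 := by
    intro hzero
    refine hd ?_
    let eL : Localization.AtPrime q ≃ₐ[B] O := IsLocalization.algEquiv q.primeCompl _ _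
    let φ : q.ResidueField →+* κ := (IsLocalRing.ResidueField.mapEquiv eL.toRingEquiv).toRingHom
    let φl : q.ResidueField →ₗ[B] κ :=
      { φ with
        map_smul' := fun c k => by
          obtain ⟨k, rfl⟩ := IsLocalRing.residue_surjective k
          show φ (c • IsLocalRing.residue _ k) = c • φ (IsLocalRing.residue _ k)
          rw [Algebra.smul_def, map_mul, Algebra.smul_def]
          congr 1
          show IsLocalRing.residue O (eL (algebraMap B _ c)) = IsLocalRing.residue O (algebraMap B O c)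
          rw [eL.commutes] }
    let f₁ := TensorProduct.map φl (KaehlerDifferential.map A OS B O)
    let f₂ := TensorProduct.mapOfCompatibleSMul O B B κ Ω[O⁄OS]
    have := congrArg (fun z => f₂ (f₁ z)) hzero
    simp only [map_zero, f₁, f₂, TensorProduct.map_tmul, KaehlerDifferential.map_D] at this
    rw [← show algebraMap B O b = h from hgb]
    convert this using 2
    simp [φl]
    rfl
  obtain ⟨r, hr, hreg, hsmq⟩ := exists_smooth_quotient_span_singleton q b hbq hdb
  let U' := X.basicOpen r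
  have hU' : IsAffineOpen U' := hU.basicOpen r
  have hle : U' ≤ U := X.basicOpen_le r
  haveI : IsLocalization.Away r Γ(X, U') := hU.isLocalization_basicOpen r
  let h' : Γ(X, U') := algebraMap B Γ(X, U') b
  have hxU' : x ∈ U' := by
    rw [X.mem_basicOpen _ _ hxU]
    exact (IsLocalization.AtPrime.isUnit_to_map_iff O q r).mpr hr
  let ε := IsLocalization.algEquiv (Submonoid.powers r) (Localization.Away r) Γ(X, U')
  have hεb : ε (algebraMap B _ b) = h' := ε.commutes b
  refine ⟨U', hU', hxU', h', ?_, ?_, ?_⟩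
  · rw [← hgb]; exact X.presheaf.germ_res_apply (homOfLE hle) x hxU' b
  · rw [mem_nonZeroDivisors_iff_right]
    intro z hz
    obtain ⟨z, rfl⟩ := ε.surjective z
    rw [← hεb, ← map_mul, map_eq_zero_iff ε ε.injective] at hz
    rw [hreg.2 z hz, map_zero]
  · have e' : U' ≤ f ⁻¹ᵁ W₀ := hle.trans e
    rw [← IsAffineOpen.SpecMap_appLE_fromSpec f hW₀ hU' e', ← Category.assoc, ← Spec.map_comp]
    haveI : Smooth (Spec.map (f.appLE W₀ U' e' ≫ CommRingCat.ofHom (Ideal.Quotient.mk (Ideal.span {h'})))) := by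
      rw [HasRingHomProperty.Spec_iff (P := @Smooth)]
      letI : Algebra A Γ(X, U') := (f.appLE W₀ U' e').hom.toAlgebra
      haveI : IsScalarTower A B Γ(X, U') := IsScalarTower.of_algebraMap_eq fun a => by
        show (f.appLE W₀ U' e') a = (X.presheaf.map (homOfLE hle).op) ((f.appLE W₀ U e) a)
        rw [← CommRingCat.comp_apply, Scheme.Hom.appLE_map]
      have hi : Ideal.span {h'} = (Ideal.span {algebraMap B (Localization.Away r) b}).map
          ((ε.restrictScalars A) : Localization.Away r →+* Γ(X, U')) := by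
        rw [Ideal.map_span, Set.image_singleton]
        exact congrArg (fun z => Ideal.span {z}) hεb.symm
      haveI := hsmq
      have : Algebra.Smooth A (Γ(X, U') ⧸ Ideal.span {h'}) :=
        Algebra.Smooth.of_equiv (Ideal.quotientEquivAlg _ _ (ε.restrictScalars A) hi)
      rw [← RingHom.smooth_algebraMap] at this
      exact this
    infer_instance

end Unram17Lib
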